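import Cfsg.Agent.Lib.BStd.VB

set_option autoImplicit false
set_option maxRecDepth 100000

namespace H18.BS

open Cfsg H16 H95 H48.BR Subgroup H75.WC

namespace VC

theorem U_eq : vU = pp none (some 0) := Subtype.ext (by decide +kernel)

theorem xx_zero : xx (some 0) = 0 := by rw [xx, ← U_eq, mk_U]

theorem xx_none : xx none = bb := by
  rw [xx, bb, show pp none none = e8 none from Subtype.ext (by decide +kernel)]

theorem min_sub {w : leechLattice} (h : w ∈ H16.Min)
    (d : dotInt (vU : GolayPt → ℤ) (w : GolayPt → ℤ) = 16) :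
    vU - w ∈ H16.Min ∧ dotInt (vU : GolayPt → ℤ) ((vU - w : leechLattice) : GolayPt → ℤ) = 16 := by
  rw [mem_Min] at h ⊢
  rw [AddSubgroup.coe_sub, sqNorm_sub, dotInt_sub_right, dotInt_self, norm_U]
  omega

theorem pair_aux {w w' : leechLattice} (h : w ∈ H16.Min) (h' : w' ∈ H16.Min)
    (d : dotInt (vU : GolayPt → ℤ) (w : GolayPt → ℤ) = 16)
    (d' : dotInt (vU : GolayPt → ℤ) (w' : GolayPt → ℤ) = 16) (c : Cg (w + w') (e8 none)) :
    ∃ i, Pt i ∧ (mk w = xx i ∨ mk w = xx i + bb) := by
  rw [mem_Min] at h h'
  have c' : Cg (w - w') (e8 none) := (cg_iff.2 ⟨-w', by abel⟩ : Cg (w - w') (w + w')).trans c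
  have n1 : sqNorm ((w + w' : leechLattice) : GolayPt → ℤ) = 64 + 2 * dotInt (w : GolayPt → ℤ) w' := by
    rw [AddSubgroup.coe_add, sqNorm_add]; omega
  have n2 : sqNorm ((w - w' : leechLattice) : GolayPt → ℤ) = 64 - 2 * dotInt (w : GolayPt → ℤ) w' := by
    rw [AddSubgroup.coe_sub, sqNorm_sub]; omega
  have n0 : dotInt (w : GolayPt → ℤ) w' = 0 := by
    rcases le_total (dotInt (w : GolayPt → ℤ) w') 0 with l | l
    · have := c.norm_eq (by omega) (by rw [sqNorm_e8])
      rw [sqNorm_e8] at this; omega
    · have := c'.norm_eq (by omega) (by rw [sqNorm_e8])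
      rw [sqNorm_e8] at this; omega
  have d1 : dotInt (vU : GolayPt → ℤ) ((w + w' : leechLattice) : GolayPt → ℤ) = 32 := by
    rw [AddSubgroup.coe_add, dotInt_add_right]; omega
  have d2 : dotInt (vU : GolayPt → ℤ) ((w - w' : leechLattice) : GolayPt → ℤ) = 0 := by
    rw [AddSubgroup.coe_sub, dotInt_sub_right]; omega
  obtain ⟨k, hk⟩ := eq_e8_of_congr (n1.trans (by omega)) c
  obtain ⟨l, hl⟩ := eq_e8_of_congr (n2.trans (by omega)) c'
  have hl' : Pt l := by
    rcases hl with e | e <;> rw [e, dot_U] at d2 <;>
      simp only [AddSubgroup.coe_neg, Pi.neg_apply, e8_apply] at d2 <;>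
      exact ⟨fun f => by subst f; simp at d2, fun f => by subst f; simp at d2⟩
  have hk' : w + w' = e8 k ∧ mk (pp k l) = xx k + xx l + bb ∧ (xx k = 0 ∨ xx k = bb) := by
    rcases hk with e | e <;> rw [e, dot_U] at d1 <;>
      simp only [AddSubgroup.coe_neg, Pi.neg_apply, e8_apply] at d1
    · refine ⟨e, mk_pp _ _, ?_⟩
      by_cases f : none = k
      · exact Or.inr (f ▸ xx_none)
      · by_cases g : some 0 = k
        · exact Or.inl (g ▸ xx_zero)
        · simp [f, g] at d1
    · split_ifs at d1 <;> omega
  have hw : w = pp k l ∨ w = pm k l := hl.imp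
    (fun e => Subtype.ext (funext fun p => by
      have a := congrArg (fun v : leechLattice => (v : GolayPt → ℤ) p) e
      have b := congrArg (fun v : leechLattice => (v : GolayPt → ℤ) p) hk'.1
      simp only [AddSubgroup.coe_add, AddSubgroup.coe_sub, Pi.add_apply, Pi.sub_apply, e8_apply] at a b
      rw [pp_apply]; split_ifs at a b ⊢ <;> omega))
    fun e => Subtype.ext (funext fun p => by
      have a := congrArg (fun v : leechLattice => (v : GolayPt → ℤ) p) e
      have b := congrArg (fun v : leechLattice => (v : GolayPt → ℤ) p) hk'.1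
      simp only [AddSubgroup.coe_add, AddSubgroup.coe_sub, Pi.add_apply, Pi.sub_apply, e8_apply,
        AddSubgroup.coe_neg, Pi.neg_apply] at a b
      rw [pm_apply]; split_ifs at a b ⊢ <;> omega)
  refine ⟨l, hl', ?_⟩
  rcases hw with e | e <;> rcases hk'.2.2 with f | f <;> rw [e]
  · exact Or.inr (by rw [mk_pp, f, zero_add])
  · exact Or.inl (by rw [mk_pp, f]; linear_combination bb * two0)
  · exact Or.inl (by rw [mk_pm, mk_pp, f]; linear_combination bb * two0)
  · exact Or.inr (by rw [mk_pm, mk_pp, f]; linear_combination bb * two0)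

/-- a vector of type four with inner product 16 is not in one of the 2300 classes -/
theorem not_ta {v : leechLattice} (n : sqNorm (v : GolayPt → ℤ) = 64)
    (d : dotInt (vU : GolayPt → ℤ) (v : GolayPt → ℤ) = 16) : ¬ TA (mk v) := by
  rintro ⟨w, h, dw, e⟩
  obtain ⟨h', -⟩ := min_sub h dw
  rw [mem_Min] at h h'
  rcases (mk_eq_iff (pp_of_dot (k := 1) dw) (pp_of_dot (k := 1) d)).1 e with c | c
  · have := c.norm_eq (by omega) (by omega)
    omega
  · have := ((cg_iff.2 ⟨-w, by abel⟩ : Cg (vU - w) (w + vU)).trans c).norm_eq (by omega) (by omega)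
    omega

theorem not_ta3 {i j : GolayPt} (hi : Pt i) (hj : Pt j) (i1 : i ≠ some 1) (j1 : j ≠ some 1) (h : i ≠ j) :
    ¬ TA (xx i + xx j + tb + bb) ∧ ¬ TA (xx i + xx j + tb) := by
  have a1 := hi.1.symm
  have a2 := hi.2.symm
  have a3 := hj.1.symm
  have a4 := hj.2.symm
  have a5 := i1.symm
  have a6 := j1.symm
  have n : (none : GolayPt) ≠ some 1 := by decide
  have n' : ¬ (0 : ZMod 23) = 1 := by decide
  constructor
  · rw [show xx i + xx j + tb + bb = mk (pp none (some 1) + pp i j) by
      rw [map_add, mk_pp i j, ← X_eq, tb]; abel]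
    refine not_ta ?_ ?_
    · rw [AddSubgroup.coe_add, sqNorm_add, norm_pp n, norm_pp h, dot_pp]
      simp [pp_apply, *]
    · rw [dot_U]; simp [pp_apply, *]
  · rw [show xx i + xx j + tb = mk (pp none (some 1) + pm i j) by
      rw [map_add, mk_pm, mk_pp i j, ← X_eq, tb]; linear_combination -bb * two0]
    refine not_ta ?_ ?_
    · rw [AddSubgroup.coe_add, sqNorm_add, norm_pp n, norm_pm h, dot_pp]
      simp [pm_apply, *]
    · rw [dot_U]; simp [pp_apply, pm_apply, *]

/-- the class of a coded vector -/
noncomputable def mkC (a : ℕ) : V := fun i => ((dotC a (H54.nth BV (i + 11 : Fin 22)) / 8 : ℤ) : ZMod 2)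

theorem mk_code {a : ℕ} {v : leechLattice} (h : Code a v) : mk v = mkC a := funext fun i => by
  rw [mk_apply, d8, bv, h.dot (code_lv (bv_spec _).1), mkC]

/-- a coded minimal vector with a given inner product -/
def okT (k : ℤ) (a : ℕ) : Prop := isV a = true ∧ dotC a a = 32 ∧ dotC UC a = k

instance (k : ℤ) (a : ℕ) : Decidable (okT k a) := inferInstanceAs (Decidable (_ ∧ _))

theorem ta_code {a : ℕ} (h : okT 16 a) : TA (mkC a) :=
  ⟨lv a, (code_lv h.1).norm.trans h.2.1, (code_U.dot (code_lv h.1)).trans h.2.2, mk_code (code_lv h.1)⟩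

theorem tb_code {a : ℕ} (h : okT 0 a) : TB (mkC a) :=
  ⟨lv a, (code_lv h.1).norm.trans h.2.1, (code_U.dot (code_lv h.1)).trans h.2.2, mk_code (code_lv h.1)⟩

/-- the configuration at one of the six classes -/
def Row (a c : V) : Prop := TB c ∧ ∃ x y z, a = x + y + z ∧ be x a = 0 ∧
  TA x ∧ TA y ∧ TA z ∧ TA (x + c) ∧ TA (y + c) ∧ TA (z + c)

theorem Row.smul {a c : V} (h : Row a c) (γ : C2) : Row (γ • a) (γ • c) := by
  obtain ⟨h0, x, y, z, e, b, h1, h2, h3, h4, h5, h6⟩ := h
  exact ⟨h0.smul γ, γ • x, γ • y, γ • z, by rw [e, smul_add, smul_add], by rw [be_smul, b], h1.smul γ,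
    h2.smul γ, h3.smul γ, smul_add γ x c ▸ h4.smul γ, smul_add γ y c ▸ h5.smul γ,
    smul_add γ z c ▸ h6.smul γ⟩

/-- the check of a row -/
def okR (a c x y z x' y' z' : ℕ) : Prop := okT 0 c ∧ okT 16 x ∧ okT 16 y ∧ okT 16 z ∧ okT 16 x' ∧
  okT 16 y' ∧ okT 16 z' ∧ (∀ i, mkC a i = mkC x i + mkC y i + mkC z i) ∧
  ∑ i, mkC x i * mkC a (i + 11) = 0 ∧ (∀ i, mkC x' i = mkC x i + mkC c i) ∧
  (∀ i, mkC y' i = mkC y i + mkC c i) ∧ ∀ i, mkC z' i = mkC z i + mkC c i

noncomputable instance (a c x y z x' y' z' : ℕ) : Decidable (okR a c x y z x' y' z') :=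
  inferInstanceAs (Decidable (_ ∧ _))

theorem row {a c x y z x' y' z' : ℕ} (h : okR a c x y z x' y' z') : Row (mkC a) (mkC c) := by
  obtain ⟨h0, h1, h2, h3, h4, h5, h6, e, b, e1, e2, e3⟩ := h
  exact ⟨tb_code h0, _, _, _, funext e, b, ta_code h1, ta_code h2, ta_code h3,
    (funext e1 : mkC x' = mkC x + mkC c) ▸ ta_code h4, (funext e2 : mkC y' = mkC y + mkC c) ▸ ta_code h5,
    (funext e3 : mkC z' = mkC z + mkC c) ▸ ta_code h6⟩

/-- the code of the standard vector of the third class -/
def aC : ℕ := 0x1400100010001000100010001000100010001000100010001000100010001000100010001000140014001400100010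

theorem code_a : Code aC (pp none (some 2) + pp (some 3) (some 4)) := ⟨by decide +kernel, by decide +kernel⟩

/-- the class number 1 -/
def c1 : ℕ := 0xc00100010001000100010001000100010001000100010001000100010001000100010001000100010001000100014
/-- the class number 2 -/
def c2 : ℕ := 0x1000100010001000100010001000100010001000100010001000100010000c00100010001000100010001400100010
/-- the class number 3 -/
def c3 : ℕ := 0x100010001000100010001000100010001000100010001000100010000c001000100010001000100014001000100010
/-- the class number 4 -/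
def c4 : ℕ := 0x1000100010001000100010001000100010001000100010001000100010001400100010001000100010001400100010
/-- the class number 5 -/
def c5 : ℕ := 0x1000100010001000100010001000100010001000100010001000100014001000100010001000100014001000100010
/-- the class number 6 -/
def c6 : ℕ := 0x1000100014001000100010001000100010001000100010001000100010001000100010001000140010001000100010
theorem r1 : okR aC c1
    0x1000100010001000100010001000100010001000100010001000100010001000100010001000100010001400100014
    0x1000100010001000100010001000100010001000100010001000100010001000100010001000100014001000100014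
    0x1000100010001000100010001000100010001000100010001000100010001000100010001000140010001000100014
    0x1000100010001000100010001000100010001000100010001000100010001000100010001000100010000c00100014
    0x100010001000100010001000100010001000100010001000100010001000100010001000100010000c001000100014
    0x10001000100010001000100010001000100010001000100010001000100010001000100010000c0010001000100014 := by
  decide +kernel
theorem r2 : okR aC c2
    0x1000100010001000100010001000100010001000100010001000100010001000100010001000100010001400100014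
    0x120010001200100010001000100010001000100010001000100010001200120010001000100012000e000e00100012
    0x12001000120010001000100010001000100010001000100010001000120012001000100010000e0012000e00100012
    0x1000100010001000100010001000100010001000100010001000100010001400100010001000100010001000100014
    0x1200100012001000100010001000100010001000100010001000100012000e0010001000100012000e001200100012
    0x1200100012001000100010001000100010001000100010001000100012000e001000100010000e0012001200100012 := by
  decide +kernel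
theorem r3 : okR aC c3
    0x1000100010001000100010001000100010001000100010001000100010001000100010001000100014001000100014
    0x120010001200100010001000100010001000100010001000100010001200120010001000100012000e000e00100012
    0x12001000120010001000100010001000100010001000100010001000120012001000100010000e000e001200100012
    0x1000100010001000100010001000100010001000100010001000100014001000100010001000100010001000100014
    0x120010001200100010001000100010001000100010001000100010000e001200100010001000120012000e00100012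
    0x120010001200100010001000100010001000100010001000100010000e0012001000100010000e0012001200100012 := by
  decide +kernel
theorem r4 : okR aC c4
    0x1000100010001000100010001000100010001000100010001000100010001000100010001000100010001400100014
    0x120010001200100010001000100010001000100010001000100010000e00120010001000100012000e001200100012
    0x120010001200100010001000100010001000100010001000100010000e0012001000100010000e0012001200100012
    0x1000100010001000100010001000100010001000100010001000100010000c00100010001000100010001000100014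
    0x120010001200100010001000100010001000100010001000100010000e000e0010001000100012000e000e00100012
    0x120010001200100010001000100010001000100010001000100010000e000e001000100010000e0012000e00100012 := by
  decide +kernel
theorem r5 : okR aC c5
    0x1000100010001000100010001000100010001000100010001000100010001000100010001000100014001000100014
    0x1200100012001000100010001000100010001000100010001000100012000e00100010001000120012000e00100012
    0x1200100012001000100010001000100010001000100010001000100012000e001000100010000e0012001200100012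
    0x100010001000100010001000100010001000100010001000100010000c001000100010001000100010001000100014
    0x120010001200100010001000100010001000100010001000100010000e000e0010001000100012000e000e00100012
    0x120010001200100010001000100010001000100010001000100010000e000e001000100010000e000e001200100012 := by
  decide +kernel
theorem r6 : okR aC c6
    0x1000100010001000100010001000100010001000100010001000100010001000100010001000140010001000100014
    0x1200100012001000100010001000100010001000100010001000100012000e00100010001000120012000e00100012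
    0x1200100012001000100010001000100010001000100010001000100012000e0010001000100012000e001200100012
    0x100010000c001000100010001000100010001000100010001000100010001000100010001000100010001000100014
    0x120010001200100010001000100010001000100010001000100010000e00120010001000100012000e001200100012
    0x120010001200100010001000100010001000100010001000100010000e001200100010001000120012000e00100012 := by
  decide +kernel

/-- the third alternative -/
def TD (a : V) : Prop := ∃ b₁ b₂ b₃ : V, b₁ + b₂ + b₃ ≠ 0 ∧
  ∀ c ∈ ({b₁, b₂, b₃, b₁ + b₂, b₁ + b₃, b₂ + b₃} : Set V), Row a c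

theorem TD.smul {a : V} (h : TD a) (γ : C2) : TD (γ • a) := by
  obtain ⟨b₁, b₂, b₃, n, h⟩ := h
  refine ⟨γ • b₁, γ • b₂, γ • b₃, fun e => n (smul_left_cancel γ (by
    rw [smul_add, smul_add, e, smul_zero])), ?_⟩
  simp only [← smul_add, Set.forall_mem_insert, Set.mem_singleton_iff, forall_eq] at h ⊢
  exact ⟨h.1.smul γ, h.2.1.smul γ, h.2.2.1.smul γ, h.2.2.2.1.smul γ, h.2.2.2.2.1.smul γ,
    h.2.2.2.2.2.smul γ⟩

theorem td_vc : TD vc := by
  rw [vc, mk_code code_a]
  refine ⟨mkC c1, mkC c2, mkC c3, fun e => absurd (congrFun e 2) (by decide +kernel), ?_⟩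
  simp only [Set.forall_mem_insert, Set.mem_singleton_iff, forall_eq]
  exact ⟨row r1, row r2, row r3,
    (funext (by decide +kernel) : mkC c4 = mkC c1 + mkC c2) ▸ row r4,
    (funext (by decide +kernel) : mkC c5 = mkC c1 + mkC c3) ▸ row r5,
    (funext (by decide +kernel) : mkC c6 = mkC c2 + mkC c3) ▸ row r6⟩

theorem ta_tb_of_min {w : leechLattice} (p : Pp w) (h : sqNorm (w : GolayPt → ℤ) = 32) (h0 : mk w ≠ 0) :
    TA (mk w) ∨ TB (mk w) := by
  obtain ⟨k, hk⟩ := p
  rw [dotInt_comm] at hk
  have n1 := sqNorm_add (vU : GolayPt → ℤ) w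
  have n2 := sqNorm_sub (vU : GolayPt → ℤ) w
  rw [norm_U, h] at n1 n2
  have l1 : 0 < sqNorm ((vU : GolayPt → ℤ) + (w : GolayPt → ℤ)) := (sqNorm_nonneg _).lt_of_ne' fun e => h0 (by
    rw [← mk_U, ← mk_neg vU]
    exact congrArg mk (Subtype.ext (eq_neg_of_add_eq_zero_right ((sqNorm_eq_zero_iff _).1 e))))
  have l2 : 0 < sqNorm ((vU : GolayPt → ℤ) - (w : GolayPt → ℤ)) := (sqNorm_nonneg _).lt_of_ne' fun e => h0 (by
    rw [← mk_U]
    exact congrArg mk (Subtype.ext (sub_eq_zero.1 ((sqNorm_eq_zero_iff _).1 e)).symm))
  rcases (by omega : k = 1 ∨ k = 0 ∨ k = -1) with rfl | rfl | rfl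
  · exact Or.inl ⟨w, h, hk, rfl⟩
  · exact Or.inr ⟨w, h, hk, rfl⟩
  · exact Or.inl ⟨-w, (sqNorm_neg _).trans h, by
      rw [AddSubgroup.coe_neg, dotInt_neg_right, hk]; rfl, mk_neg w⟩

theorem short {v : leechLattice} (p : Pp v) (h0 : mk v ≠ 0) (h : qq (mk v) = 0) :
    (TA (mk v) ∨ TB (mk v)) ∨ ∃ w, Cg v w ∧ sqNorm (w : GolayPt → ℤ) = 64 := by
  obtain ⟨w, c, e | e | e | e⟩ := exists_short v
  · exact absurd (by rw [Cg.mk c, e, map_zero]) h0
  · rw [Cg.mk c] at h0 ⊢
    exact Or.inl (ta_tb_of_min (p.cg c) e h0)
  · rw [Cg.mk c, qq_mk_eq_zero (p.cg c), e] at h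
    omega
  · exact Or.inr ⟨w, c, e⟩

section
open H15 H30.K H16.P8
open scoped Pointwise symmDiff

/-- the standard octad vector -/
def u0 : leechLattice := ⟨rep 0 O0, (cong_rep 0 oct0_mem.1).mem oct0_mem.1⟩

/-- a minimal vector whose sum with a frame vector has type four is of octad shape -/
theorem exists_td {v w : leechLattice} (hv : sqNorm (v : GolayPt → ℤ) = 64)
    (hw : sqNorm (w : GolayPt → ℤ) = 64) (e : Cg (v + vU) w)
    (hp : (16 : ℤ) ∣ dotInt (v : GolayPt → ℤ) (vU : GolayPt → ℤ)) :
    ∃ k : Co0, k • vU = u0 ∧ Cg (k • v) (e8 none) := by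
  obtain ⟨g, rfl⟩ := exists_smul_e8 hv
  have e1 := e.smul g⁻¹
  rw [smul_add, inv_smul_smul] at e1
  rw [dotInt_co0_left, coe_e8, dotInt_single_left] at hp
  have hn := (sqNorm_co0 g⁻¹ vU).trans norm_U
  rcases min_shape (g⁻¹ • vU).2 hn with ⟨i, j, ij, s, t, hs, ht, f⟩ | ⟨o, ho, s, hs, h2, f⟩ |
    ⟨c, hc, j, f⟩
  · exfalso
    have hs' : -s = 1 ∨ -s = -1 := by omega
    have c1 : Cg (e8 none + g⁻¹ • vU) ⟨_, v44_mem i j hs' ht⟩ := by
      refine ((show Cg (e8 none) (e8 i) from e8_sub_e8_mem _ _).add (Cg.refl _)).trans ?_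
      rcases hs with rfl | rfl
      · refine cg_iff.2 ⟨e8 i, Subtype.ext (funext fun k => ?_)⟩
        simp only [AddSubgroup.coe_add, Pi.add_apply, f, v44_apply, coe_e8, Pi.single_apply]
        split_ifs <;> omega
      · refine cg_iff.2 ⟨0, Subtype.ext (funext fun k => ?_)⟩
        simp only [AddSubgroup.coe_add, Pi.add_apply, f, v44_apply, coe_e8, Pi.single_apply,
          AddSubgroup.coe_zero, Pi.zero_apply]
        split_ifs <;> omega
    have n1 := sqNorm_v44 ij hs' ht
    have := (c1.symm.trans e1).norm_eq (by simp only; omega) (by rw [sqNorm_co0]; omega)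
    rw [sqNorm_co0] at this
    simp only at this
    omega
  · obtain ⟨τ, hτ, e2⟩ := M24_trans_octads ho oct0_mem
    have s1 : τ • s ⊆ O0 := (Finset.smul_finset_subset_smul_finset hs).trans e2.subset
    obtain ⟨c, hc, e3⟩ := exists_code_inter_eq_octad oct0_mem O0 (τ • s) subset_rfl s1
      (by rw [oct0_mem.2]; norm_num)
      (by rwa [Finset.inter_eq_right.2 s1, Finset.card_smul_finset])
    refine ⟨mono τ hτ c hc * g⁻¹, Subtype.ext ?_, ?_⟩
    · rw [mul_smul, coe_mono_smul, f, signedPerm_oct, e2, sgn_rep_congr (t := ∅), sgn_empty]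
      · rfl
      · ext x
        have := congrArg (x ∈ ·) e3
        have := @s1 x
        simp only [Finset.mem_inter, Finset.mem_symmDiff, Finset.notMem_empty, eq_iff_iff] at *
        tauto
    · rw [mul_smul, inv_smul_smul]
      exact mem_monoGroup_iff_cg.1 (mono_mem hτ hc)
  · rw [f, odd_apply] at hp
    split_ifs at hp <;> omega

end

theorem smul_pp (σ : M24) (i j : GolayPt) :
    permHom σ • pp i j = pp ((σ : Equiv.Perm GolayPt) i) ((σ : Equiv.Perm GolayPt) j) :=
  Subtype.ext (funext fun k => by
    obtain ⟨k, rfl⟩ := (σ : Equiv.Perm GolayPt).surjective k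
    rw [permHom_smul_apply, pp_apply, pp_apply]
    simp)

/-- a permutation fixing the three points -/
theorem exists_perm {σ : Equiv.Perm GolayPt} (hσ : σ ∈ M24) (h0 : σ none = none)
    (h1 : σ (some 0) = some 0) (h2 : σ (some 1) = some 1) :
    ∃ γ : C2, γ • tb = tb ∧ γ • bb = bb ∧ ∀ i, γ • xx i = xx (σ i) := by
  refine ⟨⟨permHom ⟨σ, hσ⟩, ?_⟩, ?_, fix_bb_iff.2 (permHom_mem _), fun i => ?_⟩
  · rw [mem_Stab, U_eq, smul_pp]; simp [h0, h1]
  · refine fix_tb ?_
    rw [X_eq]; exact (smul_pp _ _ _).trans (by simp [h0, h2])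
  · rw [xx, smul_mk _ (pp_pp _ _)]
    exact congrArg mk ((smul_pp _ _ _).trans (by simp [h0]))

/-- conjugacy under the stabiliser of `tb` -/
def Cj (u v : V) : Prop := ∃ γ : C2, γ • tb = tb ∧ γ • u = v

theorem Cj.add {u v : V} (h : Cj u v) : Cj (u + tb) (v + tb) := by
  obtain ⟨γ, h1, h2⟩ := h
  exact ⟨γ, h1, by rw [smul_add, h1, h2]⟩

theorem Cj.of_eq {u v v' : V} (h : Cj u v) (e : v' = v) : Cj u v' := e ▸ h

theorem cj_sign : Cj vb (vb + bb) := by
  have hc : H15.ofMask 7221256 ∈ code := H15.ofMask_mem_of_isCode (by decide +kernel)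
  refine ⟨⟨eps _ hc, Subtype.ext ((coe_eps_smul hc _).trans (by decide +kernel))⟩, fix_tb ?_, ?_⟩
  · rw [X_eq]; exact Subtype.ext ((coe_eps_smul hc _).trans (by decide +kernel))
  · rw [vb, smul_mk _ (pp_pp _ _), ← mk_pm]
    exact congrArg mk (Subtype.ext ((coe_eps_smul hc _).trans (by decide +kernel)))

theorem cj_pair (a b : GolayPt) (h : Function.Injective ![none, some 0, some 1, a, b]) :
    Cj vb (xx a + xx b + bb) ∧ Cj vb (xx a + xx b) := by
  obtain ⟨σ, hσ, e⟩ := H15.M24_trans5 ![none, some 0, some 1, some 2, some 3] _ (by decide) h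
  obtain ⟨γ, h1, h2, h3⟩ := exists_perm hσ (e 0) (e 1) (e 2)
  obtain ⟨r, r1, r2⟩ := cj_sign
  have k : γ • vb = xx a + xx b + bb := by
    rw [vb, mk_pp, smul_add, smul_add, h2, h3, h3]
    exact congrArg₂ (fun x y => xx x + xx y + bb) (e 3) (e 4)
  exact ⟨⟨γ, h1, k⟩, γ * r, by rw [mul_smul, r1, h1], by
    rw [mul_smul, r2, smul_add, k, h2, add_assoc, add_self, add_zero]⟩

/-- the relation given by an octad -/
theorem rel {m : ℕ} (h : H15.isCode m = true) {a b c d e f g k : GolayPt}
    (s : ∀ p, (pp a b : GolayPt → ℤ) p + (pp c d : GolayPt → ℤ) p + (pp e f : GolayPt → ℤ) p +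
      (pp g k : GolayPt → ℤ) p = rep 0 (H15.ofMask m) p + rep 0 (H15.ofMask m) p) :
    xx a + xx b + xx c + xx d + xx e + xx f + xx g + xx k = 0 := by
  have := congrArg mk (Subtype.ext (funext s) : pp a b + pp c d + pp e f + pp g k =
    ind2 _ (H15.ofMask_mem_of_isCode h) + ind2 _ (H15.ofMask_mem_of_isCode h))
  rw [map_add, map_add, map_add, map_add, add_self, mk_pp, mk_pp, mk_pp, mk_pp] at this
  linear_combination this - 2 * bb * two0

end VC

open VC

theorem pair_xx {a : V} (h : TA a) (h' : TA (a + bb)) : ∃ i, Pt i ∧ (a = xx i ∨ a = xx i + bb) := by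
  obtain ⟨w, h1, h2, rfl⟩ := h
  obtain ⟨w', h3, h4, e⟩ := h'
  rcases (mk_eq_iff ((pp_of_dot (k := 1) h2).add (pp_of_dot (k := 1) h4)) (pp_e8 none)).1 (by
    rw [map_add, e, ← add_assoc, add_self, zero_add, bb]) with c | c
  · exact pair_aux h1 h3 h2 h4 c
  · exact pair_aux h1 (min_sub h3 h4).1 h2 (min_sub h3 h4).2
      ((cg_iff.2 ⟨-w', by abel⟩ : Cg (w + (vU - w')) (w + w' + vU)).trans c)

theorem nopure {a b c : V} (ha : Om (a + tb)) (hb : Om (b + tb)) (hc : Om (c + tb)) (hab : Om (a + b + tb))
    (hac : Om (a + c + tb)) (hbc : Om (b + c + tb)) : a + b + c = 0 := by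
  obtain ⟨γ, g1, g2⟩ := om_trans ha
  have g3 := fix_tb g1
  have t : ∀ {x : V}, Om (x + tb) → Om (γ • x + tb) := fun h => by
    simpa only [smul_add, g3] using h.smul g3
  have ea : γ • a = bb := by
    rw [smul_add, g3] at g2
    linear_combination g2
  replace hb := t hb
  replace hc := t hc
  replace hab := t hab
  replace hac := t hac
  replace hbc := t hbc
  refine smul_left_cancel γ ?_
  rw [smul_add, ea] at hab hac
  rw [smul_add] at hbc
  rw [smul_add, smul_add, ea, smul_zero]
  generalize γ • b = b at *
  generalize γ • c = c at *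
  have k : ∀ {x : V}, Om (x + tb) → Om (bb + x + tb) →
      ∃ i, Pt i ∧ i ≠ some 1 ∧ (x = xx i + tb ∨ x = xx i + tb + bb) := fun {x} h1 h2 => by
    obtain ⟨i, hi, e⟩ := pair_xx h1.1 (by rw [show x + tb + bb = bb + x + tb by abel]; exact h2.1)
    refine ⟨i, hi, ?_, e.imp (fun e => by linear_combination e - tb * two0)
      fun e => by linear_combination e - tb * two0⟩
    rintro rfl
    rw [xx_one] at e
    rcases e with e | e
    exacts [h1.2.2 e, h2.2.2 (by linear_combination e + bb * two0)]
  obtain ⟨i, hi, i1, e⟩ := k hb hab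
  obtain ⟨j, hj, j1, f⟩ := k hc hac
  by_cases ij : i = j
  · subst ij
    rcases e with rfl | rfl <;> rcases f with rfl | rfl
    · exact absurd (by linear_combination (xx i + tb) * two0) hbc.2.2
    · linear_combination (xx i + tb + bb) * two0
    · linear_combination (xx i + tb + bb) * two0
    · exact absurd (by linear_combination (xx i + tb + bb) * two0) hbc.2.2
  · obtain ⟨n1, n2⟩ := not_ta3 hi hj i1 j1 ij
    have := hbc.1
    rcases e with rfl | rfl <;> rcases f with rfl | rfl
    · exact absurd (by convert this using 1; linear_combination -tb * two0) n2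
    · exact absurd (by convert this using 1; linear_combination -tb * two0) n1
    · exact absurd (by convert this using 1; linear_combination -tb * two0) n1
    · exact absurd (by convert this using 1; linear_combination -(tb + bb) * two0) n2

theorem ta_or {a : V} (h0 : a ≠ 0) (h : qq a = 0) : TA a ∨ TB a ∨ ∃ b₁ b₂ b₃ : V, b₁ + b₂ + b₃ ≠ 0 ∧
    ∀ c ∈ ({b₁, b₂, b₃, b₁ + b₂, b₁ + b₃, b₂ + b₃} : Set V), TB c ∧ ∃ x y z, a = x + y + z ∧ be x a = 0 ∧
      TA x ∧ TA y ∧ TA z ∧ TA (x + c) ∧ TA (y + c) ∧ TA (z + c) := by
  obtain ⟨v, p, rfl⟩ := mk_surj a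
  rw [← or_assoc]
  rcases short p h0 h with r | ⟨w, c, n⟩
  · exact Or.inl r
  have e : mk (v + vU) = mk v := by rw [map_add, mk_U, add_zero]
  rcases short (p.add pp_U) (e ▸ h0) (e ▸ h) with r | ⟨w', c', n'⟩
  · exact Or.inl (e ▸ r)
  obtain ⟨k, k1, k2⟩ := exists_td n n' ((c.symm.add (Cg.refl vU)).trans c') (p.cg c)
  obtain ⟨l, l1, l2⟩ := exists_td (v := pp none (some 2) + pp (some 3) (some 4))
    (w := pm (some 2) (some 0) + pp (some 3) (some 4)) (by decide +kernel) (by decide +kernel)
    (((cg_iff.2 ⟨0, Subtype.ext (by decide +kernel)⟩ : Cg _ (e8 none + (pp (some 2) (some 0) +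
      pp (some 3) (some 4)))).trans (Cg.add (e8_sub_e8_mem none (some 0)) (Cg.refl _))).trans
      (cg_iff.2 ⟨e8 (some 0), Subtype.ext (by decide +kernel)⟩))
    ((pp_pp _ _).add (pp_pp _ _))
  have := td_vc.smul ⟨k⁻¹ * l, by rw [mem_Stab, mul_smul, l1, ← k1, inv_smul_smul]⟩
  rw [vc, smul_mk _ ((pp_pp _ _).add (pp_pp _ _)), Cg.mk (w := v) (by
    have := (l2.trans k2.symm).smul k⁻¹
    rw [inv_smul_smul, ← mul_smul] at this
    exact this.trans c.symm)] at this
  exact Or.inr this

theorem line {u : V} (hu : u = vb ∨ u = vb + tb) : ∃ v₁ v₂ v₃ : V,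
    v₁ + v₂ + v₃ ∈ ({0, tb, u, tb + u} : Set V) ∧ ∀ v ∈ ({v₁, v₂, v₃} : Set V), be v u = 0 ∧
      (∃ γ : C2, γ • tb = tb ∧ γ • u = v) ∧ ∃ γ : C2, γ • tb = tb ∧ γ • u = v + u := by
  have e : vb = xx (some 2) + xx (some 3) + bb := mk_pp _ _
  have b : ∀ i j, be (xx i + xx j) vb = 0 ∧ be (xx i + xx j + tb) (vb + tb) = 0 := fun i j => by
    simp only [e, ← xx_one, ← xx_none, be_add_left, be_add_right, be_xx, add_zero, and_self]
  rcases hu with rfl | rfl
  · have r := rel (m := 10486557) (a := none) (b := some 0) (c := some 2) (d := some 3) (e := some 4)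
      (f := some 8) (g := some 9) (k := some 21) (by decide +kernel) (by decide +kernel)
    rw [xx_none, xx_zero] at r
    refine ⟨xx (some 2) + xx (some 4), xx (some 4) + xx (some 8), xx (some 2) + xx (some 8),
      Or.inl (by linear_combination (xx (some 2) + xx (some 4) + xx (some 8)) * two0), ?_⟩
    rintro _ (rfl | rfl | rfl) <;> refine ⟨(b _ _).1, (cj_pair _ _ (by decide)).2, ?_⟩
    · refine (cj_pair (some 3) (some 4) (by decide)).1.of_eq ?_
      rw [e]; linear_combination xx (some 2) * two0
    · refine (cj_pair (some 9) (some 21) (by decide)).2.of_eq ?_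
      rw [e]; linear_combination r - (xx (some 9) + xx (some 21)) * two0
    · refine (cj_pair (some 3) (some 8) (by decide)).1.of_eq ?_
      rw [e]; linear_combination xx (some 2) * two0
  · have r := rel (m := 8683614) (a := none) (b := some 1) (c := some 2) (d := some 3) (e := some 4)
      (f := some 6) (g := some 15) (k := some 18) (by decide +kernel) (by decide +kernel)
    rw [xx_none, xx_one] at r
    refine ⟨xx (some 4) + xx (some 6) + tb, xx (some 6) + xx (some 15) + tb, xx (some 4) + xx (some 15) + tb,
      Or.inr (Or.inl (by linear_combination (xx (some 4) + xx (some 6) + xx (some 15) + tb) * two0)), ?_⟩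
    rintro _ (rfl | rfl | rfl) <;> refine ⟨(b _ _).2, (cj_pair _ _ (by decide)).2.add, ?_⟩
    · refine (cj_pair (some 15) (some 18) (by decide)).2.add.of_eq ?_
      rw [e]; linear_combination r - (xx (some 15) + xx (some 18)) * two0
    · refine (cj_pair (some 4) (some 18) (by decide)).2.add.of_eq ?_
      rw [e]; linear_combination r - (xx (some 4) + xx (some 18)) * two0
    · refine (cj_pair (some 6) (some 18) (by decide)).2.add.of_eq ?_
      rw [e]; linear_combination r - (xx (some 6) + xx (some 18)) * two0

theorem vc_swap : ∃ γ : C2, γ • tb = tb ∧ γ • vc = vc + tb := by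
  have h : H15.inM24 976907894520423640927997288916428832 = true := by decide +kernel
  have a := H15.permOf_apply (H15.okP_of_inM24 h)
  obtain ⟨γ, h1, h2, h3⟩ := exists_perm (H15.permOf_mem_M24 h) ((a _).trans (by decide +kernel))
    ((a _).trans (by decide +kernel)) ((a _).trans (by decide +kernel))
  have e : vc = xx (some 2) + (xx (some 3) + xx (some 4) + bb) := by rw [vc, map_add, mk_pp (some 3)]; rfl
  have r := rel (m := 5279) (a := some 0) (b := some 1) (c := some 2) (d := some 3) (e := some 4)
    (f := some 7) (g := some 10) (k := some 12) (by decide +kernel) (by decide +kernel)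
  rw [xx_zero, xx_one] at r
  refine ⟨γ, h1, ?_⟩
  have a2 := (a (some 2)).trans (b := _) (c := some 10) (by decide +kernel)
  have a3 := (a (some 3)).trans (b := _) (c := some 7) (by decide +kernel)
  have a4 := (a (some 4)).trans (b := _) (c := some 12) (by decide +kernel)
  rw [e, smul_add, smul_add, smul_add, h2, h3, h3, h3, a2, a3, a4]
  linear_combination r - (tb + xx (some 2) + xx (some 3) + xx (some 4)) * two0

end H18.BS
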