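import Cfsg.Agent.Lib.BStd.VB

/-!
# Isometries of `u^⊥/u` compatible with the frame stabiliser (helper71, for helper18's BSTD)
-/

set_option autoImplicit false

namespace H18.BS.Rho

open Cfsg H16 H95 H48.BR Subgroup H75.WC

theorem xx_none : xx none = bb := by
  rw [xx, bb]
  congr 1
  exact Subtype.ext (funext fun k => by rw [pp_apply, e8_apply]; split_ifs <;> norm_num)

theorem U_eq : vU = pp none (some 0) := Subtype.ext (by decide +kernel)

theorem xx_zero : xx (some 0) = 0 := by rw [xx, ← U_eq, mk_U]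

theorem bb_ne : bb ≠ 0 := tb_bb.ne

/-- a sign change fixing `u` avoids `∞` and `0` -/
theorem eps_U {c : Finset GolayPt} (hc : c ∈ code) : eps c hc • vU = vU ↔ none ∉ c ∧ some 0 ∉ c := by
  constructor
  · intro h
    have e := fun i => (eps_smul_apply hc vU i).symm.trans (congrArg (fun v : leechLattice => (v : GolayPt → ℤ) i) h)
    refine ⟨fun m => ?_, fun m => ?_⟩
    · have := e none
      rw [if_pos m, U_eq, pp_apply] at this
      simp at this
    · have := e (some 0)
      rw [if_pos m, U_eq, pp_apply] at this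
      simp at this
  · rintro ⟨h1, h2⟩
    refine Subtype.ext (funext fun k => ?_)
    rw [eps_smul_apply]
    split_ifs with m
    · rw [U_eq, pp_apply, if_neg (by rintro rfl; exact h1 m), if_neg (by rintro rfl; exact h2 m)]; rfl
    · rfl

theorem eps_act {ε : C2} {c : Finset GolayPt} {hc : c ∈ code} (e : (ε : Co0) = eps c hc) (i : GolayPt) :
    ε • xx i = if i ∈ c then xx i + bb else xx i := by
  have h1 := ((eps_U hc).1 (e ▸ MulAction.mem_stabilizer_iff.1 ε.2)).1
  rw [xx, smul_mk _ (pp_pp _ _), e]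
  split_ifs with m
  · rw [← mk_pm]
    congr 1
    refine Subtype.ext (funext fun k => ?_)
    rw [eps_smul_apply, pp_apply, pm_apply]
    by_cases a : k = none
    · subst a
      rw [if_neg h1, if_neg (show ¬ none = i by rintro rfl; exact h1 m)]; simp
    · by_cases b : k = i
      · subst b; simp [m, a]
      · simp [a, b]
  · congr 1
    refine Subtype.ext (funext fun k => ?_)
    rw [eps_smul_apply]
    split_ifs with n
    · rw [pp_apply, if_neg (by rintro rfl; exact h1 n), if_neg (by rintro rfl; exact m n)]; rfl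
    · rfl

/-- the sign change of a word avoiding `∞` and `0` -/
theorem exists_eps {c : Finset GolayPt} (hc : c ∈ code) (h1 : none ∉ c) (h2 : some 0 ∉ c) :
    ∃ ε : C2, Eps ε ∧ ∀ i, ε • xx i = if i ∈ c then xx i + bb else xx i :=
  ⟨⟨eps c hc, (eps_U hc).2 ⟨h1, h2⟩⟩, ⟨c, hc, rfl⟩, eps_act (hc := hc) rfl⟩

theorem two_ind {c : Finset GolayPt} (hc : c ∈ code) : (fun i => 2 * ind c i) ∈ leechLattice := by
  refine Cong.mem (m := 0) (c := c) ⟨fun i => by simp, ?_⟩ hc
  obtain ⟨k, hk⟩ := four_dvd_card hc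
  rw [← Finset.mul_sum, sum_ind, hk]
  exact ⟨k, by push_cast; ring⟩

/-- the relations between the classes of the frame -/
theorem rel {c : Finset GolayPt} (hc : c ∈ code) : ∑ i ∈ c, xx i = 0 := by
  obtain ⟨k, hk⟩ := four_dvd_card hc
  simp only [xx]
  rw [← map_sum, ← map_zero mk]
  refine Cg.mk (cg_iff.2 ⟨⟨_, two_ind hc⟩ + k • e8 none, Subtype.ext (funext fun j => ?_)⟩)
  rw [AddSubgroup.val_finset_sum, Finset.sum_apply]
  simp only [pp_apply, Finset.sum_add_distrib, Finset.sum_const, hk, Finset.sum_ite_eq, zero_add, AddSubgroup.coe_add,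
    Pi.add_apply, AddSubgroup.coe_nsmul, Pi.smul_apply, e8_apply, ind_apply]
  split_ifs <;> simp <;> ring

/-- the orthogonal complement of the frame -/
def EE (a : V) : Prop := ∀ i, be (xx i) a = 0

theorem EE.add {a c : V} (ha : EE a) (hc : EE c) : EE (a + c) := fun i => by rw [be_add_right, ha, hc, add_zero]

theorem EE.bb {a : V} (ha : EE a) : be bb a = 0 := xx_none ▸ ha _

theorem EE.qq {a : V} (ha : EE a) : qq a = 0 := by
  obtain ⟨v, hv, rfl⟩ := mk_surj a
  have h : ∀ i, (4 : ℤ) ∣ (v : GolayPt → ℤ) none + (v : GolayPt → ℤ) i := fun i => by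
    have := ha i
    rw [xx, be_mk (pp_pp _ _) hv, d8_eq_zero, dot_pp] at this
    omega
  rw [qq_mk_eq_zero hv]
  have h0 := h none
  rcases (mem_leech_iff' _).1 v.2 with ⟨c, hc, e⟩ | ⟨c, hc, e⟩
  · by_cases m : none ∈ c
    · have f : ∀ i, (32 : ℤ) ∣ (v : GolayPt → ℤ) i ^ 2 - 4 := fun i => by
        have a1 := e.1 none
        have a2 := h i
        rw [ind_of_mem m] at a1
        obtain ⟨k, hk⟩ : ∃ k, (v : GolayPt → ℤ) i = 4 * k + 2 := ⟨((v : GolayPt → ℤ) i - 2) / 4, by omega⟩
        obtain ⟨l, hl⟩ := Int.even_mul_succ_self k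
        exact ⟨l, by rw [hk]; linear_combination 16 * hl⟩
      have := Finset.dvd_sum (s := Finset.univ) fun i _ => f i
      rw [Finset.sum_sub_distrib, ← sqNorm_def, Finset.sum_const, Finset.card_univ, card_pt] at this
      norm_num at this
      omega
    · refine Cong.norm_empty ⟨fun i => ?_, e.2⟩
      have a1 := e.1 none
      have a2 := h i
      rw [ind_of_notMem m] at a1
      rw [ind_of_notMem (Finset.notMem_empty _)]
      omega
  · have := e.1 none
    omega

theorem EE.be {a c : V} (ha : EE a) (hc : EE c) : be a c = 0 := by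
  have := qq_add a c
  rw [(ha.add hc).qq, ha.qq, hc.qq, add_zero, zero_add] at this
  exact this.symm

theorem ee_xx (i : GolayPt) : EE (xx i) := fun j => be_xx j i

theorem z2_add (s : ZMod 2) : s + s = 0 := CharTwo.add_self_eq_zero s

theorem eps_xx {ε : C2} (h : Eps ε) (i : GolayPt) : ε • xx i = xx i ∨ ε • xx i = xx i + bb := by
  obtain ⟨c, hc, e⟩ := h
  rw [eps_act e]
  split_ifs <;> simp

theorem eps_inv {ε : C2} (h : Eps ε) : Eps ε⁻¹ := epsGroup.inv_mem h

theorem ee_eps {ε : C2} (h : Eps ε) {a : V} (ha : be bb a = 0) : EE (ε • a + a) := fun i => by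
  rw [be_add_right, be_comm, be_smul_left, be_comm a]
  rcases eps_xx (eps_inv h) i with e | e
  · rw [e, z2_add]
  · rw [e, be_add_left, ha, add_zero, z2_add]

theorem key {y : V} {ζ : C2} (hy : be bb y = 0) (h : ∀ a, be bb a = 0 → ζ • a = a + be a y • bb) :
    y = 0 ∨ y = bb := by
  have e : ζ = 1 := siegel hy fun a h1 h2 => by rw [h a h1, be_comm, h2, zero_smul, add_zero]
  refine mem_one fun c hc => ?_
  have := h c hc
  rw [e, one_smul, left_eq_add] at this
  exact (smul_eq_zero.1 this).resolve_right bb_ne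

/-- sign changes move elements of the frame space by multiples of `bb` -/
theorem EE.eps {w : V} (hw : EE w) {ε : C2} (h : Eps ε) : ε • w = w ∨ ε • w = w + BS.bb := by
  have : ε • w + w = 0 ∨ ε • w + w = BS.bb := mem_one fun c hc => by
    have := (ee_eps (eps_inv h) hc).be hw
    rwa [be_add_left, be_smul_left, inv_inv, ← be_add_right] at this
  refine this.imp add_eq_zero.1 fun e => ?_
  rw [← e, add_comm (ε • w), ← add_assoc, add_self, zero_add]

/-- an element of order 7 of M24 fixing `∞, 0, 1` -/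
def p7 : ℕ := 972767837495763289488521107013342240

theorem p7_in : H15.inM24 p7 = true := by decide +kernel

theorem p7_orb : ∀ i : GolayPt, ∃ m ∈ [0, 1474854, 593097, 14709264], ∃ p ∈ [(none : GolayPt), some 0, some 1],
    ∀ j, (∑ k ∈ Finset.range 7, if j = (H15.fnOf p7)^[k] i then (1 : ZMod 2) else 0) =
      (if m.testBit (H15.idx j) = true then 1 else 0) + if j = p then 1 else 0 := by
  decide +kernel

theorem exists_p7 : ∃ π : Equiv.Perm GolayPt, π ∈ M24 ∧ π none = none ∧ π (some 0) = some 0 ∧ π (some 1) = some 1 ∧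
    ∀ i, ∃ d ∈ code, ∃ p, (p = none ∨ p = some 0 ∨ p = some 1) ∧
      ∀ j, (∑ k ∈ Finset.range 7, if j = π^[k] i then (1 : ZMod 2) else 0) =
        (if j ∈ d then 1 else 0) + if j = p then 1 else 0 := by
  have e : ⇑(H15.permOf p7) = H15.fnOf p7 := funext (H15.permOf_apply (H15.okP_of_inM24 p7_in))
  refine ⟨_, H15.permOf_mem_M24 p7_in, ?_⟩
  rw [e]
  refine ⟨by decide +kernel, by decide +kernel, by decide +kernel, fun i => ?_⟩
  obtain ⟨m, hm, p, hp, h⟩ := p7_orb i
  refine ⟨H15.ofMask m, H15.ofMask_mem_of_isCode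
    ((by decide +kernel : ∀ m ∈ [0, 1474854, 593097, 14709264], H15.isCode m = true) m hm), p, by simpa using hp,
    fun j => ?_⟩
  rw [h, if_congr H15.mem_ofMask rfl rfl]

theorem exists_seven : ∃ σ : C2, σ • tb = tb ∧ σ • bb = bb ∧
    ∀ c, be tb c = 0 → be bb c = 0 → ∀ i, ∑ k ∈ Finset.range 7, be ((σ ^ k) • xx i) c = 0 := by
  obtain ⟨π, hπ, p1, p2, p3, p4⟩ := exists_p7
  have e : ∀ i, permHom ⟨π, hπ⟩ • pp none i = pp none (π i) := fun i => Subtype.ext (funext fun k => by
    obtain ⟨k, rfl⟩ := π.surjective k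
    rw [permHom_smul_apply ⟨π, hπ⟩, pp_apply, pp_apply, if_congr (π.apply_eq_iff_eq (x := k) (y := i)) rfl rfl,
      if_congr (show π k = none ↔ k = none by rw [← π.apply_eq_iff_eq (x := k), p1]) rfl rfl])
  obtain ⟨σ, s⟩ : ∃ σ : C2, ∀ i, σ • xx i = xx (π i) :=
    ⟨⟨permHom ⟨π, hπ⟩, by rw [MulAction.mem_stabilizer_iff, U_eq, e, p2]⟩, fun i => by
      rw [xx, smul_mk _ (pp_pp _ _)]; exact congrArg mk (e i)⟩
  have sk : ∀ k i, (σ ^ k) • xx i = xx (π^[k] i) := fun k => by
    induction k with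
    | zero => simp
    | succ k ih => intro i; rw [pow_succ, mul_smul, s, ih, Function.iterate_succ_apply]
  refine ⟨σ, by rw [← xx_one, s, p3], by rw [← xx_none, s, p1], fun c h1 h2 i => ?_⟩
  obtain ⟨d, hd, p, hp, h⟩ := p4 i
  have h3 : be (xx p) c = 0 := by
    rcases hp with e | e | e <;> rw [e]
    · exact xx_none ▸ h2
    · rw [xx_zero, map_zero, LinearMap.zero_apply]
    · exact xx_one ▸ h1
  have h4 : ∑ j ∈ d, be (xx j) c = 0 := by
    rw [← LinearMap.sum_apply, ← map_sum, rel hd, map_zero, LinearMap.zero_apply]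
  have h5 : ∀ g : GolayPt → ZMod 2, ∑ k ∈ Finset.range 7, g (π^[k] i) = ∑ j ∈ d, g j + g p := fun g =>
    calc _ = ∑ j, (∑ k ∈ Finset.range 7, if j = π^[k] i then (1 : ZMod 2) else 0) * g j := by
          simp only [Finset.sum_mul]
          rw [Finset.sum_comm]
          simp
      _ = _ := by simp [h, add_mul, Finset.sum_add_distrib]
  simp only [sk]
  rw [h5 fun j => be (xx j) c, h3, h4, add_zero]

/-- an element of the frame space fixed modulo `bb` by the stabiliser of `tb` and `bb` -/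
theorem fixed {w : V} (hw : EE w) (h : ∀ σ : C2, σ • tb = tb → σ • bb = bb → σ • w + w = 0 ∨ σ • w + w = bb) :
    w = 0 ∨ w = tb ∨ w = bb ∨ w = tb + bb := by
  obtain ⟨σ, h1, h2, h3⟩ := exists_seven
  refine mem_two fun c ct cb => ?_
  have e : EE (∑ k ∈ Finset.range 7, (σ ^ k)⁻¹ • c) := fun i => by
    rw [map_sum, ← h3 c ct cb i]
    exact Finset.sum_congr rfl fun k _ => (be_smul_left _ _ _).symm
  have f : ∀ k, be ((σ ^ k)⁻¹ • c) w = be c w := fun k => by
    rw [be_smul_left, inv_inv]
    have := h (σ ^ k) (MulAction.mem_stabilizer_iff.1 (pow_mem (MulAction.mem_stabilizer_iff.2 h1) k))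
      (MulAction.mem_stabilizer_iff.1 (pow_mem (MulAction.mem_stabilizer_iff.2 h2) k))
    have g : be c ((σ ^ k) • w + w) = 0 := by
      rcases this with g | g
      · rw [g, map_zero]
      · rw [g, be_comm, cb]
    rw [be_add_right] at g
    exact CharTwo.add_eq_zero.1 g
  have := e.be hw
  rw [map_sum, LinearMap.sum_apply] at this
  simp only [f, Finset.sum_const, Finset.card_range] at this
  revert this
  generalize be c w = s
  revert s
  decide

/-- an isometry fixing the frame and commuting with `R0` is a Siegel transformation -/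
theorem is_sg (κ : V →+ V) (hq : ∀ a, qq (κ a) = qq a) (hx : ∀ i, κ (xx i) = xx i)
    (hr : ∀ r : C2, Eps r → r • tb = tb → ∀ a, κ (r • a) = r • κ a) : ∃ w, EE w ∧ ∀ a, κ a = sg bb w a := by
  have hb : ∀ a c, be (κ a) (κ c) = be a c := fun a c => by
    have := qq_add (κ a) (κ c)
    rw [← map_add, hq, hq, hq, qq_add] at this
    exact (add_left_cancel this).symm
  have hE : ∀ a, EE (κ a + a) := fun a i => by rw [be_add_right, ← hb (xx i) a, hx, z2_add]
  have sy : ∀ a c, be (κ a + a) c = be (κ c + c) a := fun a c => by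
    have := (hE a).be (hE c)
    rw [be_add_right, be_add_left, hb, be_comm a (κ c)] at this
    rw [be_add_left (κ c), be_comm c a]
    exact CharTwo.add_eq_zero.1 (by linear_combination this)
  have al : ∀ a, be (κ a + a) a = 0 := fun a => by
    have := qq_add (κ a + a) a
    rw [add_assoc, add_self, add_zero, hq, (hE a).qq, zero_add, left_eq_add] at this
    exact this
  have ad : ∀ a c e, be (κ (a + c) + (a + c)) e = be (κ a + a) e + be (κ c + c) e := fun a c e => by
    rw [← be_add_left, map_add κ, add_add_add_comm]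
  have h1 : ∀ a, be tb a = 0 → be bb a = 0 → ∀ h, be bb h = 0 → be (κ h + h) a = 0 := fun a at' ab h hh => by
    have : ∀ r : C2, Eps r → r • tb = tb → r • (κ h + h) = κ h + h := fun r e1 e2 => be_ext fun o => by
      have e3 : Eps r⁻¹ := epsGroup.inv_mem e1
      rw [be_smul_left, sy, sy h, hr _ e3 (inv_smul_eq_iff.2 e2.symm), ← smul_add, be_smul_left, inv_inv]
      have := (hE o).be (ee_eps e1 hh)
      rw [be_add_right] at this
      exact CharTwo.add_eq_zero.1 this
    rcases fix_R0 this with e | e | e | e <;> rw [e]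
    · rw [map_zero, LinearMap.zero_apply]
    · exact at'
    · exact ab
    · rw [be_add_left, at', ab, add_zero]
  have h2 : ∀ a c, be bb a = 0 → be bb c = 0 → be (κ a + a) c = 0 := fun a c ha hc => by
    rcases z2 (be tb c) with e | e
    · exact h1 c e hc a ha
    rcases z2 (be tb a) with f | f
    · rw [sy]; exact h1 a f ha c hc
    have := h1 (a + c) (by rw [be_add_right, e, f]; rfl) (by rw [be_add_right, ha, hc, add_zero]) a ha
    rwa [be_add_right, al, zero_add] at this
  obtain ⟨o, ho⟩ : ∃ o, be bb o = 1 := by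
    by_contra! n
    exact bb_ne (be_nondeg fun c => (z2 _).resolve_right (n c))
  refine ⟨κ o + o, hE o, fun a => ?_⟩
  have h3 : ∀ a c, be bb c = 0 → be (κ a + a) c = be bb a * be (κ o + o) c := fun a c hc => by
    rcases z2 (be bb a) with e | e
    · rw [e, zero_mul, h2 a c e hc]
    · have := h2 (a + o) c (by rw [be_add_right, e, ho]; rfl) hc
      rw [ad] at this
      rw [e, one_mul]
      exact CharTwo.add_eq_zero.1 this
  rw [sg, add_assoc, ← add_eq_zero, ← add_assoc, add_eq_zero]
  refine be_ext fun c => ?_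
  rw [be_add_left (be a bb • _), map_smul, map_smul, LinearMap.smul_apply, LinearMap.smul_apply, smul_eq_mul,
    smul_eq_mul, be_comm a, be_comm a]
  rcases z2 (be bb c) with e | e
  · rw [e, mul_zero, add_zero, h3 a c e]
  · have := h3 a (c + o) (by rw [be_add_right, e, ho]; rfl)
    rw [be_add_right, be_add_right, al, add_zero, sy a o] at this
    rw [e, mul_one, ← this, add_assoc, z2_add, add_zero]

theorem sg_bb (w a : V) : sg bb (w + bb) a = sg bb w a := by
  simp only [sg, smul_add, be_add_right, add_smul]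
  linear_combination (be a bb • bb) * two0

end H18.BS.Rho

namespace H18.BS

open Cfsg H16 H95 H48.BR Subgroup H75.WC

theorem eps_xx {ε : C2} (h : Eps ε) (i : GolayPt) : ε • xx i = xx i ∨ ε • xx i = xx i + bb := Rho.eps_xx h i

theorem exists_x {ε : C2} (h : Eps ε) : ∃ i, Pt i ∧ ε • xx i = xx i := by
  obtain ⟨c, hc, e⟩ := h
  have h1 := ((Rho.eps_U hc).1 (e ▸ MulAction.mem_stabilizer_iff.1 ε.2)).1
  by_contra! n
  have s : cᶜ ⊆ {none, some 0} := fun i hi => by
    by_contra m
    simp only [Finset.mem_insert, Finset.mem_singleton, not_or] at m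
    exact n i m (by rw [Rho.eps_act e, if_neg (Finset.mem_compl.1 hi)])
  have := eq_empty_of_card_lt (compl_mem_code hc) ((Finset.card_le_card s).trans_lt (by decide))
  exact Finset.notMem_empty _ (this ▸ Finset.mem_compl.2 h1)

theorem exists_r {j : GolayPt} (h : Pt j) (h1 : j ≠ some 1) :
    ∃ r : C2, Eps r ∧ r • tb = tb ∧ r • xx j = xx j + bb := by
  obtain ⟨c, hc, e⟩ := exists_code_inter_eq_of_card_lt {none, some 0, some 1, j} {j} (by simp)
    (Finset.card_le_four.trans_lt (by norm_num))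
  have f : ∀ i ∈ ({none, some 0, some 1, j} : Finset GolayPt), i ∈ c ↔ i = j := fun i hi => by
    rw [← Finset.mem_singleton, ← e, Finset.mem_inter, and_iff_left hi]
  obtain ⟨r, r1, r2⟩ := Rho.exists_eps hc (fun m => h.1 ((f _ (by simp)).1 m).symm)
    fun m => h.2 ((f _ (by simp)).1 m).symm
  exact ⟨r, r1, by rw [← xx_one, r2, if_neg fun m => h1 ((f _ (by simp)).1 m).symm],
    by rw [r2, if_pos ((f _ (by simp)).2 rfl)]⟩

theorem rho (κ : V →+ V) (hq : ∀ a, qq (κ a) = qq a) (hb : κ bb = bb)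
    (hx : ∀ i, Pt i → κ (xx i) = xx i ∨ κ (xx i) = xx i + bb)
    (hr : ∀ r : C2, Eps r → r • tb = tb → ∀ a, κ (r • a) = r • κ a)
    (hs : ∀ σ : C2, σ • tb = tb → σ • bb = bb → ∃ r : C2, Eps r ∧ ∀ a, σ • κ a = κ (r • σ • a)) :
    ∃ ε : C2, Eps ε ∧ ((∀ a, κ a = ε • a) ∨ ∀ a, κ a = ε • sg bb tb a) := by
  classical
  let c : Finset GolayPt := Finset.univ.filter fun i => κ (xx i) ≠ xx i
  have mc : ∀ i, i ∈ c ↔ κ (xx i) ≠ xx i := fun i => by simp [c]
  have c1 : none ∉ c := by rw [mc, Rho.xx_none, hb]; simp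
  have c2 : some 0 ∉ c := by rw [mc, Rho.xx_zero, map_zero]; simp
  have kx : ∀ i, κ (xx i) = if i ∈ c then xx i + bb else xx i := fun i => by
    split_ifs with m
    · exact (hx i ⟨fun e => c1 (e ▸ m), fun e => c2 (e ▸ m)⟩).resolve_left ((mc i).1 m)
    · exact not_not.1 fun e => m ((mc i).2 e)
  have hc : c ∈ code := mem_code_of_even fun d hd => by
    have e := congrArg κ (Rho.rel hd)
    have f : ∀ i, κ (xx i) = xx i + if i ∈ c then bb else 0 := fun i => by rw [kx]; split_ifs <;> simp
    rw [map_sum, map_zero] at e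
    simp only [f, Finset.sum_add_distrib, Rho.rel hd, zero_add, Finset.sum_ite_mem, Finset.sum_const] at e
    by_contra n
    obtain ⟨k, hk⟩ : Odd (d ∩ c).card := Nat.not_even_iff_odd.1 fun g => n g.two_dvd
    rw [hk, add_nsmul, mul_nsmul, two_nsmul, add_self, nsmul_zero, zero_add, one_nsmul] at e
    exact Rho.bb_ne e
  obtain ⟨ε, e1, e2⟩ := Rho.exists_eps hc c1 c2
  have ee : ∀ a : V, ε • ε • a = a := fun a => by rw [← mul_smul, e1.sq, one_smul]
  have cm : ∀ r : C2, Eps r → ∀ a : V, ε • r • a = r • ε • a := fun r h a => by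
    have : ε * r = r * ε := by
      rw [eq_inv_of_mul_eq_one_left (e1.mul h).sq, mul_inv_rev, ← eq_inv_of_mul_eq_one_left e1.sq,
        ← eq_inv_of_mul_eq_one_left h.sq]
    rw [← mul_smul, this, mul_smul]
  obtain ⟨w, hw, hk⟩ := Rho.is_sg ((DistribSMul.toAddMonoidHom V ε).comp κ) (fun a => (qq_smul ε _).trans (hq a))
    (fun i => by change ε • κ (xx i) = _; rw [kx, ← e2, ee])
    (fun r h1 h2 a => by change ε • κ (r • a) = r • ε • κ a; rw [hr r h1 h2, cm r h1])
  replace hk : ∀ a, κ a = ε • sg bb w a := fun a => by rw [← hk]; exact (ee _).symm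
  have := Rho.fixed hw fun σ s1 s2 => by
    obtain ⟨r, r1, r2⟩ := hs σ s1 s2
    have ri : Eps r⁻¹ := epsGroup.inv_mem r1
    have r3 : ∀ a, sg bb w (r • a) = r • sg bb w a := fun a => by
      rw [smul_sg, r1.bb]
      rcases Rho.EE.eps hw r1 with e | e <;> rw [e]
      rw [Rho.sg_bb]
    refine Rho.key (ζ := (ε * r)⁻¹ * (σ * ε * σ⁻¹)) (by rw [be_add_right, ← s2, be_smul, s2, Rho.z2_add])
      fun a ha => ?_
    have := r2 (σ⁻¹ • a)
    have si : σ⁻¹ • bb = bb := inv_smul_eq_iff.2 s2.symm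
    rw [hk, hk, smul_inv_smul, r3, sg, sg, be_comm a bb, ha, be_smul_left σ⁻¹, inv_inv, s2, be_comm a bb, ha, zero_smul,
      add_zero, add_zero, be_smul_left σ⁻¹, inv_inv, smul_add, smul_add, smul_z2, smul_z2, e1.bb, s2] at this
    rw [mul_smul, inv_smul_eq_iff, mul_smul, mul_smul, mul_smul, eq_sub_of_add_eq this]
    simp only [smul_add, smul_z2, e1.bb, r1.bb, be_add_right, add_smul]
    linear_combination (-(be a (σ • w) • bb)) * two0
  refine ⟨ε, e1, ?_⟩
  have z : ∀ a, sg bb 0 a = a := fun a => by simp [sg]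
  rcases this with e | e | e | e
  · exact Or.inl fun a => by rw [hk, e, z]
  · exact Or.inr fun a => by rw [hk, e]
  · exact Or.inl fun a => by rw [hk, e, (congrArg (sg bb · a) (zero_add bb)).symm.trans ((Rho.sg_bb 0 a).trans (z a))]
  · exact Or.inr fun a => by rw [hk, e, Rho.sg_bb]

theorem not_sg {η r ε : C2} {x : V} (hx : be x tb = 0) (hb : be x bb = 0) (h0 : x + tb ≠ 0) (h1 : x + tb ≠ bb)
    (e1 : ε • x = x) (e2 : ε • tb = tb + bb) (e3 : ε • bb = bb)
    (h : ∀ a, η • sg x tb (ε • sg bb tb a) = r • η • sg x tb a) : False := by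
  have f2 : ε • (tb + bb) = tb := by rw [smul_add, e2, e3, add_assoc, add_self, add_zero]
  refine (Rho.key (y := x + tb) (ζ := ε⁻¹ * η⁻¹ * r * η) (by rw [be_add_right, be_bb_tb, be_comm, hb, add_zero])
    fun a ha => ?_).elim h0 h1
  have k := h (sg x tb a)
  have s1 : sg x tb (sg x tb a) = a := by
    simp only [sg, be_add_left, map_smul, LinearMap.smul_apply, be_self, hx, be_comm tb x, smul_eq_mul, mul_zero, add_zero]
    linear_combination (be a x • tb + be a tb • x) * two0
  have s2 : ∀ c, sg x tb (ε • c) = ε • sg x (tb + bb) c := fun c => by rw [smul_sg, e1, f2]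
  rw [s1, s2] at k
  rw [mul_smul, mul_smul, mul_smul, ← k, inv_smul_smul, inv_smul_smul]
  simp only [sg, be_add_left, be_add_right, map_smul, LinearMap.smul_apply, be_self, hx, be_comm tb x, hb, be_comm bb x,
    be_tb_bb, be_bb_tb, be_comm a bb, ha, smul_eq_mul, mul_zero, add_zero, zero_smul, smul_add, add_smul]
  linear_combination (be a x • tb + be a tb • x) * two0

end H18.BS
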