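import Cfsg.Agent.S1169
import Cfsg.Agent.Lib.SE42.Basic

/-!
# An involution with a unique fixed point in an irreducible elementary abelian subgroup (helper69, for BSTD TOP)
-/

set_option autoImplicit false

namespace H18.BS.Top

open Subgroup
open scoped commutatorElement

variable {H : Type*} [Group H] [Finite H]

omit [Finite H] in
theorem two_zp {s : H} (h : s * s = 1) : IsPGroup 2 (zpowers s) := fun ⟨x, n, e⟩ => ⟨1, Subtype.ext (by
  show x ^ 2 ^ 1 = 1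
  rw [← e, pow_one, ← zpow_natCast, ← zpow_mul, mul_comm, zpow_mul, zpow_natCast, pow_two, h, one_zpow])⟩

/-- the orbit of the unique fixed point of an involution has odd length -/
theorem orb {X : Type*} [MulAction H X] {C R : Subgroup H} {s : H} (hs : s ∈ C) (s2 : s * s = 1) {ω : X}
    (h0 : s • ω = ω) (h1 : ∀ x, s • x = x → x = ω) (hR : IsPGroup 2 R) (l : R ≤ C) :
    ∃ c ∈ C, ∀ r ∈ R, r • c • ω = c • ω := by
  have : Fact (Nat.Prime 2) := ⟨Nat.prime_two⟩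
  have : Finite (MulAction.orbit C ω) := Set.finite_range _
  have n : ¬ 2 ∣ Nat.card (MulAction.orbit C ω) := fun d => by
    obtain ⟨b, hb, ne⟩ := (two_zp (s := (⟨s, hs⟩ : C)) (Subtype.ext s2)).exists_fixed_point_of_prime_dvd_card_of_fixed_point
      (MulAction.orbit C ω) d (a := ⟨ω, MulAction.mem_orbit_self ω⟩) fun g => Subtype.ext
        ((zpowers_le (H := MulAction.stabilizer C ω)).2 h0 g.2)
    exact ne (Subtype.ext (h1 _ (congrArg Subtype.val (hb ⟨_, mem_zpowers _⟩))).symm)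
  obtain ⟨⟨_, c, rfl⟩, e⟩ := (hR.of_equiv (subgroupOfEquivOfLe l).symm).nonempty_fixed_point_of_prime_not_dvd_card
    (MulAction.orbit C ω) n
  exact ⟨c, c.2, fun r hr => congrArg Subtype.val (e ⟨⟨r, l hr⟩, hr⟩)⟩

theorem key {Y : Subgroup H} {t : H} (tY : t ∈ Y) (t2 : t * t = 1) (f1 : ∀ x, x * t * x⁻¹ ∈ Y → x ∈ Y)
    {C R : Subgroup H} {g : H} (hs : g * t * g⁻¹ ∈ C) (hR : IsPGroup 2 R) (l : R ≤ C) :
    ∃ c ∈ C, ∀ r ∈ R, (c * g)⁻¹ * r * (c * g) ∈ Y := by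
  obtain ⟨c, hc, e⟩ := orb (X := H ⧸ Y) hs (by rw [conj_mul, t2]; simp) (ω := (g : H ⧸ Y))
    ((H42.smul_mk_eq_iff _ _ _ _).2 (by simpa [mul_assoc] using tY)) (fun x hx => by
      obtain ⟨y, rfl⟩ := QuotientGroup.mk_surjective x
      rw [H42.smul_mk_eq_iff] at hx
      exact QuotientGroup.eq.2 (f1 _ (by simpa [mul_assoc] using hx))) hR l
  exact ⟨c, hc, fun r hr => by
    have := (H42.smul_mk_eq_iff Y r (c * g) (c * g)).1 (e r hr)
    rwa [← mul_assoc] at this⟩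

/-- the abstract configuration -/
structure Cf (Y A : Subgroup H) (t : H) : Prop where
  AY : A ≤ Y
  tA : t ∈ A
  sq : ∀ a ∈ A, a * a = 1
  nrm : ∀ y ∈ Y, ∀ a ∈ A, y * a * y⁻¹ ∈ A
  f1 : ∀ x, x * t * x⁻¹ ∈ Y → x ∈ Y
  fx : ∀ y ∈ Y, y * y = 1 → ∃ k ∈ Y, k * t * k⁻¹ * y = y * (k * t * k⁻¹)
  irr : ∀ B ≤ A, (∀ y ∈ Y, ∀ b ∈ B, y * b * y⁻¹ ∈ B) → B = ⊥ ∨ B = A
  cen : ∀ y ∈ Y, (∀ a ∈ A, y * a = a * y) → y ∈ A
  smp : ∀ N ≤ Y, A ≤ N → (∀ y ∈ Y, ∀ n ∈ N, y * n * y⁻¹ ∈ N) → N = A ∨ N = Y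
  t1 : t ≠ 1
  two : ∃ b ∈ A, b ≠ 1 ∧ ¬ IsConj t b
  ev : ∃ y ∈ Y, y ∉ A ∧ y * y ∈ A

namespace Cf

variable {Y A : Subgroup H} {t : H} (h : Cf Y A t)
include h

omit [Finite H] in
theorem comm {a b : H} (ha : a ∈ A) (hb : b ∈ A) : a * b = b * a := by
  have e : ∀ x ∈ A, x⁻¹ = x := fun x hx => inv_eq_of_mul_eq_one_left (h.sq x hx)
  rw [← e _ (A.mul_mem ha hb), mul_inv_rev, e a ha, e b hb]

theorem ky {C R : Subgroup H} {g : H} (hs : g * t * g⁻¹ ∈ C) (hR : IsPGroup 2 R) (l : R ≤ C) :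
    ∃ c ∈ C, ∀ r ∈ R, (c * g)⁻¹ * r * (c * g) ∈ Y := key (h.AY h.tA) (h.sq t h.tA) h.f1 hs hR l

theorem ky' {C : Subgroup H} {g k : H} (hs : g * t * g⁻¹ ∈ C) (hk : k ∈ Y) (hk' : k * t * k⁻¹ ∈ C) :
    ∃ c ∈ C, c * g ∈ Y := by
  obtain ⟨c, hc, e⟩ := h.ky hs (two_zp (h.sq _ (h.nrm k hk t h.tA))) (zpowers_le.2 hk')
  have := h.f1 ((c * g)⁻¹ * k) (by simpa [mul_assoc] using e _ (mem_zpowers _))
  exact ⟨c, hc, inv_mem_iff.1 ((Y.mul_mem_cancel_right hk).1 this)⟩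

theorem sc {a x : H} (ha : a ∈ A) (m : x * a * x⁻¹ ∈ Y) : x * a * x⁻¹ ∈ A := by
  obtain ⟨k, hk, e⟩ := h.fx _ m (by rw [conj_mul, h.sq a ha]; simp)
  obtain ⟨c, hc, f⟩ := h.ky' (C := centralizer {x * a * x⁻¹}) (g := x) (mem_centralizer_singleton_iff.2 (by
    rw [conj_mul, conj_mul, h.comm h.tA ha])) hk (mem_centralizer_singleton_iff.2 e)
  have := h.nrm _ f a ha
  rwa [show c * x * a * (c * x)⁻¹ = c * (x * a * x⁻¹) * c⁻¹ by group, mem_centralizer_singleton_iff.1 hc,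
    mul_inv_cancel_right] at this

theorem le_Y {R : Subgroup H} (hR : IsPGroup 2 R) (m : t ∈ R) : R ≤ Y := fun r hr => by
  obtain ⟨c, -, e⟩ := h.ky (C := ⊤) (g := 1) (mem_top _) hR le_top
  rw [mul_one] at e
  have hc := h.f1 c⁻¹ (by simpa using e t m)
  simpa [mul_assoc] using Y.mul_mem (Y.mul_mem (inv_mem hc) (e r hr)) hc

theorem trans {N : Subgroup H} [hN : N.Normal] (m : t ∈ N) (x : H) : ∃ c ∈ N, c * x ∈ Y :=
  h.ky' (hN.conj_mem t m x) (one_mem Y) (by simpa using m)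

theorem eq_bot {N : Subgroup H} [hN : N.Normal] (d : ∀ a ∈ A, a ∈ N → a = 1) : N = ⊥ := by
  have h1 : ∀ n ∈ N, n ∈ Y → n = 1 := fun n hn hy => d n (h.cen n hy fun a ha => by
    have := d _ (A.mul_mem (h.nrm n hy a ha) (inv_mem ha)) (by
      simpa [mul_assoc] using N.mul_mem hn (hN.conj_mem _ (inv_mem hn) a))
    rwa [mul_inv_eq_one, mul_inv_eq_iff_eq_mul] at this) hn
  have h2 : ∀ k ∈ Y, ∀ n ∈ N, n * (k * t * k⁻¹) = k * t * k⁻¹ * n → n = 1 := fun k hk n hn e =>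
    h1 n hn ((Y.mul_mem_cancel_right hk).1 (h.f1 _ (by
      rw [show n * k * t * (n * k)⁻¹ = n * (k * t * k⁻¹) * n⁻¹ by group, e, mul_inv_cancel_right]
      exact h.AY (h.nrm k hk t h.tA))))
  have h3 : ∀ k ∈ Y, ∀ n ∈ N, k * t * k⁻¹ * n * (k * t * k⁻¹)⁻¹ = n⁻¹ := fun k hk n hn => by
    have s2 := h.sq _ (h.nrm k hk t h.tA)
    have h2 := h2 k hk
    generalize k * t * k⁻¹ = s at s2 h2
    let f : N → N := fun m => ⟨m⁻¹ * (s * m * s⁻¹), N.mul_mem (inv_mem m.2) (hN.conj_mem _ m.2 s)⟩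
    have i : Function.Injective f := fun m m' e => by
      have e' : (m : H)⁻¹ * (s * m * s⁻¹) = (m' : H)⁻¹ * (s * m' * s⁻¹) := congrArg Subtype.val e
      have := h2 ((m' : H) * (m : H)⁻¹) (N.mul_mem m'.2 (inv_mem m.2)) (by
        calc (m' : H) * (m : H)⁻¹ * s = m' * ((m : H)⁻¹ * (s * m * s⁻¹)) * s * (m : H)⁻¹ := by group
          _ = s * (m' * (m : H)⁻¹) := by rw [e']; group)
      exact Subtype.ext (mul_inv_eq_one.1 this).symm
    obtain ⟨m, e⟩ := Finite.surjective_of_injective i ⟨n, hn⟩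
    have e' : (m : H)⁻¹ * (s * m * s⁻¹) = n := congrArg Subtype.val e
    rw [← e']
    calc s * ((m : H)⁻¹ * (s * m * s⁻¹)) * s⁻¹ = s * (m : H)⁻¹ * s⁻¹ * ((s * s) * m * (s * s)⁻¹) := by group
      _ = _ := by rw [s2]; group
  rcases h.irr (A ⊓ centralizer N) inf_le_left (fun y hy b hb => mem_inf.2 ⟨h.nrm y hy b (mem_inf.1 hb).1,
    fun n hn => by
      have := (mem_inf.1 hb).2 _ (hN.conj_mem n hn y⁻¹)
      calc n * (y * b * y⁻¹) = y * (y⁻¹ * n * y⁻¹⁻¹ * b) * y⁻¹ := by group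
        _ = _ := by rw [this]; group⟩) with e | e
  · exfalso
    have h4 : ∀ k ∈ Y, k * t * k⁻¹ = t := fun k hk => by
      have : t⁻¹ * (k * t * k⁻¹) ∈ A ⊓ centralizer N :=
        mem_inf.2 ⟨A.mul_mem (inv_mem h.tA) (h.nrm k hk t h.tA), fun n hn => by
          have e1 := h3 k hk n hn
          have e2 := h3 1 (one_mem Y) n hn
          rw [one_mul, inv_one, mul_one, ← e1] at e2
          generalize k * t * k⁻¹ = s at e2
          calc n * (t⁻¹ * s) = t⁻¹ * (t * n * t⁻¹) * s := by group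
            _ = _ := by rw [e2]; group⟩
      rw [e, mem_bot, inv_mul_eq_one] at this
      exact this.symm
    obtain ⟨b, hb, b1, nc⟩ := h.two
    rcases h.irr (zpowers t) (zpowers_le.2 h.tA) (by
      rintro y hy _ ⟨n, rfl⟩
      exact ⟨n, by rw [← conj_zpow, h4 y hy]⟩) with f | f
    · exact h.t1 (mem_bot.1 (f ▸ mem_zpowers t))
    · obtain ⟨n, rfl⟩ := (f ▸ hb : b ∈ zpowers t)
      have t2 : t ^ (2 : ℤ) = 1 := by rw [zpow_two, h.sq t h.tA]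
      rcases Int.even_or_odd' n with ⟨m, rfl | rfl⟩
      · exact b1 (by simp only [zpow_mul, t2, one_zpow])
      · exact nc (by simp only [zpow_add, zpow_mul, t2, one_zpow, one_mul, zpow_one]; exact IsConj.refl t)
  · refine eq_bot_iff.2 fun n hn => h2 1 (one_mem Y) n hn ?_
    simpa using (mem_inf.1 (e.symm ▸ h.tA : t ∈ A ⊓ centralizer N)).2 n hn

omit [Finite H] in
theorem twoA : IsPGroup 2 A := fun x => ⟨1, Subtype.ext (by simpa [pow_two] using h.sq x x.2)⟩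

theorem cases (hY : Y ≠ ⊤) (N : Subgroup H) (hN : N.Normal) : N = ⊥ ∨ N = ⊤ := by
  have : Fact (Nat.Prime 2) := ⟨Nat.prime_two⟩
  have k : ∀ M : Subgroup H, M.Normal → M = ⊥ ∨ A ≤ M := fun M hM =>
    (h.irr (A ⊓ M) inf_le_left fun y hy b hb =>
      mem_inf.2 ⟨h.nrm y hy b (mem_inf.1 hb).1, hM.conj_mem _ (mem_inf.1 hb).2 y⟩).imp
      (fun (e : A ⊓ M = ⊥) => h.eq_bot fun a ha m => mem_bot.1 (e ▸ mem_inf.2 ⟨ha, m⟩)) inf_eq_left.1
  refine (k N hN).imp_right fun l => ?_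
  rcases h.smp (Y ⊓ N) inf_le_left (le_inf h.AY l) (fun y hy n hn => mem_inf.2
    ⟨Y.mul_mem (Y.mul_mem hy (mem_inf.1 hn).1) (inv_mem hy), hN.conj_mem _ (mem_inf.1 hn).2 y⟩) with e | e
  · exfalso
    obtain ⟨P, hP⟩ := (h.twoA.comap_subtype (K := N)).exists_le_sylow
    have m : ∀ x : N, x ∈ P → (x : H) ∈ A := fun x hx => e ▸ mem_inf.2
      ⟨h.le_Y (P.2.map N.subtype) ⟨⟨t, l h.tA⟩, hP h.tA, rfl⟩ ⟨x, hx, rfl⟩, x.2⟩
    have hB : normalizer (P : Set N) ≤ centralizer (P : Set N) := fun x hx y hy => by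
      have x1 : (x : H) ∈ Y := h.f1 x (h.AY (m _ ((mem_normalizer_iff.1 hx ⟨t, l h.tA⟩).1 (hP h.tA))))
      exact Subtype.ext (h.comm (m y hy) (e ▸ mem_inf.2 ⟨x1, x.2⟩))
    have c : ⁅N, N⁆ = ⊥ := h.eq_bot fun a ha hc => by
      have : IsMulCommutative (P : Subgroup N) := ⟨⟨fun a b => Subtype.ext (hB (le_normalizer b.2) a a.2)⟩⟩
      have l2 : ⁅N, N⁆ ≤ (MonoidHom.transferSylow P hB).ker.map N.subtype := commutator_le.2 fun x hx y hy =>
        ⟨⁅(⟨x, hx⟩ : N), ⟨y, hy⟩⁆, by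
          rw [SetLike.mem_coe, MonoidHom.mem_ker, map_commutatorElement, commutatorElement_eq_one_iff_mul_comm]
          exact this.is_comm.comm _ _, rfl⟩
      obtain ⟨b, hb, rfl⟩ := l2 hc
      exact congrArg Subtype.val (disjoint_def.1 (MonoidHom.ker_transferSylow_disjoint P hB P P.2) hb (hP ha))
    refine hY (eq_top_iff.2 fun x _ => ?_)
    obtain ⟨n, hn, f⟩ := h.trans (l h.tA) x
    refine (Y.mul_mem_cancel_left (h.f1 n ?_)).1 f
    have := commutator_mem_commutator hn (l h.tA)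
    rw [c, mem_bot, commutatorElement_eq_one_iff_mul_comm] at this
    rw [this, mul_inv_cancel_right]
    exact h.AY h.tA
  · refine eq_top_iff.2 fun x _ => ?_
    obtain ⟨n, hn, f⟩ := h.trans (l h.tA) x
    exact (N.mul_mem_cancel_left hn).1 (inf_eq_left.1 e f)

theorem top : Y = ⊤ := by
  have : Fact (Nat.Prime 2) := ⟨Nat.prime_two⟩
  by_contra hY
  have : Nontrivial H := ⟨⟨t, 1, h.t1⟩⟩
  have : IsSimpleGroup H := ⟨h.cases hY⟩
  obtain ⟨y, hy, yA, y2⟩ := h.ev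
  have p : IsPGroup 2 (zpowers y) := by
    obtain ⟨k, -, e⟩ := (Nat.dvd_prime_pow Nat.prime_two).1 (orderOf_dvd_of_pow_eq_one (x := y) (n := 2 ^ 2) (by
      rw [← h.sq _ y2, ← pow_two, ← pow_two, ← pow_mul]; rfl))
    exact IsPGroup.of_card ((Nat.card_zpowers y).trans e)
  obtain ⟨T, hT⟩ := (p.to_sup_of_normal_right' h.twoA (zpowers_le.2 (mem_normalizer_iff.2 fun a =>
    ⟨h.nrm y hy a, fun m => by simpa [mul_assoc] using h.nrm _ (inv_mem hy) _ m⟩))).exists_le_sylow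
  have AT : A ≤ T := le_sup_right.trans hT
  have TY := h.le_Y T.2 (AT h.tA)
  rcases Cfsg.Agent.S1169.result T A (fun e => h.t1 (mem_bot.1 (e ▸ h.tA)))
    ⟨⟨fun a b => Subtype.ext (h.comm a.2 b.2)⟩⟩ ⟨AT, fun x hx g m => h.sc hx (TY m)⟩ with c | ⟨M, hM⟩
  · exact yA (h.cen y hy fun a ha => congrArg Subtype.val
      (c.is_comm.comm ⟨y, hT (mem_sup_left (mem_zpowers y))⟩ ⟨a, AT ha⟩))
  · obtain ⟨b, hb, b1, nc⟩ := h.two
    exact nc (H42.SE.isConj hM (orderOf_eq_prime (by rw [pow_two, h.sq t h.tA]) h.t1)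
      (orderOf_eq_prime (by rw [pow_two, h.sq b hb]) b1))

end Cf

end H18.BS.Top
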