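import Cfsg.Agent.Lib.BStd.F1
import Cfsg.Agent.Lib.BStd.Topa

set_option autoImplicit false

namespace H18.BS

open Cfsg H16 H95 H48.BR Subgroup H75.WC

variable {G : Type*} [Group G] [Finite G]

theorem St2.top (S : St2 G) (h : S.Full) {x : G} (hx : x * S.τ = S.τ * x) : x ∈ S.Y := by
  let X := centralizer ({S.τ} : Set G)
  have mX : ∀ {g : G}, g ∈ X ↔ g * S.τ = S.τ * g := mem_centralizer_singleton_iff
  have YX : S.Y ≤ X := fun _ hy => mX.2 hy.1
  have QX : S.Q ≤ X := S.QY.trans YX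
  let z : X := ⟨S.τ, mX.2 rfl⟩
  have z2 : z * z = 1 := Subtype.ext S.lfQ.sq
  have : (zpowers z).Normal := ⟨by
    rintro _ ⟨n, rfl⟩ g
    exact ⟨n, by rw [← conj_zpow, show g * z = z * g from Subtype.ext (mX.1 g.2), mul_inv_cancel_right]⟩⟩
  let p := QuotientGroup.mk' (zpowers z)
  have sj : Function.Surjective p := QuotientGroup.mk'_surjective _
  have pe : ∀ a b : X, p a = p b ↔ (b : G) = a ∨ (b : G) = a * S.τ := fun a b => by
    rw [QuotientGroup.mk'_apply, QuotientGroup.mk'_apply, QuotientGroup.eq, mem_zpowers_iff_of_sq z2,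
      inv_mul_eq_one, inv_mul_eq_iff_eq_mul, eq_comm, Subtype.ext_iff, Subtype.ext_iff]
    rfl
  have pq : ∀ a b : X, (a : G) ∈ S.Q → (b : G) ∈ S.Q → (p a = p b ↔ S.π a = S.π b) := fun a b ha hb => by
    rw [pe, S.lfQ.eq_iff ha hb]
  have pm : ∀ {K : Subgroup G}, S.Q ≤ K → ∀ a : X, p a ∈ (K.subgroupOf X).map p ↔ (a : G) ∈ K := fun l a =>
    ⟨fun ⟨b, hb, e⟩ => by
      rcases (pe b a).1 e with f | f <;> rw [f]
      exacts [hb, mul_mem hb (l S.lfQ.mem)], fun m => ⟨a, m, rfl⟩⟩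
  have mA := pm le_rfl
  have mY := pm S.QY
  have ψs : Function.Surjective S.ψ := fun γ => by
    obtain ⟨y, h1, h2⟩ := h γ
    exact ⟨⟨y, h1, γ, h2⟩, S.uniqQ _ _ _ (S.ψ_act _) h2⟩
  have C : Top.Cf ((S.Y.subgroupOf X).map p) ((S.Q.subgroupOf X).map p) (p ⟨S.t, QX S.tQ⟩) :=
    { AY := map_mono fun _ m => S.QY m
      tA := (mA _).2 S.tQ
      sq := by
        rintro _ ⟨a, ha, rfl⟩
        rw [← map_mul, ← map_one p, eq_comm, pe]
        have := zp_cases S.τ (qq (S.π a))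
        rw [← S.lfQ.sqr (a : G) ha] at this
        simpa using this
      nrm := by
        rintro _ ⟨y, ⟨-, γ, hy⟩, rfl⟩ _ ⟨a, ha, rfl⟩
        exact ⟨y * a * y⁻¹, (hy a ha).1, by simp⟩
      f1 := fun g m => by
        obtain ⟨g, rfl⟩ := sj g
        rw [← map_inv, ← map_mul, ← map_mul, mY] at m
        exact (mY g).2 (S.f1 h (mX.1 g.2) m)
      fx := by
        rintro _ ⟨y, hy, rfl⟩ e
        have y2 : (y : G) * y ∈ S.Q := (mA (y * y)).1 (by rw [map_mul, e]; exact one_mem _)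
        obtain ⟨a, ha, f⟩ := fix_ta (γ := S.ψ ⟨y, hy⟩) (by rw [← map_mul]; exact S.ψ_ker.2 y2)
        obtain ⟨δ, rfl⟩ := ta_trans ta_tb ha
        obtain ⟨k, k1, k2⟩ := h δ
        refine ⟨p ⟨k, mX.2 k1⟩, (mY _).2 ⟨k1, δ, k2⟩, ?_⟩
        obtain ⟨m1, m2⟩ := k2 _ S.tQ
        obtain ⟨m3, m4⟩ := S.ψ_act ⟨y, hy⟩ _ m1
        rw [eq_comm, ← mul_inv_eq_iff_eq_mul, ← map_inv, ← map_mul, ← map_mul, ← map_inv, ← map_mul, ← map_mul]
        exact (pq _ _ m3 m1).2 (m4.trans (by rw [show S.π _ = _ from m2, S.πt, f]; exact S.πt ▸ m2.symm))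
      irr := fun B l n => by
        have l' : (B.comap p).map X.subtype ≤ S.Q := by
          rintro _ ⟨b, hb, rfl⟩
          exact (mA b).1 (l hb)
        refine (irr (K := S.lfQ.img _ l') ?_).imp (fun e => eq_bot_iff.2 fun b hb => ?_)
          fun e => le_antisymm l ?_
        · rintro γ _ ⟨_, ⟨b, hb, rfl⟩, rfl⟩
          obtain ⟨k, k1, k2⟩ := h γ
          exact ⟨_, ⟨⟨k, mX.2 k1⟩ * b * ⟨k, mX.2 k1⟩⁻¹, by
            simpa using n _ ((mY ⟨k, mX.2 k1⟩).2 ⟨k1, γ, k2⟩) _ hb, rfl⟩, (k2 b ((mA b).1 (l hb))).2⟩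
        · obtain ⟨b, rfl⟩ := sj b
          have : S.π b ∈ S.lfQ.img _ l' := ⟨b, ⟨b, hb, rfl⟩, rfl⟩
          rw [e, AddSubgroup.mem_bot, ← S.lfQ.one] at this
          exact mem_bot.2 (((pq b 1 ((mA b).1 (l hb)) (one_mem _)).2 this).trans (map_one p))
        · rintro _ ⟨a, ha, rfl⟩
          obtain ⟨_, ⟨b, hb, rfl⟩, f⟩ : S.π a ∈ S.lfQ.img _ l' := e ▸ AddSubgroup.mem_top _
          exact (pq b a ((mA b).1 (l hb)) ha).2 f ▸ hb
      cen := by
        rintro _ ⟨y, ⟨y1, γ, hy⟩, rfl⟩ c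
        refine (mA y).2 (S.kerQ y1 fun a ha => ⟨(hy a ha).1, ?_⟩)
        rw [one_smul]
        exact (pq (y * (⟨a, QX ha⟩ : X) * y⁻¹) ⟨a, QX ha⟩ (hy a ha).1 ha).1 (by
          rw [map_mul, map_mul, c _ ((mA ⟨a, QX ha⟩).2 ha), map_inv, mul_inv_cancel_right])
      smp := fun N l1 l2 n => by
        let f : S.Y →* _ := p.comp (inclusion YX)
        have : (N.comap f).Normal := ⟨fun a ha y => by
          rw [mem_comap, map_mul, map_mul, map_inv]
          exact n _ ((mY (inclusion YX y)).2 y.2) _ ha⟩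
        refine (isSimple_Co2.eq_bot_or_eq_top_of_normal _ (this.map S.ψ ψs)).imp
          (fun e => le_antisymm (fun a ha => ?_) l2) fun e => le_antisymm l1 ?_
        · obtain ⟨a, m, rfl⟩ := l1 ha
          exact (mA a).2 ((S.ψ_ker (y := ⟨a, m⟩)).1 (mem_bot.1 (e ▸ mem_map_of_mem S.ψ (ha : _ ∈ N.comap f))))
        · rintro _ ⟨a, m, rfl⟩
          obtain ⟨b, hb, e'⟩ : S.ψ ⟨a, m⟩ ∈ (N.comap f).map S.ψ := e ▸ mem_top _
          have : f (b⁻¹ * ⟨a, m⟩) ∈ N := l2 ((mA _).2 ((S.ψ_ker (y := b⁻¹ * ⟨a, m⟩)).1 (by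
            rw [map_mul, map_inv, e']; exact inv_mul_cancel _)))
          rw [map_mul, map_inv] at this
          exact (N.mul_mem_cancel_left (inv_mem hb)).1 this
      t1 := fun e => tb_ne (by
        rw [← S.πt, ← S.lfQ.one]
        exact (pq ⟨S.t, QX S.tQ⟩ 1 S.tQ (one_mem _)).1 (e.trans (map_one p).symm))
      two := ⟨p ⟨S.β, QX (S.PQ S.βP)⟩, (mA _).2 (S.PQ S.βP), fun e => tb_bb.ne (by
          rw [← S.πβ, ← S.lfQ.one]
          exact (pq ⟨S.β, _⟩ 1 (S.PQ S.βP) (one_mem _)).1 (e.trans (map_one p).symm)), fun c => by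
        obtain ⟨g, e⟩ := isConj_iff.1 c
        obtain ⟨g, rfl⟩ := sj g
        rw [← map_inv, ← map_mul, ← map_mul, eq_comm, pe] at e
        obtain ⟨q, -, f⟩ := S.conjQ (S.PQ S.βP) (S.πβ ▸ tb_bb.ne)
        refine S.nc (IsConj.trans ?_ S.sg_β.isConj.symm)
        rcases e with e | e
        · exact isConj_iff.2 ⟨g, e⟩
        · exact (isConj_iff.2 ⟨g, e⟩ : IsConj S.t (S.β * S.τ)).trans (isConj_iff.2 ⟨q, f⟩).symm⟩
      ev := by
        have : Fact (Nat.Prime 2) := ⟨Nat.prime_two⟩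
        have : Finite C2 := Nat.finite_of_card_ne_zero (by rw [card_Co2]; norm_num)
        obtain ⟨γ, o⟩ := exists_prime_orderOf_dvd_card' (G := C2) 2 (by rw [card_Co2]; norm_num)
        obtain ⟨y, rfl⟩ := ψs γ
        refine ⟨p ⟨y, YX y.2⟩, (mY _).2 y.2, fun m => ?_, ?_⟩
        · rw [S.ψ_ker.2 ((mA _).1 m), orderOf_one] at o
          omega
        · rw [← map_mul]
          exact (mA _).2 ((S.ψ_ker (y := y * y)).1 (by rw [map_mul, ← pow_two, ← o, pow_orderOf_eq_one])) }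
  exact (mY ⟨x, mX.2 hx⟩).1 (C.top ▸ mem_top _)

end H18.BS
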