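import Cfsg.Agent.Lib.BStd.Sk

set_option autoImplicit false
set_option linter.unusedSectionVars false

namespace H18.BS

open Cfsg H16 H95 H48.BR Subgroup H75.WC

variable {G : Type*} [Group G] [Finite G]

namespace KFour

theorem four (S : Sk G) {u v w : G} (hu : u ∈ S.Z) (hv : v ∈ S.Z) (hw : w ∈ S.Z) (u1 : u ≠ 1)
    (v1 : v ≠ 1) (w1 : w ≠ 1) (vu : v ≠ u) (wu : w ≠ u) : w = v ∨ w = v * u := by
  have c : S.t * S.n = S.n * S.t := S.AK _ S.tZ.1 _ S.nK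
  have nn := S.lk.nn
  have tt := S.tt
  rcases S.Z_iff.1 hu with rfl | rfl | rfl | rfl <;> rcases S.Z_iff.1 hv with rfl | rfl | rfl | rfl <;>
    rcases S.Z_iff.1 hw with rfl | rfl | rfl | rfl <;>
    first
    | contradiction
    | exact Or.inl rfl
    | exact Or.inr rfl
    | exact Or.inr c.symm
    | exact Or.inr (by rw [← c, mul_assoc, nn, mul_one])
    | exact Or.inr (by rw [mul_assoc, tt, mul_one])
    | exact Or.inr (by rw [← mul_assoc, nn, one_mul])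
    | exact Or.inr (by rw [← c, ← mul_assoc, tt, one_mul])

omit [Finite G] in
theorem two {u v x y : G} (u2 : u * u = 1) (hx : x * u = u * x) (e : x * v * x⁻¹ = v ∨ x * v * x⁻¹ = v * u)
    (f : y * v * y⁻¹ = v ∨ y * v * y⁻¹ = v * u) : x * v = v * x ∨ y * v = v * y ∨ x * y * v = v * (x * y) := by
  simp only [← mul_inv_eq_iff_eq_mul (c := v)]
  refine e.imp_right fun e => f.imp_right fun f => ?_
  calc x * y * v * (x * y)⁻¹ = x * (y * v * y⁻¹) * x⁻¹ := by group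
    _ = x * v * x⁻¹ * (x * u * x⁻¹) := by rw [f]; group
    _ = v := by rw [e, hx, mul_inv_cancel_right, mul_assoc, u2, mul_one]

theorem step (S : Sk G) {p k v : G} (hp : p ∈ S.P) (hk : k ∈ S.K) (u2 : p * k * (p * k) = 1) (hv : v ∈ S.N)
    (vn : v * S.n = S.n * v) (v2 : v * v = 1) (v1 : v ∉ S.K) (vu : v * (p * k) ∉ S.K)
    (H : ∀ d, d * (p * k) = p * k * d → d * v * d⁻¹ = v ∨ d * v * d⁻¹ = v * (p * k)) :
    ∀ x ∈ S.P, x * p = p * x → v * x = x * v := by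
  have cu : ∀ x ∈ S.P, x * p = p * x → x * (p * k) = p * k * x := fun x hx e =>
    Commute.mul_right e (S.AK _ (S.PA hx) _ hk)
  have i1 : ∀ x ∈ S.P ⊓ centralizer {p}, ∀ y ∈ S.P ⊓ centralizer {p},
      x ∈ S.P ⊓ centralizer {p} ⊓ centralizer {v} ∨ y ∈ S.P ⊓ centralizer {p} ⊓ centralizer {v} ∨
        x * y ∈ S.P ⊓ centralizer {p} ⊓ centralizer {v} := fun x hx y hy => by
    have a := cu x hx.1 (mem_centralizer_singleton_iff.1 hx.2)
    have b := cu y hy.1 (mem_centralizer_singleton_iff.1 hy.2)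
    exact (two u2 a (H x a) (H y b)).imp (fun e => ⟨hx, mem_centralizer_singleton_iff.2 e⟩)
      (Or.imp (fun e => ⟨hy, mem_centralizer_singleton_iff.2 e⟩)
        fun e => ⟨mul_mem hx hy, mem_centralizer_singleton_iff.2 e⟩)
  have vτ : v * S.τ = S.τ * v := by
    obtain ⟨x, hx, e, f⟩ := S.exists_sq hp
    have m : x ∈ S.P ⊓ centralizer {p} := ⟨hx, mem_centralizer_singleton_iff.2 e⟩
    have : x * x ∈ S.P ⊓ centralizer {p} ⊓ centralizer {v} := by
      rcases i1 x m x m with h | h | h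
      exacts [mul_mem h h, mul_mem h h, h]
    exact (mem_centralizer_singleton_iff.1 (f ▸ this.2)).symm
  obtain ⟨γ, hγ⟩ := S.act v hv vn vτ
  obtain rfl := S.small hγ (S.act_sq hγ (v2 ▸ Act.one)) inf_le_left inf_le_left (S.idx_cent hp) i1
    fun x hx => (mem_centralizer_singleton_iff.1 hx.2).symm
  obtain ⟨p', hp', k', hk', rfl⟩ := S.ker v hv vn vτ hγ
  have cj : ∀ d ∈ S.A, d * (p' * k') * d⁻¹ = d * p' * d⁻¹ * k' := fun d hd => by
    rw [mul_assoc (d * p'), S.AK _ (inv_mem hd) _ hk']; group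
  have eτ : p' * S.τ * k' = p' * k' * S.τ := by
    rw [mul_assoc, S.AK _ (S.PA S.lk.mem) _ hk', mul_assoc]
  intro x hx e
  by_contra n
  have n' : x * (p' * k') * x⁻¹ ≠ p' * k' := fun f => n (mul_inv_eq_iff_eq_mul.1 f).symm
  have e1 := (H x (cu x hx e)).resolve_left n'
  have e2 : p * k = S.τ := by
    rcases S.lk.conj_or hx hp' with f | f
    · exact (n' (by rw [cj x (S.PA hx), f])).elim
    · rw [cj x (S.PA hx), f, eτ] at e1
      exact (mul_left_cancel e1).symm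
  rw [e2] at H vu
  rcases S.rad hp' (fix_U fun γ hγ => by
    obtain ⟨d, hd, c, a⟩ := S.surj γ hγ
    rw [← (a _ hp').2]
    rcases H d c with f | f
    · rw [cj d hd] at f; rw [mul_right_cancel f]
    · rw [cj d hd, ← eτ] at f; rw [mul_right_cancel f, S.lk.mulτ hp']) with f | f
  · exact v1 (mul_mem f.2.1 hk')
  · exact vu (eτ ▸ mul_mem f.2.1 hk')

theorem core (S T : Sk G) (hT : ∀ k ∈ S.K, k ∈ T.K → k ≠ 1 → k * k ≠ 1) (n1 : S.n ≠ 1) (n2 : T.n ≠ 1) {p k : G}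
    (hp : p ∈ S.P) (hk : k ∈ S.K) (h : S.π p = 0 ∨ S.π p = vb ∨ S.π p = vc) (hu : p * k ∈ T.Z)
    (uK : p * k ∉ S.K) : False := by
  have u1 : p * k ≠ 1 := fun e => uK (e ▸ one_mem _)
  obtain ⟨v, hv, v1, vu⟩ : ∃ v ∈ T.Z, v ≠ 1 ∧ v ≠ p * k := by
    by_cases e : T.n = p * k
    · exact ⟨_, T.tZ, T.t_ne, e ▸ T.t_ne_n⟩
    · exact ⟨_, T.nZ, n2, e⟩
  have H : ∀ d, d * (p * k) = p * k * d → d * v * d⁻¹ = v ∨ d * v * d⁻¹ = v * (p * k) := fun d hd =>
    four T hu hv (T.NZ (T.cN hu.2.1 u1 hu.2.2 hd) hv) u1 v1 (by rwa [Ne, conj_eq_one_iff]) vu fun e => vu (by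
      rw [mul_inv_eq_iff_eq_mul, ← hd] at e; exact mul_left_cancel e)
  have uM : p * k ∈ S.M := mul_mem_sup (S.PA hp) hk
  have cn := (S.MZ uM S.nZ).symm
  have ct := (S.MZ uM S.tZ).symm
  have vN : v ∈ S.N := by
    rcases two hu.2.2 cn (H _ cn) (H _ ct) with e | e | e
    · exact S.cN S.nK n1 S.lk.nn e.symm
    · exact S.cN S.tK S.t_ne S.tt e.symm
    · have m := mul_mem S.nZ S.tZ
      exact S.cN m.2.1 (fun f => S.t_ne_n (by
        rw [← mul_left_cancel_iff (a := S.n), f, S.lk.nn])) m.2.2 e.symm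
  have vn : v * S.n = S.n * v := by
    refine (mul_inv_eq_iff_eq_mul.1 ((H _ cn).resolve_right fun e => uK ?_)).symm
    have := mul_mem (S.NZ (inv_mem vN) S.nZ) (inv_mem S.nZ)
    rw [show v⁻¹ * S.n * v⁻¹⁻¹ * S.n⁻¹ = v⁻¹ * (S.n * v * S.n⁻¹) by group, e, inv_mul_cancel_left] at this
    exact this.2.1
  have vK : v ∉ S.K := fun e => hT v e hv.2.1 v1 hv.2.2
  have m := mul_mem hv hu
  have wK : v * (p * k) ∉ S.K := fun e => hT _ e m.2.1 (fun f => vu (by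
    rw [← mul_right_cancel_iff (a := p * k), f, hu.2.2])) m.2.2
  rcases S.zc hp h (d := v) (fun a ha hp' => step (S.cj a) hp' (by rwa [S.cj_K_eq (S.AN ha)]) hu.2.2
    (by rwa [S.cj_N_eq (S.AN ha)]) (by rwa [S.cj_n_eq (mem_sup_left ha)]) hv.2.2
    (by rwa [S.cj_K_eq (S.AN ha)]) (by rwa [S.cj_K_eq (S.AN ha)]) H) with e | e
  · exact vK e
  · refine wK ?_
    rw [T.AK _ hv.1 _ hu.2.1, S.AK _ (S.PA hp) _ hk, mul_assoc]
    exact mul_mem hk e

end KFour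

/-- the centre of `A` contains only one involution -/
theorem Sk.n_eq (S : Sk G) {g z : G} (hz : z ∈ S.Z) (h1 : z ≠ 1) (hM : g * z * g⁻¹ ∈ S.M)
    (hK : g * z * g⁻¹ ∉ S.K) : S.n = 1 := by
  have _ := h1
  by_contra n1
  obtain ⟨d, hd, p, hp, k, hk, e, h⟩ := S.cls _ hM (by rw [conj_mul, hz.2.2]; simp)
  have uK : p * k ∉ S.K := fun f => hK (by
    simpa [← e, mul_assoc] using S.NK _ (inv_mem (S.AN hd)) _ f)
  have e' : p * k = d * g * z * (d * g)⁻¹ := by rw [← e]; group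
  refine KFour.core S (S.cj (d * g)) (fun x h1 h2 h3 h4 => uK ?_) n1 (by rwa [Sk.cj_n, Ne, conj_eq_one_iff]) hp hk h
    (S.cj_Z.2 (by simpa [e', mul_assoc] using hz)) uK
  exact e' ▸ S.NK _ (S.ti' h1 h2 h3 h4) _ hz.2.1

end H18.BS
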