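import Cfsg.Agent.Lib.BStd.Sk
import Cfsg.Agent.Lib.BStd.Fus
import Cfsg.Agent.Lib.SE42.Basic
import Cfsg.Agent.S1911

set_option autoImplicit false

namespace H18.BS

open Cfsg H16 H95 H48.BR Subgroup H75.WC

variable {G : Type*} [Group G] [Finite G]

namespace KLam

theorem odd_of (B : Subgroup G) (h : ∀ x ∈ B, x * x = 1 → x = 1) : Odd (Nat.card B) := by
  by_contra n
  obtain ⟨x, hx⟩ := exists_prime_orderOf_dvd_card' (G := B) 2 (Nat.not_odd_iff_even.1 n).two_dvd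
  have e : x * x = 1 := by rw [← pow_two, ← hx, pow_orderOf_eq_one]
  rw [show x = 1 from Subtype.ext (h x x.2 (congrArg Subtype.val e)), orderOf_one] at hx
  omega

omit [Finite G] in
theorem nrm (S : Sk G) : normalizer (S.Z : Set G) = S.N :=
  le_antisymm (fun d hd => S.ti _ S.tK S.t_ne S.tt d ((mem_normalizer_iff.1 hd _).1 S.tZ).2.1) fun d hd =>
    mem_normalizer_iff.2 fun x => ⟨S.NZ hd, fun h => by simpa [mul_assoc] using S.NZ (inv_mem hd) h⟩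

theorem core (S T : Sk G) {u : G} (hu : u ∈ T.Z) (u1 : u ≠ 1) (hN : u ∈ S.N) (hK : u ∉ S.K)
    (hn : u * S.n = S.n * u) (hτ : u * S.τ = S.τ * u) (hT : ∀ k ∈ S.K, k ∈ T.K → k * k = 1 → k = 1) :
    (∃ x, x * u * x⁻¹ ∈ T.M ∧ x * u * x⁻¹ ∉ T.K) ∨ ∃ w ∈ T.Z, w ≠ 1 ∧ w ∈ S.M ∧ w ∉ S.K := by
  by_contra h
  rw [not_or] at h
  obtain ⟨ha, hb⟩ := h
  have uu : u * u = 1 := hu.2.2
  obtain ⟨γ, a⟩ := S.act u hN hn hτ
  have g1 : γ ≠ 1 := fun e => by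
    obtain ⟨p, hp, k, hk, r⟩ := S.ker u hN hn hτ (e ▸ a)
    exact hb ⟨u, hu, u1, r ▸ mul_mem_sup (S.PA hp) hk, hK⟩
  have g2 : γ * γ = 1 := S.act_sq a (uu ▸ Act.one)
  obtain ⟨A, cA, hA⟩ := Fus.exists_three g2 g1
  let f : G → G := fun x => x * (u * x⁻¹ * u⁻¹)
  have f1 : ∀ x ∈ S.P, f x ∈ S.P := fun x hx => mul_mem hx (a _ (inv_mem hx)).1
  have f2 : ∀ x ∈ S.P, S.π (f x) = γ • S.π x + S.π x := fun x hx => by
    rw [S.lk.add _ hx _ (a _ (inv_mem hx)).1, (a _ (inv_mem hx)).2, S.lk.inv hx, add_comm]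
  have f3 : ∀ x, f x * u = x * u * x⁻¹ := fun x => by simp only [f]; group
  have f4 : ∀ x ∈ S.P, S.π (f x) ∈ A → f x * u = u * f x := fun x hx m => by
    have e1 := (S.lk.sq_iff (f1 x hx)).2 (hA _ m).1
    have e2 : f x * u * (f x * u) = 1 := by rw [f3, conj_mul, uu, mul_one, mul_inv_cancel]
    rw [← inv_eq_of_mul_eq_one_right e2, mul_inv_rev, inv_eq_of_mul_eq_one_right e1,
      inv_eq_of_mul_eq_one_right uu]
  have f5 : ∀ x ∈ S.P, S.π (f x) ≠ 0 → f x ∉ T.M := fun x hx e m => by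
    have m1 : x * u * x⁻¹ ∈ T.M := f3 x ▸ mul_mem m (mem_sup_left hu.1)
    have m2 : x * u * x⁻¹ ∈ T.K := not_not.1 fun k => ha ⟨x, m1, k⟩
    have m3 : f x ∈ T.Z :=
      (mul_mem_cancel_right hu).1 (f3 x ▸ T.NZ (T.ti u hu.2.1 u1 uu x m2) hu)
    have n1 : f x ≠ 1 := fun r => e (by rw [r, S.lk.one])
    exact hb ⟨_, m3, n1, S.PM (f1 x hx), fun k => n1 (hT _ k m3.2.1 m3.2.2)⟩
  have f6 : ∀ x ∈ S.P, ∀ y ∈ S.P, S.π (f (x * y)) = S.π (f x) + S.π (f y) := fun x hx y hy => by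
    rw [f2 _ (mul_mem hx hy), f2 x hx, f2 y hy, S.lk.add x hx y hy, smul_add]; abel
  have f7 : ∀ x ∈ S.P, ∀ y ∈ S.P, S.π (f x) ∈ A → S.π (f y) ∈ A → S.π (f x) ≠ 0 → S.π (f y) ≠ 0 →
      S.π (f x) + S.π (f y) ≠ 0 → be (S.π x) (S.π (f y)) = 1 := fun x hx y hy m1 m2 n1 n2 n3 => by
    refine (z2 _).resolve_left fun e => f5 _ (mul_mem hx hy) (f6 x hx y hy ▸ n3) ?_
    rw [show f (x * y) = x * f y * x⁻¹ * f x by simp only [f]; group, (S.lk.commute_iff hx (f1 y hy)).2 e,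
      mul_inv_cancel_right]
    exact ((T.idx u hu.1 hu.2.1 u1 uu _ (T.cN hu.2.1 u1 uu (f4 y hy m2)) _ (T.cN hu.2.1 u1 uu (f4 x hx m1))
      (f4 y hy m2) (f4 x hx m1)).resolve_left (f5 y hy n2)).resolve_left (f5 x hx n1)
  have l : ∀ c ∈ A, ∃ x ∈ S.P, S.π (f x) = c := fun c hc => by
    obtain ⟨-, b, hb, rfl⟩ := hA c hc
    obtain ⟨x, hx, rfl⟩ := S.onto b hb
    exact ⟨x, hx, f2 x hx⟩
  obtain ⟨c1, m1, c2, m2, c3, m3, n1, n2, n3, n4, n5, n6, n7⟩ := three cA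
  obtain ⟨x, hx, rfl⟩ := l c1 m1
  obtain ⟨y, hy, rfl⟩ := l c2 m2
  obtain ⟨z, hz, rfl⟩ := l c3 m3
  have := f7 x hx _ (mul_mem hy hz) m1 (f6 y hy z hz ▸ add_mem m2 m3) n1 (f6 y hy z hz ▸ n6)
    (by rwa [f6 y hy z hz, ← add_assoc])
  rw [f6 y hy z hz, be_add_right, f7 x hx y hy m1 m2 n1 n2 n4, f7 x hx z hz m1 m3 n1 n3 n5] at this
  exact absurd this (by decide)

end KLam

/-- some conjugate of a central involution of `A` lies in `N` outside `K` -/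
theorem Sk.g1 [IsSimpleGroup G] (S : Sk G) :
    ∃ g, ∃ z ∈ S.Z, z ≠ 1 ∧ g * z * g⁻¹ ∈ S.N ∧ g * z * g⁻¹ ∉ S.K := by
  by_contra h
  have k : ∀ g, g ∉ S.N → ∀ x ∈ S.Z.map (MulAut.conj g).toMonoidHom, x ∈ S.N → x = 1 := by
    rintro g hg _ ⟨z, hz, rfl⟩ m
    by_contra n
    have z1 : z ≠ 1 := fun e => n (by rw [e, map_one])
    exact h ⟨g, z, hz, z1, m, fun e => hg (S.ti z hz.2.1 z1 hz.2.2 g e)⟩
  have o2 : ∀ x : G, x ≠ 1 → x * x = 1 → orderOf x = 2 := fun x h1 h2 =>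
    orderOf_eq_prime (by rw [pow_two, h2]) h1
  have nb : S.Z ≠ ⊥ := fun e => S.t_ne (mem_bot.1 (e ▸ S.tZ))
  have := Cfsg.Agent.S1911.result S.Z ⟨even_iff_two_dvd.2 (o2 _ S.t_ne S.tt ▸ orderOf_dvd_natCard _ S.tZ),
    fun g hg => KLam.odd_of _ fun x hx _ => k g (KLam.nrm S ▸ hg) x hx.2 (S.KN hx.1.2.1)⟩
    fun g hg => KLam.odd_of _ fun x hx _ => k g (KLam.nrm S ▸ hg) x hx.1 (KLam.nrm S ▸ hx.2)
  rcases this with n | s
  · exact S.τK ((show S.τ ∈ S.Z from ((n.eq_bot_or_eq_top).resolve_left nb).symm ▸ mem_top _).2.1)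
  · have e : normalClosure (S.Z : Set G) = ⊤ :=
      (normalClosure_normal.eq_bot_or_eq_top).resolve_left fun e => nb (eq_bot_iff.2 (e ▸ le_normalClosure))
    rw [KLam.nrm] at s
    obtain ⟨u, u2, hu⟩ := H42.SE.exists_involution_not_mem s
    obtain ⟨d, hd, -, r⟩ := H42.SE.exists_conj s (u := u) (s := ⟨S.t, e ▸ mem_top _⟩) (t := ⟨S.τ, e ▸ mem_top _⟩)
      (by rw [← pow_two, ← u2, pow_orderOf_eq_one]) hu
      (by rw [← orderOf_coe]; exact o2 _ S.t_ne S.tt) (S.KN S.tK)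
      (by rw [← orderOf_coe]; exact o2 _ S.lk.ne S.lk.sq) (S.AN (S.PA S.lk.mem))
    have r' : (d : G) * S.t * (d : G)⁻¹ = S.τ := congrArg Subtype.val r
    exact S.τK (r' ▸ S.NK d hd.1 _ S.tK)

/-- some conjugate of a central involution of `A` lies in `AK` outside `K` -/
theorem Sk.lam (S : Sk G) {g z : G} (hz : z ∈ S.Z) (h1 : z ≠ 1) (hN : g * z * g⁻¹ ∈ S.N) (hK : g * z * g⁻¹ ∉ S.K)
    (hn : g * z * g⁻¹ * S.n = S.n * (g * z * g⁻¹)) :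
    ∃ g, ∃ z ∈ S.Z, z ≠ 1 ∧ g * z * g⁻¹ ∈ S.M ∧ g * z * g⁻¹ ∉ S.K := by
  have hu : g * z * g⁻¹ ∈ (S.cj g).Z := S.cj_Z.2 (by simpa [mul_assoc] using hz)
  obtain ⟨a, ha, e⟩ := S.fix_sg (H9.isPGroup_zpowers_of_mul_self hu.2.2) (zpowers_le.2 hN)
  have eA := S.cj_A_eq (S.AN ha)
  have eK := S.cj_K_eq (S.AN ha)
  rcases KLam.core (S.cj a) (S.cj g) hu (by simpa using h1) (by rwa [S.cj_N_eq (S.AN ha)]) (by rwa [eK])
    (by rwa [S.cj_n_eq (mem_sup_left ha)]) (e _ (mem_zpowers _)) (fun k hk hk' k2 => by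
      by_contra n
      rw [eK] at hk
      exact hK (S.NK g (S.ti' hk hk' n k2) z hz.2.1)) with ⟨x, m, n⟩ | ⟨w, hw, w1, m, n⟩
  · have r : g⁻¹ * x * g * z * (g⁻¹ * x * g)⁻¹ = g⁻¹ * (x * (g * z * g⁻¹) * x⁻¹) * g := by group
    exact ⟨g⁻¹ * x * g, z, hz, h1, r ▸ S.cj_M.1 m, r ▸ fun k => n (S.cj_K.2 k)⟩
  · have r : g * (g⁻¹ * w * g) * g⁻¹ = w := by group
    refine ⟨g, _, S.cj_Z.1 hw, fun k => w1 (by rw [← r, k]; simp), ?_, ?_⟩ <;> rw [r]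
    · rwa [Sk.M, eA, eK] at m
    · rwa [eK] at n

end H18.BS
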