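import Cfsg.Agent.Lib.BStd.Sk
import Cfsg.Agent.S0028

set_option autoImplicit false

namespace H18.BS

open Cfsg H16 H95 H48.BR Subgroup H75.WC

variable {G : Type*} [Group G] [Finite G]

namespace KOdd

/-- a central involution which is the only nontrivial 2-element has a complement -/
theorem compl {K : Type*} [Group K] [Finite K] {t : K} (tt : t * t = 1) (c : ∀ k, k * t = t * k)
    (h2 : ∀ k : K, ∀ m : ℕ, k ^ 2 ^ m = 1 → k = 1 ∨ k = t) :
    ∃ R : Subgroup K, Odd (Nat.card R) ∧ ∀ k, k ∈ R ∨ k * t ∈ R := by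
  obtain ⟨P⟩ : Nonempty (Sylow 2 K) := inferInstance
  have hp : ∀ p ∈ (P : Subgroup K), p = 1 ∨ p = t := fun p hp => by
    obtain ⟨m, e⟩ := P.2 ⟨p, hp⟩
    exact h2 p m (congrArg Subtype.val e)
  have hP : normalizer (P : Set K) ≤ centralizer (P : Set K) := fun k _ p m => by
    rcases hp p m with rfl | rfl
    exacts [by simp, (c k).symm]
  refine ⟨_, Nat.two_dvd_ne_zero.1 (MonoidHom.not_dvd_card_ker_transferSylow P hP) |> Nat.odd_iff.2, fun k => ?_⟩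
  obtain ⟨⟨r, p⟩, e, -⟩ := (MonoidHom.ker_transferSylow_isComplement' P hP).existsUnique k
  rcases hp p p.2 with f | f <;> rw [f] at e
  · exact Or.inl (e ▸ by simp)
  · exact Or.inr (by rw [← e, mul_assoc, tt, mul_one]; exact r.2)

/-- the 2-elements centralising the centraliser of `u` in `P` -/
theorem inP (S : Sk G) (h2 : ∀ k ∈ S.K, ∀ m : ℕ, k ^ 2 ^ m = 1 → k = 1 ∨ k = S.t) {u w : G} (hu : u ∈ S.P)
    (w4 : w ^ 4 = 1) (h : ∀ x ∈ S.P ⊓ centralizer {u}, w * x = x * w) : w ∈ S.P := by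
  obtain ⟨q, hq, k, hk, rfl, -⟩ := S.mem_of_fix hu fun x hx e => h x ⟨hx, mem_centralizer_singleton_iff.2 e⟩
  rw [Commute.mul_pow (S.AK q (S.PA hq) k hk), S.lk.four hq, one_mul] at w4
  rcases h2 k hk 2 w4 with rfl | rfl
  exacts [mul_mem hq (one_mem _), mul_mem hq S.tP]

theorem nrm (T : Sk G) (hn : T.n = 1) {d : G} (h1 : d * T.t = T.t * d) (h : d * T.τ = T.τ * d) :
    d ∈ normalizer (T.P : Set G) := by
  obtain ⟨γ, a⟩ := T.act d (T.cN T.tK T.t_ne T.tt h1) (by rw [hn, mul_one, one_mul]) h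
  exact mem_normalizer_fintype fun x hx => (a x hx).1

/-- local balance -/
theorem bal (S : Sk G) (hn : S.n = 1) (h2 : ∀ k ∈ S.K, ∀ m : ℕ, k ^ 2 ^ m = 1 → k = 1 ∨ k = S.t) {O : Subgroup G}
    (l : O ≤ S.K) (o : Odd (Nat.card O)) {g : G} (hu : (S.cj g).t ∈ S.P) : O ≤ (S.cj g).K := by
  have hn' : (S.cj g).n = 1 := by rw [Sk.cj_n, hn, mul_one, mul_inv_cancel]
  generalize S.cj g = T at hu hn'
  have two : IsPGroup 2 ↥(S.P ⊓ centralizer {T.t}) := S.lk.two.to_le inf_le_left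
  obtain ⟨a, ha, f⟩ := T.fix_sg two fun x hx => T.cN T.tK T.t_ne T.tt (mem_centralizer_singleton_iff.1 hx.2)
  rw [← T.cj_K_eq (T.AN ha)]
  rw [← T.cj_t_eq (mem_sup_left ha)] at hu two f
  rw [← T.cj_n_eq (mem_sup_left ha)] at hn'
  generalize T.cj a = U at hu hn' two f
  have c : ∀ p ∈ S.P, ∀ x ∈ O, x * p = p * x := fun p hp x hx => (S.AK p (S.PA hp) x (l hx)).symm
  have σ : U.τ ∈ S.P := inP S h2 hu (U.lk.four U.lk.mem) fun x hx => (f x hx).symm
  have := Agent.S0028.result 2 _ O U.P two (Nat.coprime_two_right.2 o) U.lk.two (fun p hp x hx => c p hp.1 x hx)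
    (fun x hx => nrm U hn' (mem_centralizer_singleton_iff.1 hx.2) (f x hx))
    (fun x hx => nrm U hn' (c _ hu x hx) (c _ σ x hx))
    (fun w hw x hx => c w (inP S h2 hu (U.lk.four hw.1) fun y hy => (hw.2 y hy).symm) x hx)
  intro x hx
  obtain ⟨q, hq, k, hk, rfl, e⟩ := U.mem_of_fix (d := x) (one_mem _) fun y hy _ => (this hx y hy).symm
  obtain ⟨j, hj⟩ := exists_pow_eq_self_of_coprime (x := q * k) (n := 4)
    ((Nat.coprime_two_left.2 (o.of_dvd_nat (orderOf_dvd_natCard _ hx))).pow_left 2)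
  rw [← hj, Commute.mul_pow (U.AK q (U.PA hq) k hk), U.lk.four hq, one_mul]
  exact pow_mem (pow_mem hk _) _

end KOdd

/-- the odd core of `K` and local balance -/
theorem Sk.exists_O (S : Sk G) (hn : S.n = 1) (h2 : ∀ k ∈ S.K, ∀ m : ℕ, k ^ 2 ^ m = 1 → k = 1 ∨ k = S.t) :
    ∃ O : Subgroup G, O ≤ S.K ∧ Odd (Nat.card O) ∧ (∀ k ∈ S.K, Odd (orderOf k) → k ∈ O) ∧
      (∀ k ∈ S.K, k ∈ O ∨ k * S.t ∈ O) ∧ S.N ≤ normalizer (O : Set G) ∧
      ∀ g, g * S.t * g⁻¹ ∈ S.M → g ∈ normalizer (O : Set G) := by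
  obtain ⟨R, o, hR⟩ := KOdd.compl (t := (⟨S.t, S.tK⟩ : S.K)) (Subtype.ext S.tt)
    (fun k => Subtype.ext (S.Nt hn (S.KN k.2)))
    fun k m e => (h2 k k.2 m (congrArg Subtype.val e)).imp Subtype.ext Subtype.ext
  rw [← card_map_of_injective S.K.subtype_injective] at o
  have l := map_subtype_le R
  have h4 : ∀ k ∈ S.K, k ∈ R.map S.K.subtype ∨ k * S.t ∈ R.map S.K.subtype :=
    fun k hk => (hR ⟨k, hk⟩).imp (mem_map_of_mem _) (mem_map_of_mem _)
  generalize R.map S.K.subtype = O at o l h4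
  have od : ∀ x ∈ O, Odd (orderOf x) := fun x hx => o.of_dvd_nat (orderOf_dvd_natCard _ hx)
  have h3 : ∀ k ∈ S.K, Odd (orderOf k) → k ∈ O := fun k hk ok => (h4 k hk).resolve_right fun m => by
    obtain ⟨j, hj⟩ := ok.mul (od _ m)
    have e : (k * S.t) ^ (orderOf k * orderOf (k * S.t)) = 1 := by rw [pow_mul', pow_orderOf_eq_one, one_pow]
    rw [Commute.mul_pow (S.Nt hn (S.KN hk)), pow_mul, pow_orderOf_eq_one, one_pow, one_mul, hj, pow_succ, pow_mul,
      pow_two, S.tt, one_pow, one_mul] at e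
    exact S.t_ne e
  have h5 : ∀ g, (∀ x ∈ O, g * x * g⁻¹ ∈ S.K) → g ∈ normalizer (O : Set G) := fun g h =>
    mem_normalizer_fintype fun x hx => h3 _ (h x hx) (by
      rw [show g * x * g⁻¹ = MulAut.conj g x from rfl, MulEquiv.orderOf_eq]; exact od x hx)
  have h6 : S.N ≤ normalizer (O : Set G) := fun d hd => h5 d fun x hx => S.NK d hd x (l hx)
  refine ⟨O, l, o, h3, h4, h6, fun g hg => ?_⟩
  have uu : g * S.t * g⁻¹ * (g * S.t * g⁻¹) = 1 := (S.cj g).tt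
  obtain ⟨d, hd, p, hp, k, hk, e, f⟩ := S.cls _ hg (uu ▸ one_mem _)
  have e' : (S.cj (d * g)).t = p * k := by rw [← e, Sk.cj_t]; group
  have kk := (S.cj (d * g)).tt
  rw [e', Commute.mul_mul_mul_comm (S.AK p (S.PA hp) k hk).symm, (S.lk.sq_iff hp).2 (qq_cls f), one_mul] at kk
  have := KOdd.bal S hn h2 l o (g := d * g) (by
    rcases h2 k hk 1 (by rw [pow_one, pow_two, kk]) with rfl | rfl <;> rw [e']
    exacts [mul_mem hp (one_mem _), mul_mem hp S.tP])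
  exact (Subgroup.mul_mem_cancel_left _ (h6 (S.AN hd))).1 (inv_mem_iff.1 (h5 _ fun x hx => by
    rw [inv_inv]; exact S.cj_K.1 (this hx)))

end H18.BS
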