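import Cfsg.Agent.Lib.BStd.Sk
import Cfsg.Agent.Lib.PGroup.Basic

/-! The central involution generates a Sylow 2-subgroup of the centraliser (package KTWO). -/

set_option autoImplicit false
set_option linter.unusedSectionVars false

namespace H18.BS

open Cfsg H16 H95 H48.BR Subgroup H75.WC

variable {G : Type*} [Group G] [Finite G]

namespace KTwo

open scoped commutatorElement

/-- a nontrivial invariant subgroup contains a singular vector -/
theorem sing {K : AddSubgroup V} (h : ∀ γ : C2, Ux γ → ∀ a ∈ K, γ • a ∈ K)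
    (hs : ∀ a ∈ K, qq a = 0 → a = 0) : K = ⊥ := by
  by_contra hn
  let S : SubMulAction VB.R0 V := ⟨K, fun γ a e => h γ (γ.2.1.ux γ.2.2) a e⟩
  let _ : MulAction VB.R0 S := S.mulAction
  have d : 2 ∣ Nat.card S := by
    obtain ⟨k, -, e⟩ := (Nat.dvd_prime_pow Nat.prime_two).1 (Dvd.intro _ (card_perp K))
    show 2 ∣ Nat.card K
    rw [e]
    exact dvd_pow_self 2 fun f => hn (AddSubgroup.card_eq_one.1 (by rw [e, f, pow_zero]))
  obtain ⟨b, hb, ne⟩ := VB.R0_two.exists_fixed_point_of_prime_dvd_card_of_fixed_point S d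
    (a := ⟨0, K.zero_mem⟩) fun ε => Subtype.ext (smul_zero (ε : C2))
  refine ne (Subtype.ext (hs b.1 b.2 ?_).symm)
  rcases fix_R0 (a := b.1) fun ε h1 h2 => congrArg Subtype.val (hb ⟨ε, h1, h2⟩) with f | f | f | f <;>
    rw [f]
  exacts [qq_zero, ta_tb.qq, tb_bb.qq, om_bb.1.qq]

theorem mem_zp {t x : G} (h : t * t = 1) : x ∈ zpowers t ↔ x = 1 ∨ x = t := by
  refine ⟨?_, ?_⟩
  · intro hx
    obtain ⟨n, rfl⟩ := (mem_powers_iff_mem_zpowers.2 hx)
    induction n with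
    | zero => simp
    | succ n ih =>
      rcases ih (pow_mem (mem_zpowers t) n) with e | e
      · right; simp only [pow_succ] at *; rw [e, one_mul]
      · left; simp only [pow_succ] at *; rw [e, h]
  · rintro (rfl | rfl)
    exacts [one_mem _, mem_zpowers _]

/-- a 2-subgroup above `N0` containing a conjugate of `x` -/
theorem syl {L N0 : Subgroup G} (h0 : N0 ≤ L) (h2 : IsPGroup 2 N0) {x : G} (hx : x ∈ L) {m : ℕ}
    (e : x ^ 2 ^ m = 1) :
    ∃ R : Subgroup G, IsPGroup 2 R ∧ N0 ≤ R ∧ R ≤ L ∧ ∃ l ∈ L, l * x * l⁻¹ ∈ R := by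
  have : Fact (Nat.Prime 2) := ⟨Nat.prime_two⟩
  obtain ⟨P, hP⟩ := (h2.comap_of_injective L.subtype L.subtype_injective).exists_le_sylow
  have hz : IsPGroup 2 (zpowers (⟨x, hx⟩ : L)) := by
    rintro ⟨_, k, rfl⟩
    refine ⟨m, Subtype.ext (Subtype.ext ?_)⟩
    show (x ^ k) ^ 2 ^ m = 1
    rw [← zpow_natCast, ← zpow_mul, mul_comm, zpow_mul, zpow_natCast, e, one_zpow]
  obtain ⟨Q, hQ⟩ := hz.exists_le_sylow
  obtain ⟨l, hl⟩ := MulAction.exists_smul_eq L Q P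
  refine ⟨(P : Subgroup L).map L.subtype, P.2.map _, fun y hy => ⟨⟨y, h0 hy⟩, hP hy, rfl⟩,
    map_subtype_le _, l, l.2, ⟨l * ⟨x, hx⟩ * l⁻¹, ?_, rfl⟩⟩
  rw [← hl]
  exact Subgroup.smul_mem_pointwise_smul _ (MulAut.conj l) _ (hQ (mem_zpowers _))

/-- two structures with commuting central involutions -/
structure Pr (S T : Sk G) : Prop where
  n1 : S.n = 1
  n2 : T.n = 1
  ti : ∀ k ∈ S.K, k ∈ T.K → k * k = 1 → k = 1
  cm : S.t * T.t = T.t * S.t

namespace Pr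

variable {S T : Sk G} (h : Pr S T)
include h

theorem cj {a : G} (ha : a ∈ T.A) : Pr S (T.cj a) where
  n1 := h.n1
  n2 := by rw [T.cj_n_eq (mem_sup_left ha), h.n2]
  ti := by rw [T.cj_K_eq (T.AN ha)]; exact h.ti
  cm := by rw [T.cj_t_eq (mem_sup_left ha), h.cm]

theorem tK : S.t ∉ T.K := fun e => S.t_ne (h.ti _ S.tK e S.tt)

theorem inv {r : G} (hr : r ∈ S.K) (hM : r ∈ T.M) (e : r * r = 1) : r = 1 ∨ r = S.t := by
  by_cases r1 : r = 1
  · exact Or.inl r1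
  right
  obtain ⟨d, hd, p, hp, k, hk, f, hc⟩ := T.cls r hM (e ▸ one_mem _)
  have pk := T.AK p (T.PA hp) k hk
  have rt : S.t * r = r * S.t := S.AK _ (S.PA S.tP) r hr
  have dK : ∀ y, d * y * d⁻¹ ∈ T.K → y ∈ T.K := fun y hy => by
    simpa [mul_assoc] using T.NK _ (inv_mem (T.AN hd)) _ hy
  rcases T.zc (d := d * S.t * d⁻¹) hp hc (fun a ha _ x hx xp => by
    have xA : x ∈ T.A := T.cj_A_eq (T.AN ha) ▸ (T.cj a).PA hx
    have c1 : x * (d * r * d⁻¹) = d * r * d⁻¹ * x := by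
      rw [f]; exact Commute.mul_right xp (T.AK x xA k hk)
    have c2 : d⁻¹ * x * d * r = r * (d⁻¹ * x * d) := by
      calc d⁻¹ * x * d * r = d⁻¹ * (x * (d * r * d⁻¹)) * d := by group
        _ = _ := by rw [c1]; group
    have c3 := S.Nt h.n1 (S.cN hr r1 e c2)
    calc d * S.t * d⁻¹ * x = d * (S.t * (d⁻¹ * x * d)) * d⁻¹ := by group
      _ = _ := by rw [← c3]; group) with m | m
  · exact (h.tK (dK _ m)).elim
  · have m2 : r * S.t ∈ T.K := dK _ (by
      rw [show d * (r * S.t) * d⁻¹ = d * r * d⁻¹ * (d * S.t * d⁻¹) by group, f, pk, mul_assoc k]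
      exact mul_mem hk m)
    have := h.ti _ (mul_mem hr S.tK) m2 (by
      rw [Commute.mul_mul_mul_comm rt, e, S.tt, one_mul])
    rw [eq_inv_of_mul_eq_one_left this, inv_eq_of_mul_eq_one_left S.tt]

theorem out (ht : S.t ∉ T.M) {x : G} (hx : x ∈ S.K) (hu : x * T.t = T.t * x) {m : ℕ}
    (e : x ^ 2 ^ m = 1) : x = 1 ∨ x = S.t := by
  have xt : S.t * x = x * S.t := S.AK _ (S.PA S.tP) x hx
  have key : ∀ y ∈ S.K, y ∈ T.M → y ^ 2 ^ (m + 1) = 1 → y = 1 := fun y hy hM f => by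
    by_contra y1
    obtain ⟨j, h1, h2⟩ := H5.exists_pow_not_mem_pow_mem (p := 2) (K := ⊥) (x := y)
      (by simpa using y1) (k := m + 1) (by simpa using f)
    rcases h.inv (pow_mem hy (2 ^ j)) (pow_mem hM _) (by rw [← pow_two]; exact mem_bot.1 h2) with g | g
    · exact h1 (mem_bot.2 g)
    · exact ht (g ▸ pow_mem hM _)
  have e' : x ^ 2 ^ (m + 1) = 1 := by rw [pow_succ, pow_mul, e, one_pow]
  rcases T.idx T.t (T.PA T.tP) T.tK T.t_ne T.tt x (T.cN T.tK T.t_ne T.tt hu) S.t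
    (T.cN T.tK T.t_ne T.tt h.cm) hu h.cm with f | f | f
  · exact Or.inl (key x hx f e')
  · exact (ht f).elim
  · have := key _ (mul_mem hx S.tK) f (by
      rw [(Commute.symm xt).mul_pow, e', one_mul, pow_succ', pow_mul, pow_two, S.tt, one_pow])
    right
    rw [eq_inv_of_mul_eq_one_left this, inv_eq_of_mul_eq_one_left S.tt]

/-- the case in which `t` is the central involution of the 2-radical -/
theorem same (e : S.t = T.τ) {p k : G} (hp : p ∈ T.P) (hk : k ∈ T.K) (hx : p * k ∈ S.K) :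
    qq (T.π p) = 0 := by
  have dN : ∀ γ, Ux γ → ∃ d ∈ T.A, d ∈ S.N ∧ Act T.P T.π d γ := fun γ hγ => by
    obtain ⟨d, h1, h2, h3⟩ := T.surj γ hγ
    exact ⟨d, h1, S.cN S.tK S.t_ne S.tt (e ▸ h2), h3⟩
  have F0 : T.lk.img (S.K ⊓ T.P) inf_le_right = ⊥ := sing (by
    rintro γ hγ _ ⟨f, hf, rfl⟩
    obtain ⟨d, -, h2, h3⟩ := dN γ hγ
    exact ⟨_, ⟨S.NK d h2 f hf.1, (h3 f hf.2).1⟩, (h3 f hf.2).2⟩) (by
    rintro _ ⟨f, hf, rfl⟩ q
    rcases h.inv hf.1 (T.PM hf.2) ((T.lk.sq_iff hf.2).2 q) with g | g <;> rw [g]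
    exacts [T.lk.one, e ▸ T.lk.τ0])
  rcases fix_U (a := T.π p) (fun γ hγ => by
    obtain ⟨d, h1, h2, h3⟩ := dN γ hγ
    have m : d * p * d⁻¹ * p⁻¹ ∈ S.K := by
      have := mul_mem (S.NK d h2 _ hx) (inv_mem hx)
      rwa [show d * (p * k) * d⁻¹ * (p * k)⁻¹ = d * p * (k * d⁻¹) * k⁻¹ * p⁻¹ by group,
        ← T.AK _ (inv_mem h1) k hk, ← mul_assoc, mul_inv_cancel_right] at this
    have m2 : T.π (d * p * d⁻¹ * p⁻¹) ∈ T.lk.img (S.K ⊓ T.P) inf_le_right :=
      ⟨_, ⟨m, T.P.mul_mem (h3 p hp).1 (T.P.inv_mem hp)⟩, rfl⟩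
    rw [F0, AddSubgroup.mem_bot, T.lk.add _ (h3 p hp).1 _ (inv_mem hp), T.lk.inv hp, (h3 p hp).2] at m2
    exact add_eq_zero.1 m2) with f | f <;> rw [f]
  exacts [qq_zero, ta_tb.qq]

theorem inn {a k : G} (ha : a ∈ T.P) (hk : k ∈ T.K) (ht : S.t = a * k) {x0 : G} (h0 : x0 ∈ S.K)
    (hu : x0 * T.t = T.t * x0) {m : ℕ} (e : x0 ^ 2 ^ m = 1) : x0 = 1 ∨ x0 = S.t := by
  have : Fact (Nat.Prime 2) := ⟨Nat.prime_two⟩
  by_contra n0
  have cL : ∀ {y : G}, y ∈ centralizer {S.t} ⊓ centralizer {T.t} ↔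
      y * S.t = S.t * y ∧ y * T.t = T.t * y := fun {y} => by
    rw [mem_inf, mem_centralizer_singleton_iff, mem_centralizer_singleton_iff]
  have Nt : ∀ y ∈ T.P ⊓ centralizer {a}, y * S.t = S.t * y := fun y hy => by
    rw [ht]
    exact Commute.mul_right (mem_centralizer_singleton_iff.1 hy.2) (T.AK y (T.PA hy.1) k hk)
  obtain ⟨R, R2, NR, RL, l, hl, lR⟩ := syl (L := centralizer {S.t} ⊓ centralizer {T.t})
    (N0 := T.P ⊓ centralizer {a}) (fun y hy => cL.2 ⟨Nt y hy, T.MZ (T.PM hy.1) T.tZ⟩)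
    (T.lk.two.to_le inf_le_left) (cL.2 ⟨(S.AK _ (S.PA S.tP) x0 h0).symm, hu⟩) e
  have LN : ∀ y ∈ centralizer {S.t} ⊓ centralizer {T.t}, y ∈ S.N := fun y hy =>
    S.cN S.tK S.t_ne S.tt (cL.1 hy).1
  obtain ⟨x, hx, x1, x2, xc⟩ := H5.exists_step_of_le R2 (zpowers S.t) (N := R ⊓ S.K) inf_le_left
    (fun y hy => mem_normalizer_iff.2 fun z => ⟨fun hz => ⟨R.mul_mem (R.mul_mem hy hz.1) (R.inv_mem hy),
      S.NK y (LN y (RL hy)) z hz.2⟩, fun hz => by
        have h1 := mul_mem (mul_mem (inv_mem hy) hz.1) hy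
        have h2 := S.NK _ (inv_mem (LN y (RL hy))) _ hz.2
        exact ⟨by simpa [mul_assoc] using h1, by simpa [mul_assoc] using h2⟩⟩)
    (fun hle => n0 (by
      rcases (mem_zp S.tt).1 (hle ⟨lR, S.NK l (LN l hl) x0 h0⟩) with f | f
      · exact Or.inl (conj_eq_one_iff.1 f)
      · right
        rw [mul_inv_eq_iff_eq_mul, ← (cL.1 hl).1] at f
        exact mul_left_cancel f))
  have xt : x * S.t = S.t * x := (cL.1 (RL hx.1)).1
  have xu : x * T.t = T.t * x := (cL.1 (RL hx.1)).2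
  have yx : ∀ y ∈ T.P ⊓ centralizer {a}, x * y = y * x ∨ x * y = S.t * (y * x) := fun y hy => by
    rcases (mem_zp S.tt).1 (xc y (NR hy)) with f | f
    · exact Or.inl (commutatorElement_eq_one_iff_mul_comm.1 f)
    · right; rw [← f, commutatorElement_def]; group
  have i1 : ∀ y ∈ T.P ⊓ centralizer {a}, ∀ z ∈ T.P ⊓ centralizer {a},
      x * y = y * x ∨ x * z = z * x ∨ x * (y * z) = y * z * x := fun y hy z hz => by
    rcases yx y hy with f | f
    · exact Or.inl f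
    rcases yx z hz with g | g
    · exact Or.inr (Or.inl g)
    right; right
    calc x * (y * z) = S.t * y * (x * z) := by rw [← mul_assoc, f]; group
      _ = S.t * (y * S.t) * (z * x) := by rw [g]; group
      _ = _ := by rw [Nt y hy, ← mul_assoc S.t, S.tt]; group
  have xσ : x * T.τ = T.τ * x := by
    obtain ⟨y, hy, ya, yy⟩ := T.exists_sq ha
    have m : y ∈ T.P ⊓ centralizer {a} := ⟨hy, mem_centralizer_singleton_iff.2 ya⟩
    rw [← yy]
    rcases i1 y m y m with f | f | f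
    exacts [Commute.mul_right f f, Commute.mul_right f f, f]
  have xN := T.cN T.tK T.t_ne T.tt xu
  have xn : x * T.n = T.n * x := by rw [h.n2, mul_one, one_mul]
  obtain ⟨γ, aγ⟩ := T.act x xN xn xσ
  rw [pow_two, mem_zp S.tt] at x2
  obtain rfl : γ = 1 := T.small aγ (T.act_sq aγ (by
      rcases x2 with f | f <;> rw [f]
      · exact Act.one
      · rw [ht]; simpa using (T.lk.act ha).mul (T.actK hk))) (N0 := T.P ⊓ centralizer {a})
    (N1 := (T.P ⊓ centralizer {a}) ⊓ centralizer {x}) inf_le_left inf_le_left (T.idx_cent ha)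
    (fun y hy z hz => (i1 y hy z hz).imp (fun f => ⟨hy, mem_centralizer_singleton_iff.2 f.symm⟩)
      (Or.imp (fun f => ⟨hz, mem_centralizer_singleton_iff.2 f.symm⟩)
        fun f => ⟨mul_mem hy hz, mem_centralizer_singleton_iff.2 f.symm⟩))
    fun y hy => (mem_centralizer_singleton_iff.1 hy.2).symm
  obtain ⟨p, hp, c, hc, rfl⟩ := T.ker x xN xn xσ aγ
  have xx : p * c * (p * c) = S.t := x2.resolve_left fun f =>
    x1 ((mem_zp S.tt).2 (h.inv hx.2 (mul_mem (T.PM hp) (mem_sup_right hc)) f))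
  rw [Commute.mul_mul_mul_comm (T.AK p (T.PA hp) c hc).symm] at xx
  have q1 : qq (T.π p) ≠ 0 := fun f => h.tK (by
    rw [← xx, (T.lk.sq_iff hp).2 f, one_mul]; exact mul_mem hc hc)
  by_cases e : S.t = T.τ
  · exact q1 (h.same e hp hc hx.2)
  have all : ∀ y ∈ T.P, y ∈ T.P ⊓ centralizer {a} := fun y hy => ⟨hy, by
    have c1 : y * S.t = S.t * y := by
      rw [← xx, T.lk.sqr p hp]
      exact Commute.mul_right (zp_comm (T.lk.cent hy) _) (T.AK y (T.PA hy) _ (mul_mem hc hc))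
    have c2 : a = S.t * k⁻¹ := by rw [ht, mul_inv_cancel_right]
    refine mem_centralizer_singleton_iff.2 ?_
    rw [c2]
    exact Commute.mul_right c1 (T.AK y (T.PA hy) _ (inv_mem hk))⟩
  rcases mem_one (x := tb) (a := T.π p) (fun b hb => by
    obtain ⟨y, hy, rfl⟩ := T.onto b ((be_comm _ _).trans hb)
    refine (T.lk.commute_iff hy hp).1 ?_
    have cy := T.AK y (T.PA hy) c hc
    have c3 : p * y = y * p ∨ p * y = S.t * (y * p) := by
      refine (yx y (all y hy)).imp (fun f => ?_) fun f => ?_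
      · rw [mul_assoc, ← cy, ← mul_assoc, ← mul_assoc] at f; exact mul_right_cancel f
      · rw [mul_assoc, ← cy, ← mul_assoc, ← mul_assoc y, ← mul_assoc] at f; exact mul_right_cancel f
    rcases c3 with f | f
    · exact f.symm
    rw [T.lk.comm p hp y hy, zp_comm (T.lk.cent (mul_mem hy hp)), mul_left_inj] at f
    rcases zp_cases T.τ (be (T.π p) (T.π y)) with g | g <;> rw [g] at f
    exacts [(S.t_ne f.symm).elim, (e f.symm).elim]) with f | f
  · exact q1 (f ▸ qq_zero)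
  · exact q1 (f ▸ ta_tb.qq)

theorem syl2 {x : G} (hx : x ∈ S.K) (hu : x * T.t = T.t * x) {m : ℕ} (e : x ^ 2 ^ m = 1) :
    x = 1 ∨ x = S.t := by
  by_cases ht : S.t ∈ T.M
  · obtain ⟨d, hd, p, hp, k, hk, f, -⟩ := T.cls _ ht (S.tt ▸ one_mem _)
    refine (h.cj (inv_mem hd)).inn (a := d⁻¹ * p * d) (k := d⁻¹ * k * d) (T.cj_P.2 ?_) (T.cj_K.2 ?_) ?_ hx
      (by rwa [T.cj_t_eq (mem_sup_left (inv_mem hd))]) e
    · simpa [mul_assoc] using hp
    · simpa [mul_assoc] using hk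
    · rw [show d⁻¹ * p * d * (d⁻¹ * k * d) = d⁻¹ * (p * k) * d by group, ← f]; group
  · exact h.out ht hx hu e

end Pr

end KTwo

/-- `<t>` is a Sylow 2-subgroup of `K` -/
theorem Sk.two (S : Sk G) (hn : S.n = 1) {g : G} (hM : g * S.t * g⁻¹ ∈ S.M) (hK : g * S.t * g⁻¹ ∉ S.K)
    {k : G} (hk : k ∈ S.K) {m : ℕ} (e : k ^ 2 ^ m = 1) : k = 1 ∨ k = S.t := by
  have uu : g * S.t * g⁻¹ * (g * S.t * g⁻¹) = 1 := (S.cj g).tt
  obtain ⟨d, hd, p, hp, c, hc, f, cl⟩ := S.cls _ hM (uu ▸ one_mem _)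
  have pc := S.AK p (S.PA hp) c hc
  have tt : (S.cj (d * g)).t = p * c := by rw [← f, Sk.cj_t]; group
  have h : KTwo.Pr S (S.cj (d * g)) :=
    { n1 := hn
      n2 := by rw [Sk.cj_n, hn, mul_one, mul_inv_cancel]
      ti := fun k h1 h2 h3 => by
        by_contra k1
        exact hK (S.NK g ((S.N.mul_mem_cancel_left (S.AN hd)).1 (S.ti' h1 h2 k1 h3)) _ S.tK)
      cm := by
        rw [tt]; exact (S.MZ (mul_mem (S.PM hp) (mem_sup_right hc)) S.tZ).symm }
  have cc : c ^ 2 ^ 1 = 1 := by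
    have := (S.cj (d * g)).tt
    rwa [tt, Commute.mul_mul_mul_comm pc.symm, (S.lk.sq_iff hp).2 (qq_cls cl), one_mul, ← pow_two] at this
  have uP : p * c ∈ S.P := by
    rcases h.syl2 hc (by rw [tt, ← mul_assoc, ← pc, mul_assoc]) cc with g | g <;> rw [g]
    exacts [mul_mem hp (one_mem _), mul_mem hp S.tP]
  exact h.syl2 hk (by rw [tt]; exact (S.AK _ (S.PA uP) k hk).symm) e

end H18.BS
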