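import Cfsg.Agent.Lib.BStd.Sk

set_option autoImplicit false

namespace H18.BS

open Cfsg H16 H95 H48.BR Subgroup H75.WC

variable {G : Type*} [Group G] [Finite G]

theorem Pull.eq_one {N F : Subgroup G} (odd : Odd (Nat.card F)) {z : N} (hz : (z : G) ∈ F) {m : ℕ}
    (h : z ^ 2 ^ m = 1) : z = 1 :=
  orderOf_eq_one_iff.1 (Nat.eq_one_of_dvd_coprimes ((Nat.coprime_two_right.2 odd).pow_right m)
    (orderOf_coe z ▸ orderOf_dvd_natCard F hz) (orderOf_dvd_of_pow_eq_one h))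

/-- two lifts of 2-power order through a central kernel of odd order are equal -/
theorem lift_eq {X : Type*} [Group X] {N : Subgroup G} (f : N →* X) {C F : Subgroup G} (odd : Odd (Nat.card F))
    (ker : ∀ a : N, f a = 1 → (a : G) ∈ C → (a : G) ∈ F) (cen : ∀ a ∈ C, ∀ z ∈ F, a * z = z * a) {x y : N}
    (hx : (x : G) ∈ C) (hy : (y : G) ∈ C) (e : f x = f y) (x4 : x ^ 4 = 1) (y4 : y ^ 4 = 1) : x = y := by
  have hz := ker (y⁻¹ * x) (by rw [map_mul, map_inv, e, inv_mul_cancel]) (C.mul_mem (C.inv_mem hy) hx)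
  have c : Commute y (y⁻¹ * x) := Subtype.ext (cen y hy _ hz)
  have h4 : (y⁻¹ * x) ^ 2 ^ 2 = 1 := by
    have := c.mul_pow 4
    rwa [mul_inv_cancel_left, x4, y4, one_mul, eq_comm] at this
  exact (inv_mul_eq_one.1 (Pull.eq_one odd hz h4)).symm

/-- lifting an element of order dividing `2 ^ m` -/
theorem lift_one {X : Type*} [Group X] {N : Subgroup G} (f : N →* X) {C F : Subgroup G} (odd : Odd (Nat.card F))
    (ker : ∀ a : N, f a = 1 → (a : G) ∈ C → (a : G) ∈ F) (cen : ∀ a ∈ C, ∀ z ∈ F, a * z = z * a) {x : N}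
    (hx : (x : G) ∈ C) {m : ℕ} (e : f x ^ 2 ^ m = 1) : ∃ y : N, (y : G) ∈ C ∧ f y = f x ∧ y ^ 2 ^ m = 1 := by
  obtain ⟨j, h1, h2⟩ := Nat.chineseRemainder ((Nat.coprime_two_right.2 odd).pow_right m) 0 1
  have hz := ker (x ^ 2 ^ m) (by rw [map_pow, e]) (C.pow_mem hx _)
  refine ⟨x ^ j, C.pow_mem hx j, by rw [map_pow, pow_eq_pow_of_modEq h2 e, pow_one], Subtype.ext ?_⟩
  rw [← pow_mul, mul_comm, pow_mul]
  exact (pow_eq_pow_of_modEq h1 (congrArg Subtype.val (pow_card_eq_one' (x := (⟨_, hz⟩ : F))))).trans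
    (pow_zero _)

/-- lifting a 2-subgroup of exponent four -/
theorem lift_sub {X : Type*} [Group X] {N : Subgroup G} (f : N →* X) {C F : Subgroup G} (odd : Odd (Nat.card F))
    (ker : ∀ a : N, f a = 1 → (a : G) ∈ C → (a : G) ∈ F) (cen : ∀ a ∈ C, ∀ z ∈ F, a * z = z * a)
    {P' : Subgroup X} (h4 : ∀ x ∈ P', x ^ 4 = 1) :
    ∃ P : Subgroup G, P ≤ N ∧ ∀ x : N, (x : G) ∈ P ↔ (x : G) ∈ C ∧ f x ∈ P' ∧ x ^ 4 = 1 := by
  have := Fact.mk Nat.prime_two
  let D : Subgroup N := C.subgroupOf N ⊓ P'.comap f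
  have hp : IsPGroup 2 (f.comp D.subtype).range := by
    rintro ⟨_, x, rfl⟩
    exact ⟨2, Subtype.ext (h4 _ x.2.2)⟩
  have : Finite (f.comp D.subtype).range := Finite.of_surjective _ (f.comp D.subtype).rangeRestrict_surjective
  have := hp.isNilpotent
  have : Group.IsNilpotent D := Subgroup.isNilpotent_of_ker_le_center (f.comp D.subtype).rangeRestrict
    fun z hz => mem_center_iff.2 fun a => Subtype.ext (Subtype.ext
      (cen _ a.2.1 _ (ker z (congrArg Subtype.val hz) z.2.1)))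
  obtain ⟨R⟩ : Nonempty (Sylow 2 D) := inferInstance
  have := R.unique_of_normal inferInstance
  have k : ∀ x : D, x ^ 4 = 1 → x ∈ R := fun x hx => by
    obtain ⟨k, -, e⟩ := (Nat.dvd_prime_pow Nat.prime_two).1 (orderOf_dvd_of_pow_eq_one (n := 2 ^ 2) hx)
    obtain ⟨Q, hQ⟩ := (IsPGroup.of_card ((Nat.card_zpowers x).trans e)).exists_le_sylow
    exact Subsingleton.elim Q R ▸ hQ (mem_zpowers x)
  refine ⟨((R : Subgroup D).map D.subtype).map N.subtype, map_subtype_le _, fun x =>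
    (mem_map_iff_mem N.subtype_injective).trans ⟨?_, fun ⟨h1, h2, h3⟩ =>
      ⟨⟨x, h1, h2⟩, k _ (Subtype.ext h3), rfl⟩⟩⟩
  rintro ⟨x, hx, rfl⟩
  obtain ⟨m, hm⟩ := R.2 ⟨x, hx⟩
  refine ⟨x.2.1, x.2.2, Pull.eq_one odd (ker _ (by rw [map_pow]; exact h4 _ x.2.2) (C.pow_mem x.2.1 4))
    (m := m) ?_⟩
  rw [← pow_mul, mul_comm, pow_mul, show D.subtype x ^ 2 ^ m = 1 from
    congrArg (fun y : R => ((y : D) : N)) hm, one_pow]

/-- pulling the structure back along a quotient by a central subgroup of `A` of odd order -/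
theorem Sk.pull {X : Type*} [Group X] (S : Sk X) {A K N F : Subgroup G} (f : N →* X) (odd : Odd (Nat.card F))
    (ker : ∀ a : N, f a = 1 ↔ (a : G) ∈ F) (FA : F ≤ A) (FK : F ≤ K) (AN : A ≤ N) (KN : K ≤ N)
    (AK : ∀ a ∈ A, ∀ k ∈ K, a * k = k * a) (NA : ∀ d ∈ N, ∀ a ∈ A, d * a * d⁻¹ ∈ A)
    (NK : ∀ d ∈ N, ∀ k ∈ K, d * k * d⁻¹ ∈ K) (ti : ∀ k ∈ K, k ≠ 1 → k * k = 1 → ∀ g, g * k * g⁻¹ ∈ K → g ∈ N)
    (eA : S.A = (A.subgroupOf N).map f) (eK : S.K = (K.subgroupOf N).map f) (eN : S.N = f.range) {n t : N}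
    (nA : (n : G) ∈ A) (nK : (n : G) ∈ K) (nn : n * n = 1) (en : S.n = f n)
    (tA : (t : G) ∈ A) (tK : (t : G) ∈ K) (tt : t * t = 1) (et : S.t = f t) :
    ∃ T : Sk G, T.A = A ∧ T.K = K ∧ T.N = N ∧ T.n = n ∧ T.t = t := by
  classical
  have cen : ∀ a ∈ A, ∀ z ∈ F, a * z = z * a := fun a ha z hz => AK a ha z (FK hz)
  have ker' : ∀ a : N, f a = 1 → (a : G) ∈ A → (a : G) ∈ F := fun a h _ => (ker a).1 h
  have mm : ∀ {B : Subgroup G}, F ≤ B → ∀ x : N, f x ∈ (B.subgroupOf N).map f ↔ (x : G) ∈ B :=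
    fun {B} h x => ⟨fun ⟨y, hy, e⟩ => (B.mul_mem_cancel_left (B.inv_mem hy)).1
      (h ((ker (y⁻¹ * x)).1 (by rw [map_mul, map_inv, e, inv_mul_cancel]))), fun h => ⟨x, h, rfl⟩⟩
  have mA : ∀ x : N, f x ∈ S.A ↔ (x : G) ∈ A := eA ▸ mm FA
  have mK : ∀ x : N, f x ∈ S.K ↔ (x : G) ∈ K := eK ▸ mm FK
  have lA : ∀ a ∈ S.A, ∃ x : N, (x : G) ∈ A ∧ f x = a := fun a ha => (eA ▸ ha :)
  have mN : ∀ x : N, f x ∈ S.N := fun x => eN ▸ ⟨x, rfl⟩
  have mM : ∀ x : N, f x ∈ S.A ⊔ S.K ↔ (x : G) ∈ A ⊔ K := fun x => by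
    rw [eA, eK, ← Subgroup.map_sup, ← subgroupOf_sup AN KN]
    exact mm (FA.trans le_sup_left) x
  have E : ∀ {x y : N}, (x : G) ∈ A → (y : G) ∈ A → x ^ 4 = 1 → y ^ 4 = 1 → (f x = f y ↔ (x : G) = y) :=
    fun hx hy x4 y4 => ⟨fun e => congrArg _ (lift_eq f odd ker' cen hx hy e x4 y4),
      fun e => congrArg f (Subtype.ext e)⟩
  have f4 : ∀ {x : N}, x * x = 1 → x ^ 4 = 1 := fun h => by
    rw [show 4 = 2 * 2 from rfl, pow_mul, pow_two _, pow_two, h, one_mul]
  have c4 : ∀ {x : N} (d : N), x ^ 4 = 1 → (d * x * d⁻¹) ^ 4 = 1 := fun d h => by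
    rw [conj_pow, h, mul_one, mul_inv_cancel]
  obtain ⟨P, PN, mP⟩ := lift_sub f odd ker' cen (P' := S.P) fun _ => S.lk.four
  have E' : ∀ {x y : N}, (x : G) ∈ P → (y : G) ∈ P → (f x = f y ↔ (x : G) = y) := fun hx hy =>
    E ((mP _).1 hx).1 ((mP _).1 hy).1 ((mP _).1 hx).2.2 ((mP _).1 hy).2.2
  have lP : ∀ p ∈ S.P, ∃ x : N, (x : G) ∈ P ∧ f x = p := fun p hp => by
    obtain ⟨x, hx, rfl⟩ := lA p (S.PA hp)
    obtain ⟨y, h1, h2, h3⟩ := lift_one f odd ker' cen hx (m := 2) (S.lk.four hp)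
    exact ⟨y, (mP y).2 ⟨h1, h2 ▸ hp, h3⟩, h2⟩
  obtain ⟨τ, τP, eτ⟩ := lP _ S.lk.mem
  obtain ⟨c, cA, ec⟩ := lA _ S.cA
  obtain ⟨τA, -, τ4⟩ := (mP τ).1 τP
  have nP : (n : G) ∈ P := (mP n).2 ⟨nA, en ▸ S.lk.nP, f4 nn⟩
  have tP : (t : G) ∈ P := (mP t).2 ⟨tA, et ▸ S.tP, f4 tt⟩
  obtain ⟨φ, hφ⟩ : ∃ φ : G → X, ∀ x : N, φ x = f x :=
    ⟨fun x => if h : x ∈ N then f ⟨x, h⟩ else 1, fun x => dif_pos x.2⟩
  have zP : ∀ a, ((zp τ a : N) : G) = zp (τ : G) a := map_zp N.subtype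
  have zP' : ∀ a, ((zp τ a : N) : G) ∈ P := fun a => by
    rcases zp_cases τ a with e | e <;> rw [e]
    exacts [P.one_mem, τP]
  have ac : ∀ (d : N) γ, Act P (fun x => S.π (φ x)) d γ ↔ Act S.P S.π (f d) γ := fun d γ =>
    ⟨fun h p hp => by
      obtain ⟨x, hx, rfl⟩ := lP p hp
      have := h x hx
      rw [← map_inv, ← map_mul, ← map_mul, ← hφ, ← hφ x]
      exact ⟨hφ (d * x * d⁻¹) ▸ ((mP (d * x * d⁻¹)).1 this.1).2.1, this.2⟩, fun h x hx => by
      lift x to N using PN hx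
      obtain ⟨h1, h2, h3⟩ := (mP x).1 hx
      have := h _ h2
      rw [← map_inv, ← map_mul, ← map_mul, ← hφ, ← hφ x] at this
      exact ⟨(mP (d * x * d⁻¹)).2 ⟨NA d d.2 x h1, hφ (d * x * d⁻¹) ▸ this.1, c4 d h3⟩, this.2⟩⟩
  have fc : ∀ {d x : N}, (d : G) * x = x * d → f d * f x = f x * f d := fun h => by
    rw [← map_mul, ← map_mul]; exact congrArg f (Subtype.ext h)
  have fj : ∀ d : N, f (d * τ * d⁻¹) = f d * S.τ * (f d)⁻¹ := fun d => by
    rw [map_mul, map_mul, map_inv, eτ]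
  refine ⟨
    { n := n, t := t, τ := τ, β := c * τ * c⁻¹, c := c, A := A, K := K, N := N, P := P
      π := fun x => S.π (φ x)
      lk :=
        { ne := fun e => S.lk.ne (by rw [← eτ, show τ = 1 from Subtype.ext e, map_one])
          sq := (E' (x := τ * τ) (y := 1) (P.mul_mem τP τP) P.one_mem).1 (by
            rw [map_mul, eτ, S.lk.sq, map_one])
          nn := congrArg Subtype.val nn
          mem := τP
          nP := nP
          add := fun x hx y hy => by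
            lift x to N using PN hx
            lift y to N using PN hy
            rw [← coe_mul, hφ, hφ, hφ, map_mul]
            exact S.lk.add _ ((mP x).1 hx).2.1 _ ((mP y).1 hy).2.1
          ker := fun x hx => by
            lift x to N using PN hx
            rw [hφ, S.lk.ker _ ((mP x).1 hx).2.1, ← eτ, en, ← map_mul, ← map_one f, E' hx P.one_mem,
              E' hx τP, E' hx nP, E' hx (P.mul_mem nP τP)]
            rfl
          comm := fun x hx y hy => by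
            lift x to N using PN hx
            lift y to N using PN hy
            rw [← zP, hφ, hφ]
            refine (E' (x := x * y) (y := y * x * _) (P.mul_mem hx hy)
              (P.mul_mem (P.mul_mem hy hx) (zP' _))).1 ?_
            rw [map_mul, map_mul, map_mul, map_zp, eτ]
            exact S.lk.comm _ ((mP x).1 hx).2.1 _ ((mP y).1 hy).2.1
          sqr := fun x hx => by
            lift x to N using PN hx
            rw [← zP, hφ]
            refine (E' (x := x * x) (P.mul_mem hx hx) (zP' _)).1 ?_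
            rw [map_mul, map_zp, eτ]
            exact S.lk.sqr _ ((mP x).1 hx).2.1 }
      tP := tP
      πt := by rw [hφ, ← et, S.πt]
      perp := fun x hx => by
        lift x to N using PN hx
        rw [hφ]
        exact S.perp _ ((mP x).1 hx).2.1
      onto := fun a ha => by
        obtain ⟨p, hp, rfl⟩ := S.onto a ha
        obtain ⟨x, hx, rfl⟩ := lP p hp
        exact ⟨x, hx, by rw [hφ]⟩
      PA := fun x hx => ((mP ⟨x, PN hx⟩).1 hx).1
      AN := AN, KN := KN, nK := nK, tK := tK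
      τK := fun h => S.τK (eτ ▸ (mK τ).2 h)
      AK := AK, NA := NA, NK := NK
      ZA := fun z h1 h2 h3 => by
        lift z to N using AN h1
        have z2 : z * z = 1 := Subtype.ext h3
        have := S.ZA _ ((mA z).2 h1) ((mK z).2 h2) (by rw [← map_mul, z2, map_one])
        rwa [en, et, ← map_mul, ← map_one f, E h1 A.one_mem (f4 z2) (one_pow _), E h1 nA (f4 z2) (f4 nn),
          E h1 tA (f4 z2) (f4 tt), E h1 (A.mul_mem nA tA) (f4 z2)
            ((mP (n * t)).1 (P.mul_mem nP tP)).2.2] at this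
      ti := ti
      idx := fun z h1 h2 h3 h4 x hx y hy e1 e2 => by
        lift z to N using AN h1
        lift x to N using hx
        lift y to N using hy
        have z2 : z * z = 1 := Subtype.ext h4
        have := S.idx _ ((mA z).2 h1) ((mK z).2 h2)
          (fun e => h3 ((E h1 A.one_mem (f4 z2) (one_pow _)).1 (e.trans (map_one f).symm)))
          (by rw [← map_mul, z2, map_one]) _ (mN x) _ (mN y) (fc e1) (fc e2)
        rwa [← map_mul, mM, mM, mM] at this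
      act := fun d hd e1 e2 => by
        lift d to N using hd
        exact (S.act _ (mN d) (en ▸ fc e1) (eτ ▸ fc e2)).imp fun γ => (ac d γ).2
      ker := fun d hd e1 e2 h => by
        lift d to N using hd
        obtain ⟨p, hp, k, hk, e⟩ := S.ker _ (mN d) (en ▸ fc e1) (eτ ▸ fc e2) ((ac d 1).1 h)
        obtain ⟨p, hp', rfl⟩ := lP p hp
        exact ⟨p, hp', _, (mK (p⁻¹ * d)).1 (by rwa [map_mul, map_inv, e, inv_mul_cancel_left]), by simp⟩
      surj := fun γ hγ => by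
        obtain ⟨d, hd, e, h⟩ := S.surj γ hγ
        obtain ⟨d, hd', rfl⟩ := lA d hd
        exact ⟨d, hd', mul_inv_eq_iff_eq_mul.1 ((E (x := d * τ * d⁻¹) (NA d d.2 τ τA) τA (c4 d τ4) τ4).1
          (by rw [fj, e, mul_inv_cancel_right, eτ])), (ac d γ).2 h⟩
      odd := by
        rw [← Set.ncard_image_of_injOn (f := φ)]
        · convert S.odd using 2
          ext x
          constructor
          · rintro ⟨_, ⟨a, ha, rfl⟩, rfl⟩
            lift a to N using AN ha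
            exact ⟨_, (mA a).2 ha, (fj a).symm.trans (hφ _).symm⟩
          · rintro ⟨a, ha, rfl⟩
            obtain ⟨a, ha', rfl⟩ := lA a ha
            exact ⟨_, ⟨a, ha', rfl⟩, (hφ (a * τ * a⁻¹)).trans (fj a)⟩
        · rintro _ ⟨a, ha, rfl⟩ _ ⟨b, hb, rfl⟩ e
          lift a to N using AN ha
          lift b to N using AN hb
          exact (E (x := a * τ * a⁻¹) (y := b * τ * b⁻¹) (NA a a.2 τ τA) (NA b b.2 τ τA) (c4 a τ4)
            (c4 b τ4)).1 ((hφ _).symm.trans (e.trans (hφ (b * τ * b⁻¹))))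
      sN := fun d hd => by
        lift d to N using hd
        obtain ⟨a, ha, e⟩ := S.sN _ (mN d)
        obtain ⟨a, ha', rfl⟩ := lA a ha
        exact ⟨a, ha', (E (x := a * τ * a⁻¹) (y := d * τ * d⁻¹) (NA a a.2 τ τA) (NA d d.2 τ τA) (c4 a τ4)
          (c4 d τ4)).1 (by rw [fj, fj, e])⟩
      cls := fun u hu h => by
        lift u to N using sup_le AN KN hu
        obtain ⟨d, hd, p, hp, k, hk, e, h1⟩ := S.cls _ ((mM u).2 hu) (by rw [← map_mul]; exact (mK _).2 h)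
        obtain ⟨d, hd', rfl⟩ := lA d hd
        obtain ⟨p, hp', rfl⟩ := lP p hp
        refine ⟨d, hd', p, hp', _, (mK (p⁻¹ * (d * u * d⁻¹))).1 (by
          rwa [map_mul, map_inv, map_mul, map_mul, map_inv, e, inv_mul_cancel_left]), by simp, ?_⟩
        rwa [hφ]
      cA := cA
      cτ := rfl
      βP := (mP (c * τ * c⁻¹)).2 ⟨NA c c.2 τ τA, by rw [fj, ec, S.cτ]; exact S.βP, c4 c τ4⟩
      πβ := (congrArg S.π ((hφ (c * τ * c⁻¹)).trans (by rw [fj, ec, S.cτ]))).trans S.πβ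
      inE := fun x hx i hi e => by
        lift x to N using PN hx
        obtain ⟨h1, h2, h3⟩ := (mP x).1 hx
        refine (mP (c⁻¹ * x * c)).2 ⟨A.mul_mem (A.mul_mem (A.inv_mem cA) h1) cA, ?_, by simpa using c4 c⁻¹ h3⟩
        rw [map_mul, map_mul, map_inv, ec]
        exact S.inE _ h2 i hi (hφ x ▸ e) }, rfl, rfl, rfl, rfl, rfl⟩

end H18.BS
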