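import Cfsg.Agent.Lib.BStd.Bo
import Cfsg.Agent.Lib.BStd.Pull
import Cfsg.Agent.Lib.BStd.Y
import Cfsg.Agent.Lib.BStd.Top

set_option autoImplicit false

namespace H18.BS

open Cfsg H16 H95 H48.BR Subgroup H75.WC

namespace Lift

variable {X : Type*} [Group X]

theorem four {τ : X} {P : Subgroup X} {π : X → V} (L : Lf τ P π) {x : X} (hx : x ∈ P) : x ^ 4 = 1 := by
  rw [show 4 = 2 * 2 from rfl, pow_mul, pow_two x, L.sqr _ hx, pow_two, ← zp_add L.sq, CharTwo.add_self_eq_zero,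
    zp_zero]

variable [Finite X] (S : St2 X) {C : Subgroup X} [n : C.Normal] (ht : S.t ∈ C)
include ht

theorem QC : S.Q ≤ C := by
  obtain ⟨q, -, e⟩ := S.conjQ S.tQ (S.πt ▸ tb_ne)
  have hτ : S.τ ∈ C := (C.mul_mem_cancel_left ht).1 (e ▸ n.conj_mem _ ht q)
  rcases irr (K := S.lfQ.img (S.Q ⊓ C) inf_le_left) (by
    rintro γ _ ⟨x, hx, rfl⟩
    obtain ⟨y, -, a⟩ := S.full γ
    exact ⟨_, ⟨(a x hx.1).1, n.conj_mem _ hx.2 y⟩, (a x hx.1).2⟩) with k | k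
  · exact absurd (AddSubgroup.mem_bot.1 (k ▸ (S.lfQ.mem_img.2 ⟨_, ⟨S.tQ, ht⟩, S.πt⟩))) tb_ne
  · intro x hx
    obtain ⟨y, hy, e⟩ := S.lfQ.mem_img.1 (k ▸ AddSubgroup.mem_top (S.π x))
    rcases (S.lfQ.eq_iff hy.1 hx).1 e with rfl | rfl
    · exact hy.2
    · exact mul_mem hy.2 hτ

theorem invC : ∃ c ∈ C, c * c = 1 ∧ c * S.τ = S.τ * c ∧ ∃ γ, γ ≠ 1 ∧ Act S.Q S.π c γ := by
  have p2 : Pt (some 2) := ⟨by simp, by decide⟩
  obtain ⟨r, r1, r2, r3⟩ := exists_r p2 (by decide)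
  have r4 : r • xx (some 2) ≠ xx (some 2) := by rw [r3]; simpa using tb_bb.ne
  have r5 : r ≠ 1 := fun e => r4 (by rw [e, one_smul])
  have h := Y.pr S
  have BC : (S.cj S.c).Q ≤ C := fun y hy => by
    simpa [mul_assoc] using n.conj_mem _ (QC S ht (S.cj_Q.1 hy)) S.c
  generalize S.cj S.c = B at h BC
  obtain ⟨y, y1, y2, y3⟩ := h.imgQ' r1 r2
  by_cases e : y * y = 1
  · exact ⟨y, BC y1, e, y2, r, r5, y3⟩
  obtain ⟨x, hx, ex⟩ := S.onto _ (be_xx_tb (some 2))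
  have xB := B.PQ (h.inE x hx _ p2 ex)
  refine ⟨y * x, BC (mul_mem y1 xB), (B.lfQ.sq_iff (mul_mem y1 xB)).2 ?_, Commute.mul_left y2 (S.Pτ hx), r, r5,
    mul_one r ▸ y3.mul (S.lfQ.act (S.PQ hx))⟩
  have k1 := (z2 _).resolve_left (mt (B.lfQ.sq_iff y1).2 e)
  have k2 := (B.lfQ.sq_iff xB).1 ((S.lf.sq_iff hx).2 (ex ▸ (ta_xx p2).1.qq))
  have k3 := (z2 _).resolve_left (mt (B.lfQ.commute_iff y1 xB).2 fun k => r4 (by
    rw [← ex, ← (y3 x (S.PQ hx)).2, k, mul_inv_cancel_right]))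
  rw [B.lfQ.add _ y1 _ xB, qq_add, k1, k2, k3]
  decide

theorem fullC (γ : C2) : ∃ y ∈ C, y * S.τ = S.τ * y ∧ Act S.Q S.π y γ := by
  have s : Function.Surjective S.ψ := fun γ => by
    obtain ⟨y, h1, h2⟩ := S.full γ
    exact ⟨⟨y, h1, γ, h2⟩, S.uniqQ _ _ _ (S.ψ_act _) h2⟩
  have := isSimple_Co2
  rcases ((n.subgroupOf S.Y).map S.ψ s).eq_bot_or_eq_top with k | k
  · obtain ⟨c, c1, -, c2, δ, d1, d2⟩ := invC S ht
    have : S.ψ ⟨c, c2, δ, d2⟩ = 1 := mem_bot.1 (k ▸ mem_map_of_mem _ c1)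
    exact absurd (S.uniqQ _ _ _ d2 (this ▸ S.ψ_act ⟨c, c2, δ, d2⟩)) d1
  · obtain ⟨y, hy, rfl⟩ := mem_map.1 (k ▸ mem_top γ)
    exact ⟨y, hy, y.2.1, S.ψ_act y⟩

end Lift

variable {G : Type*} [Group G] [Finite G]

/-- lifting the structure of the quotient of the normaliser of `O` -/
theorem St2.exists_Bo {X : Type*} [Group X] [Finite X] (S : St2 X) {O : Subgroup G}
    (f : normalizer (O : Set G) →* X) (hf : Function.Surjective f) (ker : ∀ a, f a = 1 ↔ (a : G) ∈ O)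
    (odd : Odd (Nat.card O)) (ne : O ≠ ⊥) {t : normalizer (O : Set G)} (ht : f t = S.t) (tt : t * t = 1)
    (tO : ∀ o ∈ O, t * o = o * t)
    (lb : ∀ g : G, ∀ h : g * t * g⁻¹ ∈ normalizer (O : Set G), f ⟨_, h⟩ ∈ S.M → g ∈ normalizer (O : Set G)) :
    Nonempty (Bo G) := by
  classical
  let C := centralizer (O : Set G)
  have k1 : ∀ a : normalizer (O : Set G), f a = 1 → (a : G) ∈ C → (a : G) ∈ O := fun a h _ => (ker a).1 h
  have k2 : ∀ a ∈ C, ∀ z ∈ O, a * z = z * a := fun a h z hz => (h z hz).symm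
  have nC : (C.subgroupOf (normalizer (O : Set G))).Normal := ⟨fun a ha g z hz => by
    have : _ * (a : G) = a * _ := ha _ ((mem_normalizer_iff.1 (inv_mem g.2) z).1 hz)
    change z * (g * a * (g : G)⁻¹) = g * a * (g : G)⁻¹ * z
    calc _ = g * ((g : G)⁻¹ * z * (g : G)⁻¹⁻¹ * a) * (g : G)⁻¹ := by group
      _ = _ := by rw [this]; simp [mul_assoc]⟩
  have n' := nC.map f hf
  have tC : (t : G) ∈ C := fun o ho => (tO o ho).symm
  have tC' : S.t ∈ (C.subgroupOf (normalizer (O : Set G))).map f := ⟨t, tC, ht⟩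
  have up : ∀ x ∈ (C.subgroupOf (normalizer (O : Set G))).map f, ∀ m : ℕ, x ^ 2 ^ m = 1 →
      ∃ y : normalizer (O : Set G), (y : G) ∈ C ∧ f y = x ∧ y ^ 2 ^ m = 1 := by
    rintro _ ⟨x, hx, rfl⟩ m e
    exact lift_one f odd k1 k2 hx e
  have s4 : ∀ {y : normalizer (O : Set G)}, y * y = 1 → y ^ 4 = 1 := fun {y} e => by
    rw [show 4 = 2 * 2 from rfl, pow_mul, pow_two y, e, one_pow]
  obtain ⟨τ, τC, fτ, ττ⟩ := up _ (Lift.QC S tC' S.lfQ.mem) 1 (by rw [pow_one, pow_two, S.lfQ.sq])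
  rw [pow_one, pow_two] at ττ
  obtain ⟨Q, QH, mQ⟩ := lift_sub f odd k1 k2 (P' := S.Q) fun x hx => Lift.four S.lfQ hx
  have τQ : (τ : G) ∈ Q := (mQ τ).2 ⟨τC, fτ ▸ S.lfQ.mem, s4 ττ⟩
  have inj : ∀ x y : normalizer (O : Set G), (x : G) ∈ Q → (y : G) ∈ Q → f x = f y → (x : G) = y :=
    fun x y hx hy e => congrArg _ (lift_eq f odd k1 k2 ((mQ x).1 hx).1 ((mQ y).1 hy).1 e ((mQ x).1 hx).2.2
      ((mQ y).1 hy).2.2)
  have sur : ∀ x ∈ S.Q, ∃ y : normalizer (O : Set G), (y : G) ∈ Q ∧ f y = x := fun x hx => by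
    obtain ⟨y, h1, h2, h3⟩ := up _ (Lift.QC S tC' hx) 2 (Lift.four S.lfQ hx)
    exact ⟨y, (mQ y).2 ⟨h1, h2 ▸ hx, h3⟩, h2⟩
  obtain ⟨π, hπ⟩ : ∃ π : G → V, ∀ x : normalizer (O : Set G), π x = S.π (f x) :=
    ⟨fun x => if h : x ∈ normalizer (O : Set G) then S.π (f ⟨x, h⟩) else 0, fun x => dif_pos x.2⟩
  have zQ : ∀ a, zp (τ : G) a ∈ Q := fun a => by
    rcases zp_cases (τ : G) a with e | e <;> rw [e]
    exacts [one_mem _, τQ]
  have cz : ∀ a, zp (τ : G) a = (zp τ a : normalizer (O : Set G)) := fun a =>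
    (map_zp (normalizer (O : Set G)).subtype a).symm
  have act : ∀ (y : normalizer (O : Set G)) γ, Act Q π y γ ↔ Act S.Q S.π (f y) γ := fun y γ => by
    refine ⟨fun h x hx => ?_, fun h x hx => ?_⟩
    · obtain ⟨x, hx', rfl⟩ := sur x hx
      clear hx
      rename' hx' => hx
      have h1 := ((mQ (y * x * y⁻¹)).1 (h x hx).1).2.1
      have h2 := (hπ (y * x * y⁻¹)).symm.trans (h x hx).2
      rw [map_mul, map_mul, map_inv] at h1 h2
      exact ⟨h1, hπ x ▸ h2⟩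
    · lift x to normalizer (O : Set G) using QH hx
      obtain ⟨h1, h2, h3⟩ := (mQ x).1 hx
      have := h _ h2
      rw [← map_inv, ← map_mul, ← map_mul] at this
      exact ⟨(mQ (y * x * y⁻¹)).2 ⟨nC.conj_mem x h1 y, this.1, by rw [conj_pow, h3]; simp⟩,
        (hπ (y * x * y⁻¹)).trans (hπ x ▸ this.2)⟩
  have com : ∀ y : normalizer (O : Set G), (y : G) * τ = τ * y ↔ f y * S.τ = S.τ * f y := fun y => by
    refine ⟨fun h => ?_, fun h => mul_inv_eq_iff_eq_mul.1 (congrArg Subtype.val (lift_eq f odd k1 k2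
      (x := y * τ * y⁻¹) (nC.conj_mem τ τC y) τC ?_ (by rw [conj_pow, s4 ττ]; simp) (s4 ττ)))⟩
    · rw [← fτ, ← map_mul, ← map_mul]; exact congrArg f (Subtype.ext h)
    · rw [map_mul, map_mul, map_inv, fτ, h, mul_inv_cancel_right]
  have mM : ∀ x : normalizer (O : Set G), f x ∈ S.M →
      (x : G) ∈ (S.M.comap f).map (normalizer (O : Set G)).subtype := fun x h => ⟨x, h, rfl⟩
  have ct : ∀ x : G, x * t = t * x → ∃ y : normalizer (O : Set G), (y : G) = x ∧ f y * S.t = S.t * f y :=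
    fun x h => by
      have e : x * t * x⁻¹ = t := by rw [h, mul_inv_cancel_right]
      have m := lb x (by rw [e]; exact t.2) (by simp only [e, Subtype.coe_eta, ht]; exact S.PM S.tP)
      refine ⟨⟨x, m⟩, rfl, ?_⟩
      rw [← ht, ← map_mul, ← map_mul]; exact congrArg f (Subtype.ext h)
  refine ⟨⟨t, τ, O, Q, (S.M.comap f).map (normalizer (O : Set G)).subtype, π,
    ⟨fun e => S.lfQ.ne (by rw [← fτ, show τ = 1 from Subtype.ext e, map_one]), congrArg Subtype.val ττ, τQ,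
      fun x hx y hy => ?_, fun x hx => ?_, fun x hx y hy => ?_, fun x hx => ?_⟩, fun a => ?_,
    (mQ t).2 ⟨tC, ht ▸ S.tQ, s4 tt⟩, by rw [hπ, ht, S.πt], odd, ne, fun x hx => ?_, fun y hy h => ?_,
    fun y hy h a => ?_, fun γ => ?_, ?_, fun x hx h => ?_, fun x y hx hy => ?_, fun g hg => ?_⟩⟩
  · lift x to normalizer (O : Set G) using QH hx
    lift y to normalizer (O : Set G) using QH hy
    rw [← coe_mul, hπ, hπ, hπ, map_mul, S.lfQ.add _ ((mQ x).1 hx).2.1 _ ((mQ y).1 hy).2.1]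
  · lift x to normalizer (O : Set G) using QH hx
    rw [hπ, S.lfQ.ker _ ((mQ x).1 hx).2.1]
    refine ⟨Or.imp (fun e => inj x 1 hx (one_mem _) (e.trans (map_one f).symm))
      fun e => inj x τ hx τQ (e.trans fτ.symm), Or.imp (fun e => ?_) fun e => ?_⟩
    · rw [show x = 1 from Subtype.ext e, map_one]
    · rw [show x = τ from Subtype.ext e, fτ]
  · lift x to normalizer (O : Set G) using QH hx
    lift y to normalizer (O : Set G) using QH hy
    have := zQ (be (π x) (π y))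
    rw [cz] at this ⊢
    refine inj (x * y) (y * x * _) (mul_mem hx hy) (mul_mem (mul_mem hy hx) this) ?_
    rw [map_mul, map_mul, map_mul, map_zp, fτ, hπ, hπ]
    exact S.lfQ.comm _ ((mQ x).1 hx).2.1 _ ((mQ y).1 hy).2.1
  · lift x to normalizer (O : Set G) using QH hx
    have := zQ (qq (π x))
    rw [cz] at this ⊢
    refine inj (x * x) _ (mul_mem hx hx) this ?_
    rw [map_mul, map_zp, fτ, hπ]
    exact S.lfQ.sqr _ ((mQ x).1 hx).2.1
  · obtain ⟨x, hx, rfl⟩ := S.ontoQ a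
    obtain ⟨y, hy, rfl⟩ := sur x hx
    exact ⟨y, hy, hπ y⟩
  · lift x to normalizer (O : Set G) using QH hx
    exact k2 _ ((mQ x).1 hx).1
  · lift y to normalizer (O : Set G) using hy
    exact (S.top S.full ((com y).1 h)).2.imp fun γ => (act y γ).2
  · lift y to normalizer (O : Set G) using hy
    obtain ⟨q, hq, e⟩ := sur _ (S.kerQ ((com y).1 h) ((act y 1).1 a))
    exact ⟨q, hq, _, (ker (q⁻¹ * y)).1 (by rw [map_mul, map_inv, e, inv_mul_cancel]), by simp⟩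
  · obtain ⟨_, ⟨y, hy, rfl⟩, h1, h2⟩ := Lift.fullC S tC' γ
    exact ⟨y, k2 _ hy, (com y).2 h1, (act y γ).2 h2⟩
  · obtain ⟨c, c1, c2, c3, γ, g1, g2⟩ := Lift.invC S tC'
    obtain ⟨y, h1, rfl, h3⟩ := up c c1 1 (by rw [pow_one, pow_two, c2])
    rw [pow_one, pow_two] at h3
    exact ⟨y, k2 _ h1, congrArg Subtype.val h3, (com y).2 c3, γ, g1, (act y γ).2 g2⟩
  · lift x to normalizer (O : Set G) using QH hx
    exact mM x (S.PM (S.QP _ ((mQ x).1 hx).2.1 (hπ x ▸ h)))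
  · obtain ⟨x, rfl, h1⟩ := ct x hx
    obtain ⟨y, rfl, h2⟩ := ct y hy
    exact (S.idx _ _ h1 h2).imp (mM x) (Or.imp (mM y) fun e => mM (x * y) (by rwa [map_mul]))
  · obtain ⟨a, ha, e⟩ := hg
    exact lb g (by rw [← e]; exact a.2) (by simp only [← e]; exact ha)

end H18.BS
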