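import Cfsg.Agent.Lib.BStd.Thk

/-!
# The structure `Sk` from the Monster
-/

set_option autoImplicit false
set_option linter.unusedSectionVars false

namespace H18.BS

open Subgroup Cfsg H16 H95 H95.Gr H7.SM H48.BR H75.WC Md

namespace ModK

theorem v4_of_comm {k : GG} (h : ∀ a ∈ K0, Commute k a) : V4 t0 x1 k := by
  obtain ⟨-, -, ψ, -, k1, k2⟩ := exists_psi2 ix_t0 inD_x1
  exact (k1 ⟨k, mem_C2.2 ⟨h _ t0K, h _ x1K⟩⟩).1 ((k2 _).2 (mem_center_iff.2 fun a => Subtype.ext (h _ a.2).symm))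

theorem comm_v4 {v k : GG} (hv : V4 t0 x1 v) (hk : k ∈ K0) : Commute k v :=
  hv.comm (mem_C2.1 hk).1 (mem_C2.1 hk).2

theorem v4_inv {g v : GG} (h : ∀ k ∈ K0, cj g k ∈ K0) (hv : V4 t0 x1 v) : V4 t0 x1 (cj g⁻¹ v) :=
  v4_of_comm fun a ha => by simpa only [cj_cj] using ((comm_v4 hv (h a ha)).map (cj g⁻¹)).symm

theorem v4_cj {g v : GG} (h : ∀ k ∈ K0, cj g k ∈ K0) (hv : V4 t0 x1 v) : V4 t0 x1 (cj g v) := by
  have n : g ∈ normalizer (K0 : Set GG) := mem_normalizer_of_finite h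
  simpa using v4_inv (g := g⁻¹) (fun k hk => (mem_normalizer_iff.1 (inv_mem n) k).1 hk) hv

theorem not_v4 {a : GG} (h : IZ a) : ¬ V4 t0 x1 a := by
  rintro (rfl | rfl | rfl | rfl)
  exacts [h.ne_one rfl, not_iz ix_t0 h, not_iz inD_x1.1 h, not_iz inD_x1.2 h]

theorem v4_t : V4 t0 x1 t0 := Or.inr (Or.inl rfl)

theorem v4_x : V4 t0 x1 x1 := Or.inr (Or.inr (Or.inl rfl))

theorem inQ_v4 {v : GG} (hv : V4 t0 x1 v) : InQ zA v := by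
  rcases hv with rfl | rfl | rfl | rfl
  exacts [inQ_z.2 (one_mem _), W_z.2.1, W_z.2.2, W_z.2.1.mul W_z.2.2]

theorem gen {u : GG} (hu : V4 t0 x1 u) (n : u ≠ 1) :
    ∃ w, V4 t0 x1 w ∧ w ≠ 1 ∧ w ≠ u ∧ ∀ v, V4 t0 x1 v → V4 u w v := by
  rcases hu with rfl | rfl | rfl | rfl
  · exact (n rfl).elim
  · exact ⟨x1, v4_x, inD_x1.1.ne_one, (inD_ne ix_t0 inD_x1).symm, fun _ h => h⟩
  · refine ⟨t0, v4_t, ix_t0.ne_one, inD_ne ix_t0 inD_x1, fun v h => ?_⟩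
    unfold V4 at h ⊢
    rw [← c01.eq]; tauto
  · refine ⟨x1, v4_x, inD_x1.1.ne_one, fun e => ix_t0.ne_one (right_eq_mul.1 e), fun v h => ?_⟩
    unfold V4 at h ⊢
    rw [mul_assoc, inD_x1.1.sq, mul_one]; tauto

/-- two automorphisms of the four-group with a common fixed involution -/
theorem two {g h u : GG} (hg : ∀ k ∈ K0, cj g k ∈ K0) (hh : ∀ k ∈ K0, cj h k ∈ K0) (hu : V4 t0 x1 u) (n : u ≠ 1)
    (e : cj g u = u) (f : cj h u = u) : g ∈ K0 ∨ h ∈ K0 ∨ g * h ∈ K0 := by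
  obtain ⟨w, hw, w1, w2, k⟩ := gen hu n
  have m : ∀ {g}, cj g u = u → cj g w = w → g ∈ K0 := fun e f =>
    mem_C2.2 ⟨(k _ v4_t).comm (mul_inv_eq_iff_eq_mul.1 e) (mul_inv_eq_iff_eq_mul.1 f),
      (k _ v4_x).comm (mul_inv_eq_iff_eq_mul.1 e) (mul_inv_eq_iff_eq_mul.1 f)⟩
  have c : ∀ {g}, (∀ k ∈ K0, cj g k ∈ K0) → cj g u = u → g ∈ K0 ∨ cj g w = u * w := fun {g} hg e => by
    rcases k _ (v4_cj hg hw) with r | r | r | r
    exacts [(w1 ((cj g).map_eq_one_iff.1 r)).elim, (w2 ((cj g).injective (r.trans e.symm))).elim, Or.inl (m e r),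
      Or.inr r]
  refine (c hg e).imp_right fun r => (c hh f).imp_right fun s => m (by rw [cj_mul, f, e]) ?_
  rw [cj_mul, s, map_mul, e, r, ← mul_assoc, hu.sq ix_t0.sq inD_x1.1.sq c01, one_mul]

variable {G : Type*} [Group G] {ϑ : GG → G} {n t : G} {A K N : Subgroup G} (H : Thk ϑ n t A K N)
include H

theorem one : ϑ 1 = 1 := by simpa using H.mul 1 (one_mem _) 1 (one_mem _)

theorem inv {a : GG} (h : a ∈ K0) : ϑ a⁻¹ = (ϑ a)⁻¹ :=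
  eq_inv_of_mul_eq_one_left (by rw [← H.mul _ (inv_mem h) _ h, inv_mul_cancel, one H])

theorem of_eq {a b : GG} (ha : a ∈ K0) (hb : b ∈ K0) (e : ϑ b = ϑ a) : b = a ∨ b = a * t0 := by
  have := H.ker _ (mul_mem (inv_mem ha) hb) (by rw [H.mul _ (inv_mem ha) _ hb, inv H ha, e, inv_mul_cancel])
  rwa [inv_mul_eq_one, inv_mul_eq_iff_eq_mul, eq_comm] at this

theorem rl {k : GG} (h : k ∈ K0) : Rl ϑ (ϑ k) k := ⟨h.1, fun a ha =>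
  ⟨mul_mem (mul_mem h ha) (inv_mem h), by
    rw [cj_apply, H.mul _ (mul_mem h ha) _ (inv_mem h), H.mul _ h _ ha, inv H h]⟩⟩

theorem mA {k : GG} (h : k ∈ K0) : ϑ k ∈ A := (H.im _).2 ⟨k, h, rfl⟩

theorem vK {v : GG} (h : V4 t0 x1 v) : ϑ v ∈ K := (H.hK _).2 ⟨H.AN (mA H (v4_mem h)), fun a ha => by
  obtain ⟨k, hk, rfl⟩ := (H.im a).1 ha
  rw [← H.mul _ hk _ (v4_mem h), ← H.mul _ (v4_mem h) _ hk, (comm_v4 h hk).eq]⟩

theorem Kv {k : GG} (hk : k ∈ K0) (h : ϑ k ∈ K) : V4 t0 x1 k := by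
  obtain ⟨pK, -, ψ, -, k1, k2⟩ := exists_psi2 ix_t0 inD_x1
  refine v4_of_comm fun a ha => mul_inv_eq_iff_eq_mul.1 (congrArg Subtype.val
    (hom_uniq pK (MulAut.conj (⟨k, hk⟩ : K0)).toMonoidHom (MonoidHom.id _) (fun b => (k2 _).1 ((k1 _).2 ?_)) ⟨a, ha⟩))
  have r := (rl H hk).2 b b.2
  rcases of_eq H b.2 r.1 (by rw [r.2, ← ((H.hK _).1 h).2 _ (mA H b.2), mul_inv_cancel_right]) with e | e
  · exact Or.inl (inv_mul_eq_one.2 e.symm)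
  · exact Or.inr (Or.inl (inv_mul_eq_iff_eq_mul.2 e))

theorem NA {d a : G} (hd : d ∈ N) (ha : a ∈ A) : d * a * d⁻¹ ∈ A := by
  obtain ⟨k, hk, rfl⟩ := (H.im a).1 ha
  obtain ⟨g, hg⟩ := H.ex1 d hd
  exact (hg k hk).2 ▸ mA H (hg k hk).1

theorem exR {c : G} (hc : c ∈ N) (e : c * n = n * c) : ∃ g, Rl ϑ c g := by
  obtain ⟨g, hg⟩ := H.ex1 c hc
  refine ⟨g, mem_HH.2 ((of_eq H t0K (hg _ t0K).1 ?_).resolve_right fun f => (ix_t0.conj g).ne_one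
    (f.trans t0_sq)), hg⟩
  rw [(hg _ t0K).2, H.n0, e, mul_inv_cancel_right]

theorem rl_z {c : G} {g : GG} (h : Rl ϑ c g) (hc : c * ϑ zA = ϑ zA * c) : g * zA = zA * g :=
  mul_inv_eq_iff_eq_mul.1 ((of_eq H zK (h.2 _ zK).1 (by rw [(h.2 _ zK).2, hc, mul_inv_cancel_right])).resolve_right
    fun e => not_iz (W_z.2.1.comm ▸ ix_t0.mul_of_inQ W_z.2.1) (e ▸ iz_z.conj g))

theorem cK {c : G} {g : GG} (hc : c ∈ N) (h : ∀ k ∈ K0, cj g k ∈ K0 ∧ ϑ (cj g k) = c * ϑ k * c⁻¹) (m : g ∈ K0) :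
    (ϑ g)⁻¹ * c ∈ K := (H.hK _).2 ⟨mul_mem (inv_mem (H.AN (mA H m))) hc, fun a ha => by
  obtain ⟨k, hk, rfl⟩ := (H.im a).1 ha
  have e := (h k hk).2.symm.trans ((rl H m).2 k hk).2
  calc _ = (ϑ g)⁻¹ * (ϑ g * ϑ k * (ϑ g)⁻¹) * c := by group
    _ = _ := by rw [← e]; group⟩

/-- the image of the extraspecial group -/
def pim : Subgroup G where
  carrier := {y | ∃ q ∈ QQ ℝ, q ∈ K0 ∧ ϑ q = y}
  one_mem' := ⟨1, one_mem _, one_mem _, one H⟩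
  mul_mem' := by
    rintro _ _ ⟨a, h1, h2, rfl⟩ ⟨b, h3, h4, rfl⟩
    exact ⟨_, mul_mem h1 h3, mul_mem h2 h4, H.mul _ h2 _ h4⟩
  inv_mem' := by
    rintro _ ⟨a, h1, h2, rfl⟩
    exact ⟨_, inv_mem h1, inv_mem h2, inv H h2⟩

theorem exists_π : ∃ π : G → V, ∀ {v q}, q ∈ K0 → cls v q → π (ϑ q) = BS.mk v := by
  classical
  refine ⟨fun y => if h : ∃ p : Lam × GG, p.2 ∈ K0 ∧ cls p.1 p.2 ∧ ϑ p.2 = y then BS.mk h.choose.1 else 0,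
    fun {v q} h1 h2 => ?_⟩
  have e : ∃ p : Lam × GG, p.2 ∈ K0 ∧ cls p.1 p.2 ∧ ϑ p.2 = ϑ q := ⟨(v, q), h1, h2, rfl⟩
  refine (dif_pos e).trans ?_
  exact (Cu.mk ((cu_iff h2 e.choose_spec.2.1).2 (Or.inl (of_eq H h1 e.choose_spec.1 e.choose_spec.2.2)))).symm

theorem ex_P {y : G} (h : y ∈ pim H) : ∃ q v, q ∈ K0 ∧ cls v q ∧ ϑ q = y := by
  obtain ⟨q, h1, h2, e⟩ := h
  obtain ⟨v, hv⟩ := mon.ex_cls q h1
  exact ⟨q, v, h2, hv, e⟩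

variable {π : G → V} (hπ : ∀ {v q}, q ∈ K0 → cls v q → π (ϑ q) = BS.mk v)
include hπ

theorem π0 {q : GG} (h : q ∈ K0) (h' : q ∈ QQ ℝ) : π (ϑ q) = 0 ↔ (q = 1 ∨ q = t0) ∨ q = zA ∨ q = zA * t0 := by
  obtain ⟨v, hv⟩ := mon.ex_cls q h'
  rw [hπ h hv, ← map_zero BS.mk, eq_comm, mk_eq_iff pp_zero ((mem_K0 hv).1 h).1, cu_iff mon.cls_zero hv, one_mul,
    one_mul]

theorem lk : Lk (ϑ zA) n (pim H) π := by
  have zp' : ∀ a, ϑ (zp zA a) = zp (ϑ zA) a := fun a => by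
    rcases z2 a with rfl | rfl
    exacts [one H, rfl]
  have zm : ∀ a, zp zA a ∈ K0 := fun a => (zp_cases zA a).elim (fun e => e.symm ▸ one_mem _) fun e => e.symm ▸ zK
  have zt : ϑ (zA * t0) = n * ϑ zA := by rw [← H.n0, ← H.mul _ t0K _ zK, (comm_v4 v4_t zK).eq]
  refine ⟨fun e => not_v4 iz_z (Kv H zK (e ▸ one_mem _)), by rw [← H.mul _ zK _ zK, iz_z.sq, one H],
    by rw [← H.n0, ← H.mul _ t0K _ t0K, t0_sq, one H], ⟨_, es_QQ.mem, zK, rfl⟩, ⟨_, t0_mem, t0K, H.n0⟩,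
    fun x hx y hy => ?_, fun x hx => ?_, fun x hx y hy => ?_, fun x hx => ?_⟩ <;>
    obtain ⟨a, v, ha, hv, rfl⟩ := ex_P H hx
  · obtain ⟨b, w, hb, hw, rfl⟩ := ex_P H hy
    rw [← H.mul _ ha _ hb, hπ (mul_mem ha hb) (mon.add hv hw), hπ ha hv, hπ hb hw, map_add]
  · constructor
    · intro h
      rcases (π0 H hπ ha (mon.mem hv)).1 h with (rfl | rfl) | rfl | rfl
      exacts [Or.inl (Or.inl (one H)), Or.inr (Or.inl H.n0), Or.inl (Or.inr rfl), Or.inr (Or.inr zt)]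
    · rintro ((e | e) | e | e) <;> rw [e]
      · rw [← one H, π0 H hπ (one_mem _) (one_mem _)]; tauto
      · rw [π0 H hπ zK es_QQ.mem]; tauto
      · rw [← H.n0, π0 H hπ t0K t0_mem]; tauto
      · rw [← zt, π0 H hπ (mul_mem zK t0K) (mul_mem es_QQ.mem t0_mem)]; tauto
  · obtain ⟨b, w, hb, hw, rfl⟩ := ex_P H hy
    rw [hπ ha hv, hπ hb hw, be_mk ((mem_K0 hv).1 ha).1 ((mem_K0 hw).1 hb).1, ← zp', ← H.mul _ ha _ hb,
      ← H.mul _ hb _ ha, ← H.mul _ (mul_mem hb ha) _ (zm _)]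
    congr 1
    rcases z2 (d8 v w) with e | e <;> rw [e]
    · exact ((mon.commute_iff hv hw).2 (d8_eq_zero.1 e)).trans (mul_one _).symm
    · exact (es_QQ.comm _ (mon.mem hv) _ (mon.mem hw)).resolve_left fun f =>
        d8_eq_one.1 e ((mon.commute_iff hv hw).1 f)
  · rw [hπ ha hv, ← zp', ← H.mul _ ha _ ha]
    congr 1
    have := (mon.sq_iff hv).trans (qq_mk_eq_zero ((mem_K0 hv).1 ha).1).symm
    rcases z2 (qq (BS.mk v)) with e | e <;> rw [e] at this ⊢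
    · exact this.2 rfl
    · exact (es_QQ.sq_mem (mon.mem hv)).resolve_left fun f => absurd (this.1 f) (by decide)

theorem act {c : G} {g : GG} (h : Rl ϑ c g) {z : g ∈ centralizer {zA}} {δ : C2}
    (e : (QuotientGroup.mk (δ : Co0) : Spor.Co1) = phi ⟨g, z⟩) : Act (pim H) π c δ := fun x hx => by
  obtain ⟨a, v, ha, hv, rfl⟩ := ex_P H hx
  have := mon.smul _ _ e hv
  rw [← (h.2 a ha).2]
  exact ⟨⟨_, mon.mem this, (h.2 a ha).1, rfl⟩, by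
    rw [hπ ha hv, smul_mk _ ((mem_K0 hv).1 ha).1]; exact hπ (h.2 a ha).1 this⟩

theorem onto (a : V) (h : be a tb = 0) : ∃ x ∈ pim H, π x = a := by
  obtain ⟨v, hv, rfl⟩ := mk_surj a
  obtain ⟨q, hq⟩ := mon.ex_elt v
  have m := (mem_K0 hq).2 ⟨hv, (be_mk hv pp_X).symm.trans h⟩
  exact ⟨_, ⟨q, mon.mem hq, m, rfl⟩, hπ m hq⟩

theorem uniq {d : G} {γ γ' : C2} (h : Act (pim H) π d γ) (h' : Act (pim H) π d γ') : γ = γ' :=
  (inv_mul_eq_one.1 (siegel (be_self tb) fun a ha _ => by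
    obtain ⟨x, hx, rfl⟩ := onto H hπ a ((be_comm _ _).trans ha)
    rw [mul_smul, ← (h' x hx).2, (h x hx).2, inv_smul_smul]))

end ModK

open ModK

theorem Thk.exists_Sk {G : Type*} [Group G] {ϑ : GG → G} {n t : G} {A K N : Subgroup G} (H : Thk ϑ n t A K N) :
    ∃ S : Sk G, S.A = A ∧ S.K = K ∧ S.N = N ∧ S.n = n ∧ S.t = t := by
  obtain ⟨π, hπ⟩ := exists_π H
  obtain ⟨zb, hb⟩ := mon.ex_elt (e8 none)
  have wb : W zb := ⟨iz_of_cls hb (sqNorm_e8 _), inQ_cls hb (sqNorm_e8 _) cls_t0 norm_U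
    (cg_iff.2 ⟨H16.vU, by rw [← U_add_UP]; abel⟩) norm_UP, inQ_cls hb (sqNorm_e8 _) cls_x1 norm_X (m' := pm none (some 1))
    (cg_iff.2 ⟨H16.vX, by rw [X_eq, ← pp_add_pm none (some 1)]; abel⟩) (norm_pm (by decide))⟩
  obtain ⟨g, hg, rfl⟩ := wb.ex
  have gi : ∀ {k}, k ∈ K0 → cj g⁻¹ k ∈ K0 ∧ ϑ (cj g⁻¹ k) = (ϑ g)⁻¹ * ϑ k * ϑ g := fun hk => by
    simpa [inv H hg] using (rl H (inv_mem hg)).2 _ hk
  have iq : ∀ {k}, InQ (cj g zA) k ↔ cj g⁻¹ k ∈ QQ ℝ := fun {k} => by rw [← inQ_z, ← inQ_cj (g := g) (w := zA), cj_cj']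
  have AK : ∀ a ∈ A, ∀ k ∈ K, a * k = k * a := fun a ha k hk => ((H.hK k).1 hk).2 a ha
  have mM : ∀ {c g}, c ∈ N → (∀ k ∈ K0, cj g k ∈ K0 ∧ ϑ (cj g k) = c * ϑ k * c⁻¹) → g ∈ K0 → c ∈ A ⊔ K :=
    fun hc h m => by simpa using mul_mem_sup (mA H m) (cK H hc h m)
  have sg : ∀ x, (∃ a ∈ A, a * ϑ zA * a⁻¹ = x) ↔ ∃ w, W w ∧ ϑ w = x := fun x => by
    constructor
    · rintro ⟨a, ha, rfl⟩
      obtain ⟨k, hk, rfl⟩ := (H.im a).1 ha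
      refine ⟨_, ⟨iz_z.conj k, mem_HH.1 hk.1 ▸ W_z.2.1.conj k, ?_⟩, ((rl H hk).2 _ zK).2⟩
      exact (mul_inv_eq_iff_eq_mul.2 (mem_C2.1 hk).2 : cj k x1 = x1) ▸ W_z.2.2.conj k
    · rintro ⟨w, hw, rfl⟩
      obtain ⟨k, hk, rfl⟩ := hw.ex
      exact ⟨_, mA H hk, ((rl H hk).2 _ zK).2.symm⟩
  refine ⟨{
    n := n
    t := t
    τ := ϑ zA
    β := ϑ (cj g zA)
    c := ϑ g
    A := A
    K := K
    N := N
    P := pim H
    π := π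
    lk := lk H hπ
    tP := ⟨_, mon.mem cls_x1, x1K, H.x⟩
    πt := H.x ▸ hπ x1K cls_x1
    perp := fun x hx => ?_
    onto := onto H hπ
    PA := fun _ ⟨_, _, h, e⟩ => e ▸ mA H h
    AN := H.AN
    KN := fun k hk => ((H.hK k).1 hk).1
    nK := H.n0 ▸ vK H v4_t
    tK := H.x ▸ vK H v4_x
    τK := fun h => not_v4 iz_z (Kv H zK h)
    AK := AK
    NA := fun _ hd _ ha => NA H hd ha
    NK := fun d hd k hk => (H.hK _).2 ⟨mul_mem (mul_mem hd ((H.hK k).1 hk).1) (inv_mem hd), fun a ha => ?_⟩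
    ZA := fun z h1 h2 _ => ?_
    ti := H.ti
    idx := fun z h1 h2 h3 _ x hx y hy e1 e2 => ?_
    act := fun d h1 h2 h3 => ?_
    ker := fun d h1 h2 h3 h4 => ?_
    surj := fun γ h => ?_
    odd := ?_
    sN := fun d hd => ?_
    cls := fun u hu h => ?_
    cA := mA H hg
    cτ := ((rl H hg).2 _ zK).2.symm
    βP := ⟨_, mon.mem hb, wb.mem, rfl⟩
    πβ := hπ wb.mem hb
    inE := fun x hx i hi h => ?_ }, rfl, rfl, rfl, rfl, rfl⟩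
  · obtain ⟨a, v, ha, hv, rfl⟩ := ex_P H hx
    rw [hπ ha hv, tb, be_mk ((mem_K0 hv).1 ha).1 pp_X, ((mem_K0 hv).1 ha).2]
  · calc _ = d * (d⁻¹ * a * d⁻¹⁻¹ * k) * d⁻¹ := by group
      _ = _ := by rw [AK _ (NA H (inv_mem hd) ha) k hk]; group
  · obtain ⟨v, hv, rfl⟩ := (H.im z).1 h1
    rcases Kv H hv h2 with rfl | rfl | rfl | rfl
    exacts [Or.inl (one H), Or.inr (Or.inl H.n0), Or.inr (Or.inr (Or.inl H.x)),
      Or.inr (Or.inr (Or.inr (by rw [H.mul _ t0K _ x1K, H.n0, H.x])))]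
  · obtain ⟨v, hv, rfl⟩ := (H.im z).1 h1
    obtain ⟨u, hu, u1, k⟩ : ∃ u, V4 t0 x1 u ∧ u ≠ 1 ∧ ∀ c ∈ N, c * ϑ v = ϑ v * c →
        ∃ g, (∀ k ∈ K0, cj g k ∈ K0 ∧ ϑ (cj g k) = c * ϑ k * c⁻¹) ∧ cj g u = u := by
      by_cases e : n = 1
      · refine ⟨t0, v4_t, ix_t0.ne_one, fun c hc _ => ?_⟩
        obtain ⟨g, r⟩ := exR H hc (by simp [e])
        exact ⟨g, r.2, mem_HH.1 r.1⟩
      · refine ⟨v, Kv H hv h2, fun f => h3 (by rw [f, one H]), fun c hc f => ?_⟩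
        obtain ⟨g, r⟩ := H.ex1 c hc
        have s : ϑ (cj g v) = ϑ v := by rw [(r v hv).2, f, mul_inv_cancel_right]
        refine ⟨g, r, (of_eq H hv (r v hv).1 s).resolve_right fun f => e ?_⟩
        rwa [f, H.mul _ hv _ t0K, H.n0, mul_eq_left] at s
    obtain ⟨a, a1, a2⟩ := k x hx e1
    obtain ⟨b, b1, b2⟩ := k y hy e2
    refine (two (fun k hk => (a1 k hk).1) (fun k hk => (b1 k hk).1) hu u1 a2 b2).imp (mM hx a1)
      (Or.imp (mM hy b1) (mM (mul_mem hx hy) fun k hk => ?_))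
    rw [cj_mul, (a1 _ (b1 k hk).1).2, (b1 k hk).2]
    exact ⟨(a1 _ (b1 k hk).1).1, by group⟩
  · obtain ⟨k, hk⟩ := exR H h1 h2
    obtain ⟨δ, e⟩ := exists_lift hk.1 (rl_z H hk h3)
    exact ⟨δ, act H hπ hk e⟩
  · obtain ⟨k, hk⟩ := exR H h1 h2
    obtain ⟨δ, e⟩ := exists_lift hk.1 (rl_z H hk h3)
    obtain rfl := uniq H hπ h4 (act H hπ hk e)
    have q : k ∈ QQ ℝ := (mon.ker _).1 e.symm
    have m : k ∈ K0 := mem_C2.2 ⟨mem_cent_iff.1 hk.1, mul_inv_eq_iff_eq_mul.1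
      ((es_QQ.conj (mon.mem cls_x1) q).resolve_right fun f => not_v4 iz_z (by
        have := v4_mul v4_x (v4_cj (fun k h => (hk.2 k h).1) v4_x)
        rwa [cj_apply, f, ← mul_assoc, inD_x1.1.sq, one_mul] at this))⟩
    exact ⟨_, ⟨k, q, m, rfl⟩, _, cK H h1 hk.2 m, by group⟩
  · obtain ⟨k, h1, h2, e⟩ := exists_lift' γ
    have c1 := mon.smul _ _ e cls_x1
    have k1 : ∀ k ∈ HH, ∀ z : k ∈ centralizer {zA}, (QuotientGroup.mk (γ : Co0) : Spor.Co1) = phi ⟨k, z⟩ →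
        cj k x1 = x1 → ∃ d ∈ A, d * ϑ zA = ϑ zA * d ∧ Act (pim H) π d γ :=
      fun k hk z e f => by
        have m : k ∈ K0 := mem_C2.2 ⟨mem_cent_iff.1 hk, mul_inv_eq_iff_eq_mul.1 f⟩
        exact ⟨_, mA H m, by rw [← H.mul _ m _ zK, ← H.mul _ zK _ m, mem_cent_iff.1 z], act H hπ (rl H m) e⟩
    rcases (mon.eq_iff cls_x1 c1).1 ((show (γ : Co0) • H16.vX = H16.vX from h).symm ▸ Cg.refl _) with f | f
    · exact k1 k h1 _ e f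
    · obtain ⟨a, a1, a2⟩ := exists_be (x := 0) tb_ne tb_ne
      obtain ⟨v, hv, rfl⟩ := mk_surj a
      obtain ⟨q, hq⟩ := mon.ex_elt v
      have q1 : q ∈ HH := mem_cent_iff.2 ((mon.commute_iff hq cls_t0).2 hv)
      have q2 : cj q x1 = x1 * zA := es_QQ.conj_of_ne (mon.mem cls_x1) (mon.mem hq) fun r =>
        d8_eq_one.1 ((be_mk hv pp_X).symm.trans a2) ((mon.commute_iff hq cls_x1).1 r)
      have q3 : q ∈ centralizer {zA} := mem_cent_iff.2 (es_QQ.central _ (mon.mem hq))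
      have q4 : cj q zA = zA := mul_inv_eq_iff_eq_mul.2 (mem_cent_iff.1 q3)
      refine k1 (q * k) (mul_mem q1 h1) (mul_mem q3 (mem_cent_iff.2 h2)) (by
        rw [e]; exact ((map_mul phi ⟨q, q3⟩ ⟨k, _⟩).trans (by rw [(mon.ker _).2 (mon.mem hq), one_mul])).symm) ?_
      rw [cj_mul, show cj k x1 = _ from f, map_mul, q2, q4, mul_assoc, iz_z.sq, mul_one]
  · rw [show {x | ∃ a ∈ A, a * ϑ zA * a⁻¹ = x} = ϑ '' {w | W w} from Set.ext sg, Set.InjOn.ncard_image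
      fun a ha b hb e => (of_eq H hb.mem ha.mem e).resolve_right fun f =>
        not_iz (hb.2.1.comm ▸ ix_t0.mul_of_inQ hb.2.1) (f ▸ ha.1), card_W]
    decide
  · obtain ⟨k, hk⟩ := H.ex1 d hd
    have q : ∀ {v}, V4 t0 x1 v → InQ (cj k zA) v := fun hv => by
      simpa only [cj_cj'] using (inQ_v4 (v4_inv (fun a h => (hk a h).1) hv)).conj k
    exact (sg _).2 ⟨_, ⟨iz_z.conj k, q v4_t, q v4_x⟩, (hk _ zK).2⟩
  · obtain ⟨a, ha, k, hk, rfl⟩ := (mem_sup_comm AK).1 hu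
    obtain ⟨b, hb', rfl⟩ := (H.im a).1 ha
    obtain ⟨qb, qc, h1, h2, h3, h4, cl⟩ := Md.classes
    obtain ⟨d, hd, v, hv, e⟩ := cl b hb' (Kv H (mul_mem hb' hb') (by
      rwa [← Commute.mul_mul_mul_comm (AK _ ha k hk), ← H.mul _ hb' _ hb', mul_mem_cancel_right (mul_mem hk hk)] at h))
    have r : ∀ q ∈ K0, cj d b = q * v → ϑ d * (ϑ b * k) * (ϑ d)⁻¹ = ϑ q * (ϑ v * k) := fun q hq e => by
      rw [← mul_assoc, ← mul_assoc, mul_assoc _ k, ← AK _ (inv_mem (mA H hd)) k hk, ← mul_assoc,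
        ← ((rl H hd).2 b hb').2, e, H.mul _ hq _ (v4_mem hv)]
    refine ⟨_, mA H hd, ?_⟩
    rcases e with e | e | e | e
    · exact ⟨_, ⟨1, one_mem _, one_mem _, rfl⟩, _, mul_mem (vK H hv) hk, r 1 (one_mem _) (by rw [e, one_mul]),
        Or.inl ((π0 H hπ (one_mem _) (one_mem _)).2 (by tauto))⟩
    · exact ⟨_, ⟨_, es_QQ.mem, zK, rfl⟩, _, mul_mem (vK H hv) hk, r _ zK e,
        Or.inl ((π0 H hπ zK es_QQ.mem).2 (by tauto))⟩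
    · exact ⟨_, ⟨_, mon.mem h1, h3, rfl⟩, _, mul_mem (vK H hv) hk, r _ h3 e, Or.inr (Or.inl (hπ h3 h1))⟩
    · exact ⟨_, ⟨_, mon.mem h2, h4, rfl⟩, _, mul_mem (vK H hv) hk, r _ h4 e, Or.inr (Or.inr (hπ h4 h2))⟩
  · obtain ⟨a, v, ha, hv, rfl⟩ := ex_P H hx
    have k : ∀ {q}, cls (pp none i) q → InQ (cj g zA) q := fun hq =>
      inQ_cls hb (sqNorm_e8 _) hq (norm_pp hi.1.symm) (m' := pm none i)
        (cg_iff.2 ⟨pp none i, by rw [← pp_add_pm none i]; abel⟩) (norm_pm hi.1.symm)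
    refine ⟨_, iq.1 ?_, gi ha⟩
    rcases (mk_eq_iff ((mem_K0 hv).1 ha).1 (pp_pp _ _)).1 ((hπ ha hv).symm.trans h) with e | e
    · exact k (mon.congr hv e)
    · simpa [mul_assoc, t0_sq] using (k (mon.congr (mon.add hv cls_t0) e)).mul wb.2.1

end H18.BS
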