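import Cfsg.Agent.Lib.BStd.VU

/-!
# The structure `St` with only `U6(2)` known to be induced (helper18)
-/

set_option autoImplicit false

namespace H18.BS

open Cfsg H16 H95 H48.BR Subgroup H75.WC

variable {G : Type*} [Group G]

/-- the centraliser of `t` has the structure `2.²E6(2)` or `2.²E6(2).2` -/
structure Su (G : Type*) [Group G] where
  t : G
  τ : G
  β : G
  c : G
  M : Subgroup G
  P : Subgroup G
  π : G → V
  lf : Lf τ P π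
  tP : t ∈ P
  πt : π t = tb
  perp : ∀ x ∈ P, be (π x) tb = 0
  onto : ∀ a, be a tb = 0 → ∃ x ∈ P, π x = a
  PM : P ≤ M
  Mt : ∀ x ∈ M, x * t = t * x
  idx : ∀ x y, x * t = t * x → y * t = t * y → x ∈ M ∨ y ∈ M ∨ x * y ∈ M
  act : ∀ d, d * t = t * d → d * τ = τ * d → ∃ γ, Act P π d γ
  ker : ∀ d, d * t = t * d → d * τ = τ * d → Act P π d 1 → d ∈ P
  surj : ∀ γ : C2, Ux γ → ∃ d, d * t = t * d ∧ d * τ = τ * d ∧ Act P π d γ
  odd : Odd {x | Sg t τ x}.ncard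
  col : ∀ x, Sg t τ x → Sg t τ (x * τ) → x ∈ P
  sig : ∀ x ∈ P, (Sg t τ x ↔ x = τ ∨ Om (π x + tb))
  cls : ∀ u ∈ M, u * u = 1 → ∃ d, d * t = t * d ∧ d * u * d⁻¹ ∈ P ∧
    π (d * u * d⁻¹) ∈ ({0, tb, vb, vb + tb, vc, vc + tb} : Set V)
  ct : c * t = t * c
  cτ : c * τ * c⁻¹ = β
  βP : β ∈ P
  πβ : π β = bb
  inE : ∀ x ∈ P, ∀ i, Pt i → π x = xx i → c⁻¹ * x * c ∈ P
  img : ∀ y γ, c⁻¹ * y * c ∈ P → y * τ = τ * y → Act P π y γ → Eps γ
  img' : ∀ γ, Eps γ → γ • tb = tb → ∃ y, c⁻¹ * y * c ∈ P ∧ y * τ = τ * y ∧ Act P π y γ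

/-- the extraspecial group has been found -/
structure Su2 (G : Type*) [Group G] extends Su G where
  Q : Subgroup G
  lfQ : Lf τ Q π
  ontoQ : ∀ a, ∃ x ∈ Q, π x = a
  PQ : P ≤ Q
  QP : ∀ x ∈ Q, be (π x) tb = 0 → x ∈ P
  actQ : ∀ d γ, d * t = t * d → d * τ = τ * d → Act P π d γ → Act Q π d γ

/-- transport along an isomorphism -/
def Su.map {H : Type*} [Group H] (S : Su G) (e : G ≃* H) : Su H where
  t := e S.t
  τ := e S.τ
  β := e S.β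
  c := e S.c
  M := S.M.comap e.symm.toMonoidHom
  P := S.P.comap e.symm.toMonoidHom
  π x := S.π (e.symm x)
  lf := S.lf.map e
  tP := by simpa using S.tP
  πt := by simpa using S.πt
  perp _ hx := S.perp _ hx
  onto a h := by
    obtain ⟨x, hx, rfl⟩ := S.onto a h
    exact ⟨e x, by simpa using hx, by simp⟩
  PM _ hx := S.PM hx
  Mt _ hx := (comm_map e).2 (S.Mt _ hx)
  idx x y hx hy := by simpa using S.idx _ _ ((comm_map e).1 hx) ((comm_map e).1 hy)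
  act d h1 h2 := (S.act _ ((comm_map e).1 h1) ((comm_map e).1 h2)).imp fun _ => (Act.map e).2
  ker d h1 h2 h3 := S.ker _ ((comm_map e).1 h1) ((comm_map e).1 h2) ((Act.map e).1 h3)
  surj γ h := by
    obtain ⟨d, h1, h2, h3⟩ := S.surj γ h
    exact ⟨e d, (comm_map e).2 (by simpa using h1), (comm_map e).2 (by simpa using h2),
      (Act.map e).2 (by simpa using h3)⟩
  odd := by
    rw [show {x | Sg (e S.t) (e S.τ) x} = e '' {x | Sg S.t S.τ x} from Set.ext fun x =>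
      (Sg.map e).trans ⟨fun h => ⟨_, h, by simp⟩, fun ⟨y, h, f⟩ => by simpa [← f] using h⟩,
      Set.ncard_image_of_injective _ e.injective]
    exact S.odd
  col x h1 h2 := S.col _ ((Sg.map e).1 h1) (by simpa using (Sg.map e).1 h2)
  sig x hx := by rw [Sg.map, S.sig (e.symm x) hx, e.symm_apply_eq]
  cls u hu h := by
    obtain ⟨d, h1, h2, h3⟩ := S.cls _ hu (by simpa using congrArg e.symm h)
    exact ⟨e d, (comm_map e).2 (by simpa using h1), by simpa using h2, by simpa using h3⟩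
  ct := by rw [← map_mul, S.ct, map_mul]
  cτ := by simp [← S.cτ]
  βP := by simpa using S.βP
  πβ := by simpa using S.πβ
  inE x hx i hi h := by simpa using S.inE _ hx i hi h
  img y γ h1 h2 h3 := S.img _ γ (by simpa using h1) ((comm_map e).1 h2) ((Act.map e).1 h3)
  img' γ h h' := by
    obtain ⟨y, h1, h2, h3⟩ := S.img' γ h h'
    exact ⟨e y, by simpa using h1, (comm_map e).2 (by simpa using h2), (Act.map e).2 (by simpa using h3)⟩

/-- transport along an isomorphism -/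
def Su2.map {H : Type*} [Group H] (S : Su2 G) (e : G ≃* H) : Su2 H where
  toSu := S.toSu.map e
  Q := S.Q.comap e.symm.toMonoidHom
  lfQ := S.lfQ.map e
  ontoQ a := by
    obtain ⟨x, hx, rfl⟩ := S.ontoQ a
    exact ⟨e x, by simpa using hx, congrArg S.π (by simp)⟩
  PQ _ hx := S.PQ hx
  QP _ hx h := S.QP _ hx h
  actQ d γ h1 h2 h3 := (Act.map e).2 (S.actQ _ γ ((comm_map e).1 h1) ((comm_map e).1 h2) ((Act.map e).1 h3))

/-- the conjugate structure -/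
def Su.cj (S : Su G) (g : G) : Su G := S.map (MulAut.conj g)

/-- the conjugate structure -/
def Su2.cj (S : Su2 G) (g : G) : Su2 G := S.map (MulAut.conj g)

namespace Su

variable (S : Su G)

@[simp] theorem cj_t (g : G) : (S.cj g).t = g * S.t * g⁻¹ := rfl
@[simp] theorem cj_τ (g : G) : (S.cj g).τ = g * S.τ * g⁻¹ := rfl
@[simp] theorem cj_β (g : G) : (S.cj g).β = g * S.β * g⁻¹ := rfl
@[simp] theorem cj_c (g : G) : (S.cj g).c = g * S.c * g⁻¹ := rfl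
theorem cj_P {g x : G} : x ∈ (S.cj g).P ↔ g⁻¹ * x * g ∈ S.P := Iff.rfl
theorem cj_M {g x : G} : x ∈ (S.cj g).M ↔ g⁻¹ * x * g ∈ S.M := Iff.rfl
theorem cj_π (g x : G) : (S.cj g).π x = S.π (g⁻¹ * x * g) := rfl

theorem tt : S.t * S.t = 1 := (S.lf.sq_iff S.tP).2 (S.πt ▸ ta_tb.qq)

theorem t_ne : S.t ≠ 1 := fun e => tb_ne (by rw [← S.πt, e, S.lf.one])

theorem t_ne_τ : S.t ≠ S.τ := fun e => tb_ne (by rw [← S.πt, e, S.lf.τ0])

theorem Pt {x : G} (hx : x ∈ S.P) : x * S.t = S.t * x := S.Mt x (S.PM hx)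

theorem Pτ {x : G} (hx : x ∈ S.P) : x * S.τ = S.τ * x := S.lf.cent hx

theorem sg_β : Sg S.t S.τ S.β := ⟨_, S.ct, S.cτ⟩

theorem eq_tb {x : G} (hx : x ∈ S.P) : S.π x = tb ↔ x = S.t ∨ x = S.t * S.τ := by
  rw [← S.lf.eq_iff S.tP hx, S.πt, eq_comm]

/-- the two elements of a class are conjugate -/
theorem conj_τ {x : G} (hx : x ∈ S.P) (h0 : S.π x ≠ 0) (h1 : S.π x ≠ tb) : ∃ p ∈ S.P, p * x * p⁻¹ = x * S.τ := by
  obtain ⟨a, ha, e⟩ := exists_be h0 h1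
  obtain ⟨p, hp, rfl⟩ := S.onto a ha
  exact ⟨p, hp, S.lf.conj_one hp hx e⟩

theorem act_tb {d : G} {γ : C2} (h : Act S.P S.π d γ) (e : d * S.t = S.t * d) : γ • tb = tb := by
  have := (h _ S.tP).2
  rwa [e, mul_inv_cancel_right, S.πt, eq_comm] at this

theorem uniq (d : G) (γ γ' : C2) (h : Act S.P S.π d γ) (h' : Act S.P S.π d γ') : γ = γ' :=
  (inv_mul_eq_one.1 (siegel (be_self tb) fun a ha _ => by
    obtain ⟨x, hx, rfl⟩ := S.onto a ((be_comm _ _).trans ha)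
    rw [mul_smul, ← (h' x hx).2, (h x hx).2, inv_smul_smul]))

/-- the common centraliser -/
def D : Subgroup G := centralizer {S.t} ⊓ centralizer {S.τ}

theorem mem_D {d : G} : d ∈ S.D ↔ d * S.t = S.t * d ∧ d * S.τ = S.τ * d := by
  simp [D, mem_centralizer_singleton_iff]

theorem PD : S.P ≤ S.D := fun _ hx => S.mem_D.2 ⟨S.Pt hx, S.Pτ hx⟩

/-- the map onto `U6(2).2` -/
noncomputable def φ : S.D →* C2 :=
  (exists_hom (fun d hd => S.act d (S.mem_D.1 hd).1 (S.mem_D.1 hd).2) S.uniq).choose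

theorem φ_act (d : S.D) : Act S.P S.π d (S.φ d) :=
  (exists_hom (fun d hd => S.act d (S.mem_D.1 hd).1 (S.mem_D.1 hd).2) S.uniq).choose_spec d

theorem φ_tb (d : S.D) : S.φ d • tb = tb := S.act_tb (S.φ_act d) (S.mem_D.1 d.2).1

theorem φ_ker {d : S.D} : S.φ d = 1 ↔ (d : G) ∈ S.P :=
  ⟨fun e => S.ker _ (S.mem_D.1 d.2).1 (S.mem_D.1 d.2).2 (e ▸ S.φ_act d),
    fun h => S.uniq _ _ _ (S.φ_act d) (S.lf.act h)⟩

theorem φ_surj {γ : C2} (h : Ux γ) : ∃ d, S.φ d = γ := by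
  obtain ⟨d, h1, h2, h3⟩ := S.surj γ h
  exact ⟨⟨d, S.mem_D.2 ⟨h1, h2⟩⟩, S.uniq _ _ _ (S.φ_act _) h3⟩

/-- an element of `D` fixing the classes orthogonal to `tb` and `a` lies in `P` -/
theorem mem_of_fix {d : G} (hd : d ∈ S.D) {a : V} (ha : be tb a = 0)
    (h : ∀ x ∈ S.P, be a (S.π x) = 0 → d * x = x * d) :
    d ∈ S.P ∧ (S.π d = 0 ∨ S.π d = tb ∨ S.π d = a ∨ S.π d = tb + a) := by
  have m : d ∈ S.P := (S.φ_ker (d := ⟨d, hd⟩)).1 (siegel ha fun c h1 h2 => by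
    obtain ⟨x, hx, rfl⟩ := S.onto c ((be_comm _ _).trans h1)
    rw [← (S.φ_act _ x hx).2, h x hx h2, mul_inv_cancel_right])
  refine ⟨m, mem_two fun c h1 h2 => ?_⟩
  obtain ⟨x, hx, rfl⟩ := S.onto c ((be_comm _ _).trans h1)
  exact (S.lf.commute_iff hx m).1 (h x hx h2).symm

theorem centP {d : G} (h : ∀ x ∈ S.P, d * x = x * d) : d = 1 ∨ d = S.τ ∨ d = S.t ∨ d = S.t * S.τ := by
  obtain ⟨m, e⟩ := S.mem_of_fix (S.mem_D.2 ⟨h _ S.tP, h _ S.lf.mem⟩) (be_self tb) fun x hx _ => h x hx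
  rw [add_self, S.lf.ker _ m, S.eq_tb m] at e
  tauto

theorem card_P : Nat.card S.P = 2 ^ 22 := by
  have e : S.lf.img S.P le_rfl = BS.perp (AddSubgroup.zmultiples tb) := by
    ext a
    refine ⟨fun ⟨x, hx, e⟩ _ ⟨n, f⟩ => ?_, fun h => S.onto a ((be_comm _ _).trans (h _ (AddSubgroup.mem_zmultiples _)))⟩
    rw [← f, ← e, be_comm, map_zsmul, S.perp x hx, smul_zero]
  have := card_perp (AddSubgroup.zmultiples tb)
  rwa [Nat.card_zmultiples, addOrderOf_eq_prime (p := 2) (by rw [two_nsmul, add_self]) tb_ne, ← e,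
    ← S.lf.card le_rfl S.lf.mem] at this

/-- a 2-subgroup of the centraliser of `t` centralises a member of the class of `τ` -/
theorem fix_sg {N : Subgroup G} (h2 : IsPGroup 2 N) (h : ∀ x ∈ N, x * S.t = S.t * x) :
    ∃ σ, Sg S.t S.τ σ ∧ ∀ x ∈ N, σ * x = x * σ := by
  let _ : MulAction N {x | Sg S.t S.τ x} :=
    { smul := fun n x => ⟨n * x * (n : G)⁻¹, Sg.conj x.2 (h n n.2)⟩
      one_smul := fun x => Subtype.ext (show ((1 : N) : G) * x * ((1 : N) : G)⁻¹ = x by simp)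
      mul_smul := fun a b x => Subtype.ext (show ((a * b : N) : G) * x * ((a * b : N) : G)⁻¹ =
        a * (b * x * (b : G)⁻¹) * (a : G)⁻¹ by simp [mul_assoc]) }
  obtain ⟨σ, e⟩ := h2.nonempty_fixed_point_of_prime_not_dvd_card {x | Sg S.t S.τ x} (by
    rw [Nat.card_coe_set_eq]; exact S.odd.not_two_dvd_nat)
  exact ⟨σ, σ.2, fun x hx => (mul_inv_eq_iff_eq_mul.1 (congrArg Subtype.val (e ⟨x, hx⟩))).symm⟩

/-- `P` is the largest normal 2-subgroup of `D` -/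
theorem le_P {N : Subgroup G} (h2 : IsPGroup 2 N) (l : N ≤ S.D) (n : ∀ d ∈ S.D, ∀ x ∈ N, d * x * d⁻¹ ∈ N) :
    N ≤ S.P := fun x hx => by
  have := normal_U (A := (N.subgroupOf S.D).map S.φ) ((h2.comap_subtype).map _)
    (by rintro _ ⟨d, -, rfl⟩; exact S.φ_tb d) (by
      rintro s hs _ ⟨y, hy, rfl⟩
      obtain ⟨d, rfl⟩ := S.φ_surj hs
      exact ⟨d * y * d⁻¹, n d d.2 y hy, by simp⟩)
  exact (S.φ_ker (d := ⟨x, l hx⟩)).1 (mem_bot.1 (this ▸ mem_map_of_mem _ hx))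

/-- `t` and `τ` are not conjugate -/
theorem nc : ¬ IsConj S.t S.τ := fun h => by
  obtain ⟨g, e⟩ := isConj_iff.1 h
  obtain ⟨σ, ⟨c, hc, rfl⟩, f⟩ := (S.cj g).fix_sg S.lf.two fun x hx => by rw [cj_t, e]; exact S.Pτ hx
  rw [cj_t, e] at hc
  have e1 : (S.cj (c * g)).t = S.τ := by rw [cj_t, mul_inv_rev, ← mul_inv_cancel_right S.τ c, ← hc, ← e]; group
  have e2 : c * (S.cj g).τ * c⁻¹ = (S.cj (c * g)).τ := by simp [mul_assoc]
  rw [e2] at f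
  generalize S.cj (c * g) = T at e1 f
  have n := T.t_ne_τ
  have r := (((S.centP f).resolve_left T.lf.ne).resolve_left (e1 ▸ n.symm))
  have eD : ∀ d, d ∈ T.D ↔ d ∈ S.D := fun d => by
    rw [mem_D, mem_D, e1, and_comm]
    refine and_congr_left fun k => ?_
    rcases r with r | r <;> rw [r]
    rw [← mul_assoc, mul_assoc S.t, ← k, ← mul_assoc, mul_left_inj]
  have l : T.P ≤ S.P := S.le_P T.lf.two (fun x hx => (eD x).1 (T.PD hx)) fun d hd x hx =>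
    (T.φ_act ⟨d, (eD d).2 hd⟩ x hx).1
  obtain ⟨p, hp, k⟩ := T.conj_τ T.βP (T.πβ ▸ tb_bb.ne) (T.πβ ▸ fun e => ta_tb.not_tb (e ▸ tb_bb))
  rw [S.lf.conj (l hp) (l T.βP), mul_right_inj] at k
  exact (zp_cases _ _).elim (fun z => T.lf.ne (k ▸ z)) fun z => n (e1.trans (z.symm.trans k))

end Su

namespace Su2

variable (S : Su2 G)

theorem cj_toSu (g : G) : (S.cj g).toSu = S.toSu.cj g := rfl
theorem cj_Q {g x : G} : x ∈ (S.cj g).Q ↔ g⁻¹ * x * g ∈ S.Q := Iff.rfl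

theorem uniqQ (d : G) (γ γ' : C2) (h : Act S.Q S.π d γ) (h' : Act S.Q S.π d γ') : γ = γ' :=
  (inv_mul_eq_one.1 (faithful fun a => by
    obtain ⟨x, hx, rfl⟩ := S.ontoQ a
    rw [mul_smul, ← (h' x hx).2, (h x hx).2, inv_smul_smul]))

theorem tQ : S.t ∈ S.Q := S.PQ S.tP

theorem conjQ {x : G} (hx : x ∈ S.Q) (h0 : S.π x ≠ 0) : ∃ q ∈ S.Q, q * x * q⁻¹ = x * S.τ := by
  obtain ⟨a, -, e⟩ := exists_be h0 h0
  obtain ⟨p, hp, rfl⟩ := S.ontoQ a
  exact ⟨p, hp, S.lfQ.conj_one hp hx e⟩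

theorem card_Q : Nat.card S.Q = 2 ^ 23 := by
  rw [S.lfQ.card le_rfl S.lfQ.mem, (AddSubgroup.eq_top_iff' (S.lfQ.img S.Q le_rfl)).2 S.ontoQ, AddSubgroup.card_top, card_V]; rfl

theorem actD (d : S.D) : Act S.Q S.π d (S.φ d) :=
  S.actQ _ _ (S.mem_D.1 d.2).1 (S.mem_D.1 d.2).2 (S.φ_act d)

variable [Finite G]

/-- the elements centralising `τ` which act on `Q` through Co2 -/
def Y : Subgroup G where
  carrier := {y | y * S.τ = S.τ * y ∧ ∃ γ, Act S.Q S.π y γ}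
  one_mem' := ⟨by simp, 1, Act.one⟩
  mul_mem' := fun ⟨a, _, ha⟩ ⟨b, _, hb⟩ => ⟨Commute.mul_left a b, _, ha.mul hb⟩
  inv_mem' := fun ⟨a, _, ha⟩ => ⟨Commute.inv_left a, _, ha.inv⟩

theorem mem_Y {y : G} : y ∈ S.Y ↔ y * S.τ = S.τ * y ∧ ∃ γ, Act S.Q S.π y γ := Iff.rfl

theorem QY : S.Q ≤ S.Y := fun _ hx => ⟨S.lfQ.cent hx, 1, S.lfQ.act hx⟩

theorem DY : S.D ≤ S.Y := fun d hd => ⟨(S.mem_D.1 hd).2, _, S.actD ⟨d, hd⟩⟩

omit [Finite G] in
/-- an element which normalises `<t, τ>` and centralises `τ` lies in `QD` -/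
theorem exists_D {y : G} (h : y * S.τ = S.τ * y) (e : y * S.t * y⁻¹ = S.t ∨ y * S.t * y⁻¹ = S.t * S.τ) :
    ∃ q ∈ S.Q, q * y ∈ S.D := by
  rcases e with e | e
  · exact ⟨1, one_mem _, by rw [one_mul]; exact S.mem_D.2 ⟨mul_inv_eq_iff_eq_mul.1 e, h⟩⟩
  · obtain ⟨q, hq, f⟩ := S.conjQ S.tQ (S.πt ▸ tb_ne)
    refine ⟨q⁻¹, inv_mem hq, S.mem_D.2 ⟨mul_inv_eq_iff_eq_mul.1 ?_,
      Commute.mul_left (Commute.inv_left (S.lfQ.cent hq)) h⟩⟩
    calc q⁻¹ * y * S.t * (q⁻¹ * y)⁻¹ = q⁻¹ * (y * S.t * y⁻¹) * q := by group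
      _ = S.t := by rw [e, ← f]; group

omit [Finite G] in
theorem kerQ {y : G} (h : y * S.τ = S.τ * y) (a : Act S.Q S.π y 1) : y ∈ S.Q := by
  obtain ⟨q, hq, m⟩ := S.exists_D h ((S.lfQ.eq_iff S.tQ (a _ S.tQ).1).1 (by rw [(a _ S.tQ).2, one_smul]))
  have := S.uniqQ _ _ _ (S.actD ⟨_, m⟩) ((S.lfQ.act hq).mul a)
  exact (S.Q.mul_mem_cancel_left hq).1 (S.PQ (S.φ_ker.1 (this.trans (mul_one 1))))

/-- the map to Co2 -/
noncomputable def ψ : S.Y →* C2 := (exists_hom (K := S.Y) (fun _ hd => (S.mem_Y.1 hd).2) S.uniqQ).choose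

theorem ψ_act (y : S.Y) : Act S.Q S.π y (S.ψ y) := (exists_hom (K := S.Y) (fun _ hd => (S.mem_Y.1 hd).2) S.uniqQ).choose_spec y

theorem ψ_ker {y : S.Y} : S.ψ y = 1 ↔ (y : G) ∈ S.Q :=
  ⟨fun e => S.kerQ y.2.1 (e ▸ S.ψ_act y), fun h => S.uniqQ _ _ _ (S.ψ_act y) (S.lfQ.act h)⟩

/-- all of Co2 is induced -/
def Full : Prop := ∀ γ, ∃ y, y * S.τ = S.τ * y ∧ Act S.Q S.π y γ

/-- if all of Co2 is induced then so is the full stabiliser of `tb` -/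
def toSt2 (h : S.Full) : St2 G :=
  { S with
    surj := fun γ e => by
      obtain ⟨y, h1, h2⟩ := h γ
      obtain ⟨q, hq, m⟩ := S.exists_D h1 ((S.lfQ.eq_iff S.tQ (h2 _ S.tQ).1).1 (by rw [(h2 _ S.tQ).2, S.πt, e]))
      exact ⟨_, (S.mem_D.1 m).1, (S.mem_D.1 m).2, (one_mul γ ▸ (S.lfQ.act hq).mul h2).mono S.PQ
        fun x hx => (S.φ_act ⟨_, m⟩ x hx).1⟩ }

end Su2

end H18.BS
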