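import Cfsg.Agent.Lib.BStd.Thk
import Cfsg.Agent.Lib.BStd.Su

/-!
# The structure `Su` from the Monster (helper18)
-/

set_option autoImplicit false

namespace H18.BS

open Subgroup Cfsg H16 H95 H95.Gr H7.SM H48.BR H75.WC Md

/-- the centraliser of `t` is described by the Monster -/
structure Thu {G : Type*} [Group G] (ϑ : GG → G) (t : G) : Prop where
  mul : ∀ a ∈ K0, ∀ b ∈ K0, ϑ (a * b) = ϑ a * ϑ b
  ker : ∀ a ∈ K0, (ϑ a = 1 ↔ a = 1 ∨ a = t0)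
  x : ϑ x1 = t
  ex1 : ∀ c, c * t = t * c → ∃ g, Rl ϑ c g
  cent : ∀ c, c * t = t * c → (∀ k ∈ K0, c * ϑ k = ϑ k * c) → c = 1 ∨ c = t

theorem Thk.thu {G : Type*} [Group G] {ϑ : GG → G} {t : G} {A K N : Subgroup G} (H : Thk ϑ 1 t A K N)
    (hN : ∀ c, c * t = t * c → c ∈ N) (hK : ∀ k ∈ K, k = 1 ∨ k = t) : Thu ϑ t := by
  have o : ϑ 1 = 1 := left_eq_mul.1 ((congrArg ϑ (one_mul 1)).symm.trans (H.mul 1 (one_mem _) 1 (one_mem _)))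
  refine ⟨H.mul, fun a ha => ⟨H.ker a ha, ?_⟩, H.x, fun c hc => ?_, fun c hc h => hK c ((H.hK c).2 ⟨hN c hc, ?_⟩)⟩
  · rintro (rfl | rfl)
    exacts [o, H.n0]
  · obtain ⟨g, hg⟩ := H.ex1 c (hN c hc)
    refine ⟨g, mem_HH.2 ((H.ker _ (hg _ t0K).1 ?_).resolve_left (ix_t0.conj g).ne_one), hg⟩
    rw [(hg _ t0K).2, H.n0, mul_one, mul_inv_cancel]
  · intro a ha
    obtain ⟨k, hk, rfl⟩ := (H.im a).1 ha
    exact (h k hk).symm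

namespace Thu

variable {G : Type*} [Group G] {ϑ : GG → G} {t : G} (H : Thu ϑ t)
include H

theorem one : ϑ 1 = 1 := (H.ker 1 (one_mem _)).2 (Or.inl rfl)

theorem t0' : ϑ t0 = 1 := (H.ker _ t0K).2 (Or.inr rfl)

theorem inv {a : GG} (h : a ∈ K0) : ϑ a⁻¹ = (ϑ a)⁻¹ :=
  eq_inv_of_mul_eq_one_left (by rw [← H.mul _ (inv_mem h) _ h, inv_mul_cancel, H.one])

theorem eq_iff {a b : GG} (ha : a ∈ K0) (hb : b ∈ K0) : ϑ b = ϑ a ↔ b = a ∨ b = a * t0 := by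
  rw [eq_comm, ← inv_mul_eq_one, ← H.inv ha, ← H.mul _ (inv_mem ha) _ hb, H.ker _ (mul_mem (inv_mem ha) hb),
    inv_mul_eq_one, inv_mul_eq_iff_eq_mul, eq_comm]

theorem rl {k : GG} (h : k ∈ K0) : Rl ϑ (ϑ k) k := ⟨h.1, fun a ha =>
  ⟨mul_mem (mul_mem h ha) (inv_mem h), by
    rw [cj_apply, H.mul _ (mul_mem h ha) _ (inv_mem h), H.mul _ h _ ha, H.inv h]⟩⟩

theorem comm_t {k : GG} (h : k ∈ K0) : ϑ k * t = t * ϑ k := by
  rw [← H.x, ← H.mul _ h _ x1K, ← H.mul _ x1K _ h, (mem_C2.1 h).2.eq]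

theorem rl_x {c : G} {g : GG} (h : Rl ϑ c g) (hc : c * t = t * c) : cj g x1 = x1 ∨ cj g x1 = x1 * t0 :=
  (H.eq_iff x1K (h.2 _ x1K).1).1 (by rw [(h.2 _ x1K).2, H.x, hc, mul_inv_cancel_right])

theorem rl_z {c : G} {g : GG} (h : Rl ϑ c g) (hc : c * ϑ zA = ϑ zA * c) : g * zA = zA * g :=
  mul_inv_eq_iff_eq_mul.1 (((H.eq_iff zK (h.2 _ zK).1).1 (by rw [(h.2 _ zK).2, hc, mul_inv_cancel_right])).resolve_right
    fun e => not_iz (W_z.2.1.comm ▸ ix_t0.mul_of_inQ W_z.2.1) (e ▸ iz_z.conj g))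

theorem rl_cent {c d : G} {g : GG} (h : Rl ϑ c g) (h' : Rl ϑ d g) (hc : c * t = t * c) (hd : d * t = t * d) :
    c = d ∨ c = d * t := by
  have := H.cent (d⁻¹ * c) (Commute.mul_left (Commute.inv_left hd) hc) fun k hk => by
    have e := (h.2 k hk).2.symm.trans (h'.2 k hk).2
    calc _ = d⁻¹ * (c * ϑ k * c⁻¹) * c := by group
      _ = _ := by rw [e]; group
  rwa [inv_mul_eq_one, inv_mul_eq_iff_eq_mul, eq_comm] at this

theorem mem_of {c : G} {g : GG} (h : Rl ϑ c g) (hc : c * t = t * c) (e : cj g x1 = x1) : ∃ k ∈ K0, ϑ k = c := by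
  have m : g ∈ K0 := mem_C2.2 ⟨mem_cent_iff.1 h.1, mul_inv_eq_iff_eq_mul.1 e⟩
  rcases H.rl_cent h (H.rl m) hc (H.comm_t m) with r | r
  exacts [⟨g, m, r.symm⟩, ⟨_, mul_mem m x1K, by rw [H.mul _ m _ x1K, H.x, r]⟩]

theorem idx (x y : G) (hx : x * t = t * x) (hy : y * t = t * y) :
    (∃ k ∈ K0, ϑ k = x) ∨ (∃ k ∈ K0, ϑ k = y) ∨ ∃ k ∈ K0, ϑ k = x * y := by
  obtain ⟨g, hg⟩ := H.ex1 x hx
  obtain ⟨h, hh⟩ := H.ex1 y hy
  refine (H.rl_x hg hx).imp (H.mem_of hg hx) fun e => (H.rl_x hh hy).imp (H.mem_of hh hy) fun f =>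
    H.mem_of (g := g * h) ⟨mul_mem hg.1 hh.1, fun k hk => ?_⟩ (Commute.mul_left hx hy) ?_
  · have a := hh.2 k hk
    have b := hg.2 _ a.1
    rw [← cj_mul, a.2] at b
    exact ⟨b.1, b.2.trans (by group)⟩
  · rw [cj_mul, f, map_mul, e, mem_HH.1 hg.1, mul_assoc, t0_sq, mul_one]

theorem sg_iff {y : G} : Sg t (ϑ zA) y ↔ ∃ w, W w ∧ ϑ w = y := by
  constructor
  · rintro ⟨c, hc, rfl⟩
    obtain ⟨g, hg⟩ := H.ex1 c hc
    have a : InQ (cj g zA) t0 := mem_HH.1 hg.1 ▸ W_z.2.1.conj g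
    refine ⟨_, ⟨iz_z.conj g, a, ?_⟩, (hg.2 _ zK).2⟩
    rcases H.rl_x hg hc with e | e
    · exact e ▸ W_z.2.2.conj g
    · simpa [mul_assoc, t0_sq] using (e ▸ W_z.2.2.conj g : InQ _ (x1 * t0)).mul a
  · rintro ⟨w, hw, rfl⟩
    obtain ⟨g, hg, rfl⟩ := hw.ex
    exact ⟨_, H.comm_t hg, ((H.rl hg).2 _ zK).2.symm⟩

/-- the image of a subgroup -/
def im (Q : Subgroup GG) : Subgroup G where
  carrier := {y | ∃ q ∈ Q, q ∈ K0 ∧ ϑ q = y}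
  one_mem' := ⟨1, one_mem _, one_mem _, H.one⟩
  mul_mem' := by
    rintro _ _ ⟨a, h1, h2, rfl⟩ ⟨b, h3, h4, rfl⟩
    exact ⟨_, mul_mem h1 h3, mul_mem h2 h4, H.mul _ h2 _ h4⟩
  inv_mem' := by
    rintro _ ⟨a, h1, h2, rfl⟩
    exact ⟨_, inv_mem h1, inv_mem h2, H.inv h2⟩

theorem exists_π : ∃ π : G → V, ∀ {v q}, q ∈ K0 → cls v q → π (ϑ q) = BS.mk v := by
  classical
  refine ⟨fun y => if h : ∃ p : Lam × GG, p.2 ∈ K0 ∧ cls p.1 p.2 ∧ ϑ p.2 = y then BS.mk h.choose.1 else 0,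
    fun {v q} h1 h2 => ?_⟩
  have e : ∃ p : Lam × GG, p.2 ∈ K0 ∧ cls p.1 p.2 ∧ ϑ p.2 = ϑ q := ⟨(v, q), h1, h2, rfl⟩
  refine (dif_pos e).trans ?_
  exact (Cu.mk ((cu_iff h2 e.choose_spec.2.1).2 (Or.inl ((H.eq_iff h1 e.choose_spec.1).1 e.choose_spec.2.2)))).symm

theorem ex_P {y : G} (h : y ∈ H.im (QQ ℝ)) : ∃ q v, q ∈ K0 ∧ cls v q ∧ ϑ q = y := by
  obtain ⟨q, h1, h2, e⟩ := h
  obtain ⟨v, hv⟩ := mon.ex_cls q h1
  exact ⟨q, v, h2, hv, e⟩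

variable {π : G → V} (hπ : ∀ {v q}, q ∈ K0 → cls v q → π (ϑ q) = BS.mk v)
include hπ

theorem lf : Lf (ϑ zA) (H.im (QQ ℝ)) π := by
  have zp' : ∀ a, ϑ (zp zA a) = zp (ϑ zA) a := fun a => by
    rcases z2 a with rfl | rfl
    exacts [H.one, rfl]
  have zm : ∀ a, zp zA a ∈ K0 := fun a => (zp_cases zA a).elim (fun e => e.symm ▸ one_mem _) fun e => e.symm ▸ zK
  refine ⟨fun e => ((H.ker _ zK).1 e).elim iz_z.ne_one fun f => not_iz ix_t0 (f ▸ iz_z),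
    by rw [← H.mul _ zK _ zK, iz_z.sq, H.one], ⟨_, es_QQ.mem, zK, rfl⟩, fun x hx y hy => ?_, fun x hx => ?_,
    fun x hx y hy => ?_, fun x hx => ?_⟩ <;> obtain ⟨a, v, ha, hv, rfl⟩ := H.ex_P hx
  · obtain ⟨b, w, hb, hw, rfl⟩ := H.ex_P hy
    rw [← H.mul _ ha _ hb, hπ (mul_mem ha hb) (mon.add hv hw), hπ ha hv, hπ hb hw, map_add]
  · rw [hπ ha hv, ← map_zero BS.mk, eq_comm, mk_eq_iff pp_zero ((mem_K0 hv).1 ha).1, cu_iff mon.cls_zero hv,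
      H.ker _ ha, H.eq_iff zK ha, one_mul, one_mul]
  · obtain ⟨b, w, hb, hw, rfl⟩ := H.ex_P hy
    rw [hπ ha hv, hπ hb hw, be_mk ((mem_K0 hv).1 ha).1 ((mem_K0 hw).1 hb).1, ← zp', ← H.mul _ ha _ hb,
      ← H.mul _ hb _ ha, ← H.mul _ (mul_mem hb ha) _ (zm _)]
    congr 1
    rcases z2 (d8 v w) with e | e <;> rw [e]
    · exact ((mon.commute_iff hv hw).2 (d8_eq_zero.1 e)).trans (mul_one _).symm
    · exact (es_QQ.comm _ (mon.mem hv) _ (mon.mem hw)).resolve_left fun f =>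
        d8_eq_one.1 e ((mon.commute_iff hv hw).1 f)
  · rw [hπ ha hv, ← zp', ← H.mul _ ha _ ha]
    congr 1
    have := (mon.sq_iff hv).trans (qq_mk_eq_zero ((mem_K0 hv).1 ha).1).symm
    rcases z2 (qq (BS.mk v)) with e | e <;> rw [e] at this ⊢
    · exact this.2 rfl
    · exact (es_QQ.sq_mem (mon.mem hv)).resolve_left fun f => absurd (this.1 f) (by decide)

theorem act {c : G} {g : GG} (h : Rl ϑ c g) {z : g ∈ centralizer {zA}} {δ : C2}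
    (e : (QuotientGroup.mk (δ : Co0) : Spor.Co1) = phi ⟨g, z⟩) : Act (H.im (QQ ℝ)) π c δ := fun x hx => by
  obtain ⟨a, v, ha, hv, rfl⟩ := H.ex_P hx
  have := mon.smul _ _ e hv
  rw [← (h.2 a ha).2]
  exact ⟨⟨_, mon.mem this, (h.2 a ha).1, rfl⟩, by
    rw [hπ ha hv, smul_mk _ ((mem_K0 hv).1 ha).1]; exact hπ (h.2 a ha).1 this⟩

theorem onto (a : V) (h : be a tb = 0) : ∃ x ∈ H.im (QQ ℝ), π x = a := by
  obtain ⟨v, hv, rfl⟩ := mk_surj a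
  obtain ⟨q, hq⟩ := mon.ex_elt v
  have m := (mem_K0 hq).2 ⟨hv, (be_mk hv pp_X).symm.trans h⟩
  exact ⟨_, ⟨q, mon.mem hq, m, rfl⟩, hπ m hq⟩

theorem uniq {d : G} {γ γ' : C2} (h : Act (H.im (QQ ℝ)) π d γ) (h' : Act (H.im (QQ ℝ)) π d γ') : γ = γ' :=
  (inv_mul_eq_one.1 (siegel (be_self tb) fun a ha _ => by
    obtain ⟨x, hx, rfl⟩ := H.onto hπ a ((be_comm _ _).trans ha)
    rw [mul_smul, ← (h' x hx).2, (h x hx).2, inv_smul_smul]))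

theorem sig {x : G} (hx : x ∈ H.im (QQ ℝ)) : Sg t (ϑ zA) x ↔ x = ϑ zA ∨ Om (π x + tb) := by
  refine ⟨fun h => ?_, ?_⟩
  · obtain ⟨w, hw, rfl⟩ := H.sg_iff.1 h
    obtain ⟨q, h1, h2, e⟩ := hx
    obtain ⟨v, hv⟩ := mon.ex_cls w (((H.eq_iff h2 hw.mem).1 e.symm).elim (fun f => f ▸ h1)
      fun f => f ▸ mul_mem h1 t0_mem)
    have p := (mem_K0 hv).1 hw.mem
    rw [hπ hw.mem hv, or_iff_not_imp_left]
    refine fun n => ⟨?_, by rw [be_add_left, be_self, add_zero, tb, be_mk p.1 pp_X, p.2], fun f => ?_⟩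
    · rw [add_comm, tb, ← map_add]
      exact ta_of_inD (mon.add cls_x1 hv) ⟨inD_x1.1.mul_of_inQ hw.2.2,
        mul_assoc t0 x1 w ▸ inD_x1.2.mul_of_inQ (hw.2.1.mul hw.2.2)⟩
    · rw [add_eq_right, ← hπ hw.mem hv, (H.lf hπ).ker _ ⟨q, h1, h2, e⟩, H.ker _ hw.mem] at f
      exact f.elim (fun f => f.elim hw.1.ne_one fun f => not_iz ix_t0 (f ▸ hw.1)) n
  · rintro (rfl | h)
    · exact Sg.self _ _
    · obtain ⟨m, n, d, z, e⟩ := om_rep h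
      obtain ⟨q, hq⟩ := mon.ex_elt (H16.vX + m)
      have a := W_of n d z hq
      have b := W_of n d z (mon.mul_z hq)
      rcases ((H.lf hπ).eq_iff ⟨q, mon.mem hq, a.mem, rfl⟩ hx).1 (by
        rw [hπ a.mem hq, map_add, e, add_left_comm, ← tb, add_self, add_zero]) with f | f
      exacts [H.sg_iff.2 ⟨q, a, f.symm⟩, H.sg_iff.2 ⟨_, b, by rw [f, H.mul _ a.mem _ zK]⟩]

end Thu

theorem Thu.exists_Su {G : Type*} [Group G] {ϑ : GG → G} {t : G} (H : Thu ϑ t) : ∃ S : Su G, S.t = t ∧ ∀ x, x ∈ S.M ↔ ∃ k ∈ K0, ϑ k = x := by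
  obtain ⟨π, hπ⟩ := H.exists_π
  obtain ⟨zb, hb⟩ := mon.ex_elt (e8 none)
  have wb : W zb := ⟨iz_of_cls hb (sqNorm_e8 _), inQ_cls hb (sqNorm_e8 _) cls_t0 norm_U
    (cg_iff.2 ⟨H16.vU, by rw [← U_add_UP]; abel⟩) norm_UP, inQ_cls hb (sqNorm_e8 _) cls_x1 norm_X (m' := pm none (some 1))
    (cg_iff.2 ⟨H16.vX, by rw [X_eq, ← pp_add_pm none (some 1)]; abel⟩) (norm_pm (by decide))⟩
  obtain ⟨g, hg, rfl⟩ := wb.ex
  have nz : cj g zA ≠ zA := fun e => Mon.not_cg_zero (Or.inr (sqNorm_e8 _)) ((mon.cg_zero_iff hb).2 (Or.inr e))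
  have pr := mon.pair (mon.mem hb) nz
  have gi : ∀ {k}, k ∈ K0 → cj g⁻¹ k ∈ K0 ∧ ϑ (cj g⁻¹ k) = (ϑ g)⁻¹ * ϑ k * ϑ g := fun hk => by
    simpa [H.inv hg] using (H.rl (inv_mem hg)).2 _ hk
  have iq : ∀ {k}, InQ (cj g zA) k ↔ cj g⁻¹ k ∈ QQ ℝ := fun {k} => by rw [← inQ_z, ← inQ_cj (g := g) (w := zA), cj_cj']
  have tP : t ∈ H.im (QQ ℝ) := ⟨_, mon.mem cls_x1, x1K, H.x⟩
  refine ⟨{
    t := t
    τ := ϑ zA
    β := ϑ (cj g zA)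
    c := ϑ g
    M := H.im ⊤
    P := H.im (QQ ℝ)
    π := π
    lf := H.lf hπ
    tP := tP
    πt := H.x ▸ hπ x1K cls_x1
    perp := fun x hx => ?_
    onto := H.onto hπ
    PM := fun _ ⟨q, _, h⟩ => ⟨q, trivial, h⟩
    Mt := fun _ ⟨q, _, h, e⟩ => e ▸ H.comm_t h
    idx := fun x y hx hy => (H.idx x y hx hy).imp (fun ⟨k, h⟩ => ⟨k, trivial, h⟩)
      (Or.imp (fun ⟨k, h⟩ => ⟨k, trivial, h⟩) fun ⟨k, h⟩ => ⟨k, trivial, h⟩)
    act := fun d h1 h2 => ?_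
    ker := fun d h1 h2 h3 => ?_
    surj := fun γ h => ?_
    odd := ?_
    col := fun x h1 h2 => ?_
    sig := fun x => H.sig hπ
    cls := ?_
    ct := H.comm_t hg
    cτ := ((H.rl hg).2 _ zK).2.symm
    βP := ⟨_, mon.mem hb, wb.mem, rfl⟩
    πβ := hπ wb.mem hb
    inE := fun x hx i hi h => ?_
    img := fun y γ h1 h2 h3 => ?_
    img' := fun γ h h' => ?_ }, rfl, fun x => ⟨fun ⟨k, _, h⟩ => ⟨k, h⟩, fun ⟨k, h⟩ => ⟨k, trivial, h⟩⟩⟩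
  · obtain ⟨a, v, ha, hv, rfl⟩ := H.ex_P hx
    rw [hπ ha hv, tb, be_mk ((mem_K0 hv).1 ha).1 pp_X, ((mem_K0 hv).1 ha).2]
  · obtain ⟨k, hk⟩ := H.ex1 d h1
    obtain ⟨δ, e⟩ := exists_lift hk.1 (H.rl_z hk h2)
    exact ⟨δ, H.act hπ hk e⟩
  · obtain ⟨k, hk⟩ := H.ex1 d h1
    obtain ⟨δ, e⟩ := exists_lift hk.1 (H.rl_z hk h2)
    obtain rfl := H.uniq hπ h3 (H.act hπ hk e)
    have q : k ∈ QQ ℝ := (mon.ker _).1 e.symm
    have m : k ∈ K0 := mem_C2.2 ⟨mem_cent_iff.1 hk.1, eq_of_two (es_QQ.conj (mon.mem cls_x1) q) (H.rl_x hk h1)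
      fun f => not_iz ix_t0 (f ▸ iz_z)⟩
    rcases H.rl_cent hk (H.rl m) h1 (H.comm_t m) with r | r <;> rw [r]
    exacts [⟨k, q, m, rfl⟩, mul_mem ⟨k, q, m, rfl⟩ tP]
  · obtain ⟨k, h1, h2, e⟩ := exists_lift' γ
    have c1 := mon.smul _ _ e cls_x1
    rw [show (γ : Co0) • H16.vX = H16.vX from h] at c1
    have k1 : ∀ k ∈ HH, ∀ z : k ∈ centralizer {zA}, (QuotientGroup.mk (γ : Co0) : Spor.Co1) = phi ⟨k, z⟩ →
        cj k x1 = x1 → ∃ d, d * t = t * d ∧ d * ϑ zA = ϑ zA * d ∧ Act (H.im (QQ ℝ)) π d γ :=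
      fun k hk z e f => by
        have m : k ∈ K0 := mem_C2.2 ⟨mem_cent_iff.1 hk, mul_inv_eq_iff_eq_mul.1 f⟩
        exact ⟨_, H.comm_t m, by rw [← H.mul _ m _ zK, ← H.mul _ zK _ m, mem_cent_iff.1 z], H.act hπ (H.rl m) e⟩
    rcases (mon.eq_iff cls_x1 c1).1 (Cg.refl _) with f | f
    · exact k1 k h1 _ e f
    · obtain ⟨a, a1, a2⟩ := exists_be (x := 0) tb_ne tb_ne
      obtain ⟨v, hv, rfl⟩ := mk_surj a
      obtain ⟨q, hq⟩ := mon.ex_elt v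
      have q1 : q ∈ HH := mem_cent_iff.2 ((mon.commute_iff hq cls_t0).2 hv)
      have q2 : cj q x1 = x1 * zA := es_QQ.conj_of_ne (mon.mem cls_x1) (mon.mem hq) fun r =>
        d8_eq_one.1 ((be_mk hv pp_X).symm.trans a2) ((mon.commute_iff hq cls_x1).1 r)
      have q3 : q ∈ centralizer {zA} := mem_cent_iff.2 (es_QQ.central _ (mon.mem hq))
      have q4 : cj q zA = zA := mul_inv_eq_iff_eq_mul.2 (mem_cent_iff.1 q3)
      refine k1 (q * k) (mul_mem q1 h1) (mul_mem q3 (mem_cent_iff.2 h2)) (by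
        rw [e]; exact ((map_mul phi ⟨q, q3⟩ ⟨k, _⟩).trans (by rw [(mon.ker _).2 (mon.mem hq), one_mul])).symm) ?_
      rw [cj_mul, show cj k x1 = _ from f, map_mul, q2, q4, mul_assoc, iz_z.sq, mul_one]
  · rw [show {x | Sg t (ϑ zA) x} = ϑ '' {w | W w} from Set.ext fun _ => H.sg_iff, Set.InjOn.ncard_image
      fun a ha b hb e => ((H.eq_iff hb.mem ha.mem).1 e).resolve_right fun f =>
        not_iz (hb.2.1.comm ▸ ix_t0.mul_of_inQ hb.2.1) (f ▸ ha.1), card_W]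
    decide
  · obtain ⟨w, hw, rfl⟩ := H.sg_iff.1 h1
    obtain ⟨w', hw', e⟩ := H.sg_iff.1 h2
    have i : IX (x1 * w * zA) := by
      rcases (H.eq_iff (mul_mem hw.mem zK) hw'.mem).1 (e.trans (H.mul _ hw.mem _ zK).symm) with f | f
      · rw [mul_assoc, ← f]; exact inD_x1.1.mul_of_inQ hw'.2.2
      · have := inD_x1.2.mul_of_inQ (hw'.2.1.mul hw'.2.2)
        rwa [f, c01.eq, ← (mem_C2.1 (mul_mem hw.mem zK)).1.eq.symm, mul_assoc, ← mul_assoc t0, t0_sq, one_mul,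
          ← mul_assoc] at this
    refine ⟨w, ?_, hw.mem, rfl⟩
    exact (mul_mem_cancel_left (mon.mem cls_x1)).1 (inQ_z.1 (inQ_of_mul' (inD_x1.1.mul_of_inQ hw.2.2) iz_z i))
  · rintro _ ⟨k, -, hk, rfl⟩ h
    obtain ⟨qb, qc, h1, h2, h3, h4, cl⟩ := Md.classes
    obtain ⟨d, hd, v, hv, e⟩ := cl k hk (((H.ker _ (mul_mem hk hk)).1 ((H.mul _ hk _ hk).trans h)).imp_right Or.inl)
    obtain ⟨u, hu, f⟩ : ∃ u, cls u v ∧ (BS.mk u = 0 ∨ BS.mk u = tb) := by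
      rcases hv with rfl | rfl | rfl | rfl
      exacts [⟨_, mon.cls_zero, Or.inl (map_zero _)⟩, ⟨_, cls_t0, Or.inl mk_U⟩, ⟨_, cls_x1, Or.inr rfl⟩,
        ⟨_, mon.add cls_t0 cls_x1, Or.inr (by rw [map_add, mk_U, zero_add, tb])⟩]
    obtain ⟨w, hw, r⟩ : ∃ w, cls (w + u) (cj d k) ∧ (BS.mk w = 0 ∨ BS.mk w = vb ∨ BS.mk w = vc) := by
      rcases e with e | e | e | e <;> rw [e]
      exacts [⟨0, by rwa [zero_add], Or.inl (map_zero _)⟩,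
        ⟨0, mon.add (by simpa using mon.mul_z mon.cls_zero) hu, Or.inl (map_zero _)⟩,
        ⟨_, mon.add h1 hu, Or.inr (Or.inl rfl)⟩, ⟨_, mon.add h2 hu, Or.inr (Or.inr rfl)⟩]
    have a := (H.rl hd).2 k hk
    refine ⟨ϑ d, H.comm_t hd, ⟨_, mon.mem hw, a⟩, ?_⟩
    rw [← a.2, hπ a.1 hw, map_add]
    rcases r with r | r | r <;> rcases f with f | f <;> simp [r, f]
  · obtain ⟨a, v, ha, hv, rfl⟩ := H.ex_P hx
    have k : ∀ {q}, cls (pp none i) q → InQ (cj g zA) q := fun hq =>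
      inQ_cls hb (sqNorm_e8 _) hq (norm_pp hi.1.symm) (m' := pm none i)
        (cg_iff.2 ⟨pp none i, by rw [← pp_add_pm none i]; abel⟩) (norm_pm hi.1.symm)
    refine ⟨_, iq.1 ?_, gi ha⟩
    rcases (mk_eq_iff ((mem_K0 hv).1 ha).1 (pp_pp _ _)).1 ((hπ ha hv).symm.trans h) with e | e
    · exact k (mon.congr hv e)
    · simpa [mul_assoc, t0_sq] using (k (mon.congr (mon.add hv cls_t0) e)).mul wb.2.1
  · obtain ⟨q, q1, q2, e⟩ := h1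
    have a := (H.rl hg).2 q q2
    have f : ϑ (cj g q) = y := by rw [a.2, e]; group
    have r := f ▸ H.rl a.1
    obtain ⟨δ, e⟩ := exists_lift r.1 (H.rl_z r h2)
    rw [H.uniq hπ h3 (H.act hπ r e)]
    exact mon.imgN_le pr hb (mem_imgN.2 ⟨_, mem_map_of_mem _ q1, e⟩)
  · obtain ⟨b, b1, e⟩ : QuotientGroup.mk' (center Co0) (γ : Co0) ∈ (((QQ ℝ).map (MulAut.conj g).toMonoidHom ⊓
        centralizer {zA}).subgroupOf (centralizer {zA})).map phi := by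
      rw [(mon.card_E pr (mon.card_conj g) hb).2]; exact mem_map_of_mem _ h
    have k : ∀ {v x}, cls v x → (γ : Co0) • v = v → InQ (cj g zA) x → Commute b.1 x := fun hv f i =>
      eq_of_two ((mon.eq_iff hv (mon.smul b _ e.symm hv)).1 (f.symm ▸ Cg.refl _))
        (pr.h'.conj (inQ_iff.1 i) b1.1) nz
    have m : b.1 ∈ K0 := mem_C2.2 ⟨k cls_t0 γ.2 wb.2.1, k cls_x1 (eps_X h h') wb.2.2⟩
    exact ⟨ϑ b, ⟨_, iq.1 (inQ_iff.2 b1.1), gi m⟩, by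
      rw [← H.mul _ m _ zK, ← H.mul _ zK _ m, mem_cent_iff.1 b.2], H.act hπ (H.rl m) e.symm⟩

end H18.BS
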