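import Mathlib
import Cfsg.Prelude.Def_KGroupFacts

/-! An automorphism with inner square of `U.2`, when `Out U` has order 6. -/

set_option autoImplicit false

namespace H18.BS.Out

open Cfsg Subgroup

theorem card_congr {G G' : Type*} [Group G] [Group G'] (e : G ≃* G') :
    Nat.card (Cfsg.Out G) = Nat.card (Cfsg.Out G') := by
  have : Inn G = (Inn G').comap (MulAut.congr e).toMonoidHom := by
    ext φ
    constructor
    · rintro ⟨g, rfl⟩
      exact ⟨e g, MulEquiv.ext fun x => by simp [MulAut.congr_apply]⟩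
    · rintro ⟨g, hg⟩
      refine ⟨e.symm g, MulEquiv.ext fun x => e.injective ?_⟩
      have := congrArg (fun ψ : MulAut G' => ψ (e x)) hg
      simpa [MulAut.congr_apply] using this
  change (Inn G).index = (Inn G').index
  rw [this]
  exact Subgroup.index_comap_of_surjective _ (MulAut.congr e).surjective

/-- in a group of order 6 a root of an element of `{1, t}` commuting with the involution `t` is
`1` or `t` -/
theorem six {X : Type*} [Group X] (h : Nat.card X = 6) {x t : X} (ht : t * t = 1) (h1 : t ≠ 1)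
    (hc : x * t = t * x) (hx : x * x = 1 ∨ x * x = t) : x = 1 ∨ x = t := by
  classical
  have : Finite X := Nat.finite_of_card_ne_zero (by omega)
  have := Fact.mk Nat.prime_two
  have ot : orderOf t = 2 := orderOf_eq_prime (by rw [sq, ht]) h1
  have x4 : x ^ 2 ^ 2 = 1 := by
    rw [show x ^ 2 ^ 2 = (x * x) * (x * x) by rw [show 2 ^ 2 = 2 + 2 from rfl, pow_add, sq]]
    rcases hx with e | e <;> rw [e]
    · exact one_mul _
    · exact ht
  have p1 : IsPGroup 2 (zpowers x) := by
    rintro ⟨_, k, rfl⟩
    exact ⟨2, Subtype.ext (by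
      change (x ^ k) ^ 2 ^ 2 = 1
      rw [← zpow_natCast, ← zpow_mul, mul_comm, zpow_mul, zpow_natCast, x4, one_zpow])⟩
  have p2 : IsPGroup 2 (zpowers t) := IsPGroup.of_card (n := 1) (by rw [Nat.card_zpowers, ot]; rfl)
  have p3 : IsPGroup 2 (zpowers x ⊔ zpowers t : Subgroup X) :=
    p1.to_sup_of_normal_right' p2 (zpowers_le.2 (centralizer_le_normalizer _ (by
      rintro _ ⟨k, rfl⟩
      exact ((show Commute x t from hc).zpow_right k).symm.eq)))
  obtain ⟨k, hk⟩ := IsPGroup.iff_card.1 p3
  have hd : 2 ^ k ∣ 6 := by rw [← hk, ← h]; exact card_subgroup_dvd_card _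
  have hle : Nat.card (zpowers x ⊔ zpowers t : Subgroup X) ≤ 2 := by
    rw [hk]
    rcases k with _ | _ | k
    · norm_num
    · norm_num
    · exact absurd ((Dvd.intro (2 ^ k) (by ring) : 4 ∣ 2 ^ (k + 1 + 1)).trans hd) (by norm_num)
  have e := eq_of_le_of_card_ge (le_sup_right : zpowers t ≤ zpowers x ⊔ zpowers t)
    (by rw [Nat.card_zpowers, ot]; exact hle)
  have hm : x ∈ zpowers t := e ▸ mem_sup_left (mem_zpowers x)
  rw [mem_zpowers_iff_mem_range_orderOf, ot] at hm
  simp only [Finset.mem_image, Finset.mem_range] at hm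
  obtain ⟨i, hi, rfl⟩ := hm
  interval_cases i <;> simp

theorem cent_two {S : Type*} [Group S] [Finite S] (U : Subgroup S) (hi : U.index = 2)
    [IsSimpleGroup U] (hp : ¬ (Nat.card U).Prime) : IsPGroup 2 (centralizer (U : Set S)) := by
  have hn : U.Normal := normal_of_index_eq_two hi
  have h1 : (centralizer (U : Set S)).subgroupOf U = ⊥ := by
    refine (inferInstance : ((centralizer (U : Set S)).subgroupOf U).Normal).eq_bot_or_eq_top.resolve_right
      fun e => hp ?_
    let _ : CommGroup U := { (inferInstance : Group U) with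
      mul_comm := fun a b => Subtype.ext (subgroupOf_eq_top.1 e b.2 a a.2) }
    exact IsSimpleGroup.prime_card
  refine fun c => ⟨1, Subtype.ext ?_⟩
  have m : (c : S) * c ∈ U := mul_self_mem_of_index_two hi _
  have : (⟨_, m⟩ : U) ∈ (centralizer (U : Set S)).subgroupOf U := mul_mem c.2 c.2
  rw [h1, mem_bot] at this
  simpa [sq] using congrArg Subtype.val this

theorem main {S : Type*} [Group S] [Finite S] (U : Subgroup S) (hi : U.index = 2) [IsSimpleGroup U]
    (hU : 2 < Nat.card U) (hc : centralizer (U : Set S) = ⊥) (ho : Nat.card (Cfsg.Out U) = 6)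
    (α : MulAut S) (h : ∃ s, ∀ γ, α (α γ) = s * γ * s⁻¹) :
    ∃ s, ∀ γ ∈ U, α γ = s * γ * s⁻¹ := by
  have hn : U.Normal := normal_of_index_eq_two hi
  have inv : ∀ β : MulAut S, ∀ γ ∈ U, β γ ∈ U := fun β => by
    let W : Subgroup S := U.comap β.toMonoidHom
    have hW : W.index = 2 := by
      rw [index_comap_of_surjective _ β.surjective, hi]
    have : W.Normal := normal_of_index_eq_two hW
    rcases (inferInstance : (W.subgroupOf U).Normal).eq_bot_or_eq_top with e | e
    · exfalso
      have h1 : W.relIndex U ∣ W.index := relIndex_dvd_index_of_normal W U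
      rw [relIndex, e, index_bot, hW] at h1
      have := Nat.le_of_dvd two_pos h1
      omega
    · exact fun γ hγ => subgroupOf_eq_top.1 e hγ
  let a : MulAut U :=
    { toFun := fun u => ⟨α u, inv α u u.2⟩
      invFun := fun u => ⟨α⁻¹ u, inv α⁻¹ u u.2⟩
      left_inv := fun u => Subtype.ext (by simp)
      right_inv := fun u => Subtype.ext (by simp)
      map_mul' := fun u v => Subtype.ext (by simp) }
  have ha : ∀ u : U, (a u : S) = α u := fun _ => rfl
  let π := QuotientGroup.mk' (Inn U)
  let c : S →* Cfsg.Out U := π.comp MulAut.conjNormal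
  have hcU : ∀ s, c s = 1 ↔ s ∈ U := fun s => by
    refine (QuotientGroup.eq_one_iff _).trans ⟨fun ⟨u, hu⟩ => ?_, fun hs => ⟨⟨s, hs⟩, ?_⟩⟩
    · have : (u : S)⁻¹ * s ∈ centralizer (U : Set S) := fun v hv => by
        have := congrArg (fun f : MulAut U => ((f ⟨v, hv⟩ : U) : S)) hu
        simp only [MulAut.conj_apply, coe_mul, InvMemClass.coe_inv, MulAut.conjNormal_apply] at this
        calc v * ((u : S)⁻¹ * s) = (u : S)⁻¹ * (u * v * (u : S)⁻¹) * s := by group
          _ = _ := by rw [this]; group
      rw [hc, mem_bot, inv_mul_eq_one] at this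
      exact this ▸ u.2
    · ext v
      simp
  obtain ⟨s0, hs0⟩ := index_eq_two_iff.1 hi
  have h0 : s0 ∉ U := fun hm => by
    rcases hs0 1 with ⟨-, e⟩ | ⟨-, e⟩
    · exact e (one_mem _)
    · exact e (by simpa using hm)
  have cases : ∀ s, s ∉ U → c s = c s0 := fun s hs => by
    have : s⁻¹ * s0 ∈ U := by
      rcases hs0 s⁻¹ with ⟨e, -⟩ | ⟨e, -⟩
      · exact e
      · exact absurd (inv_mem_iff.1 e) hs
    rw [← hcU, map_mul, map_inv, inv_mul_eq_one] at this
    exact this
  have key : π a = 1 ∨ π a = c s0 := by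
    refine six ho ?_ (fun e => h0 ((hcU _).1 e)) ?_ ?_
    · rw [← map_mul, hcU]
      exact mul_self_mem_of_index_two hi s0
    · have e1 : π a * c s0 = c (α s0) * π a := by
        change π a * π _ = π _ * π a
        rw [← map_mul, ← map_mul]
        congr 1
        ext v
        simp [ha]
      rw [e1, cases (α s0) fun hm => h0 (by simpa using inv α⁻¹ _ hm)]
    · obtain ⟨s, hs⟩ := h
      have e1 : π a * π a = c s := by
        change _ = π _
        rw [← map_mul]
        congr 1
        ext v
        simp [ha, hs]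
      rw [e1]
      by_cases hm : s ∈ U
      · exact Or.inl ((hcU s).2 hm)
      · exact Or.inr (cases s hm)
  have fin : ∀ s, π a = c s → ∃ s, ∀ γ ∈ U, α γ = s * γ * s⁻¹ := fun s e => by
    obtain ⟨u, hu⟩ : (MulAut.conjNormal s : MulAut U)⁻¹ * a ∈ Inn U :=
      QuotientGroup.eq.1 (show π _ = π a from e.symm)
    refine ⟨s * u, fun γ hγ => ?_⟩
    have e2 : a = MulAut.conjNormal s * MulAut.conj u := by rw [hu]; group
    have := congrArg (fun f : MulAut U => ((f ⟨γ, hγ⟩ : U) : S)) e2
    simp only [ha, MulAut.mul_apply, MulAut.conj_apply, coe_mul, InvMemClass.coe_inv,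
      MulAut.conjNormal_apply] at this
    rw [this]; group
  rcases key with e | e
  · exact fin 1 (e.trans (map_one c).symm)
  · exact fin s0 e

end H18.BS.Out
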