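import Cfsg.Agent.Lib.BStd.VA
import Cfsg.Agent.Lib.BStd.Outa
import Cfsg.Agent.S0283
import Cfsg.Agent.S1577
import Cfsg.Agent.S2603

set_option autoImplicit false

namespace H18.BS

open Cfsg H16 H95 H48.BR Subgroup H75.WC

namespace Out

/-- the subgroup `U6(2)` of the stabiliser of `tb` -/
noncomputable def U : Subgroup (MulAction.stabilizer C2 tb) :=
  (Stab vX).comap ((Stab vU).subtype.comp (MulAction.stabilizer C2 tb).subtype)

theorem mem_U {γ : MulAction.stabilizer C2 tb} : γ ∈ U ↔ ((γ : C2) : Co0) • vX = vX := Iff.rfl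

/-- identification with the joint stabiliser -/
noncomputable def eU : U ≃* ↥(Stab vU ⊓ Stab vX) where
  toFun γ := ⟨((γ : MulAction.stabilizer C2 tb) : C2), (γ.1.1).2, γ.2⟩
  invFun g := ⟨⟨⟨g, g.2.1⟩, fix_tb_iff.2 (Or.inl g.2.2)⟩, g.2.2⟩
  left_inv _ := rfl
  right_inv _ := rfl
  map_mul' _ _ := rfl

theorem card_U : Nat.card U = 9196830720 := (Nat.card_congr eU.toEquiv).trans card_U62

theorem X_ne : vX ≠ vU - vX := fun e => by
  have := congrArg (fun v : leechLattice => dotInt (vX : GolayPt → ℤ) (v : GolayPt → ℤ)) e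
  simp only [AddSubgroup.coe_sub, dotInt_sub_right] at this
  rw [dotInt_self, norm_X, dotInt_comm, dot_UX] at this
  omega

theorem index_U : U.index = 2 := by
  obtain ⟨g, g1, g2⟩ := co2_trans (x := vX) (y := vU - vX) (mem_Min.2 norm_X)
    (mem_Min.2 (by rw [AddSubgroup.coe_sub, sqNorm_sub, norm_U, norm_X, dot_UX]; norm_num))
    (by rw [AddSubgroup.coe_sub, dotInt_sub_right, dotInt_self, norm_U, dot_UX]; norm_num)
  let s : MulAction.stabilizer C2 tb := ⟨⟨g, g1⟩, fix_tb_iff.2 (Or.inr g2)⟩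
  refine index_eq_two_iff.2 ⟨s, fun b => ?_⟩
  have hb : ((b : C2) : Co0) • vU = vU := b.1.2
  have e : (((b * s : MulAction.stabilizer C2 tb) : C2) : Co0) • vX = vU - ((b : C2) : Co0) • vX := by
    change (((b : C2) : Co0) * g) • vX = _
    rw [mul_smul, g2, smul_sub, hb]
  rw [mem_U, mem_U, e]
  rcases fix_tb_iff.1 b.2 with h | h <;> rw [h]
  · exact Or.inr ⟨rfl, fun f => X_ne f.symm⟩
  · exact Or.inl ⟨sub_sub_cancel _ _, fun f => X_ne f.symm⟩

theorem exists_psu : ∃ (F : Type) (_ : Field F) (_ : Fintype F), Fintype.card F = 2 ^ 2 ∧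
    Nonempty (U ≃* PSU 6 F 2) := by
  have := Fact.mk Nat.prime_two
  let _ : Fintype (GaloisField 2 2) := Fintype.ofFinite _
  have hF : Fintype.card (GaloisField 2 2) = 2 ^ 2 := by
    rw [← Nat.card_eq_fintype_card, GaloisField.card 2 2 (by norm_num)]
  obtain ⟨e⟩ := Cfsg.Agent.S1577.result vU (-vX) norm_U
    (by rw [AddSubgroup.coe_neg, sqNorm_neg, norm_X])
    (by rw [AddSubgroup.coe_neg, dotInt_neg_right, dot_UX]) (GaloisField 2 2) hF
  have hs : Stab vU ⊓ Stab vX = MulAction.stabilizer Co0 vU ⊓ MulAction.stabilizer Co0 (-vX) := by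
    ext g
    simp [MulAction.mem_stabilizer_iff, smul_neg]
  exact ⟨_, inferInstance, inferInstance, hF, ⟨eU.trans ((MulEquiv.subgroupCongr hs).trans e)⟩⟩

theorem simple_U : IsSimpleGroup U := by
  obtain ⟨F, _, _, hF, ⟨e⟩⟩ := exists_psu
  have := Cfsg.Agent.S0283.result hF 6 (by norm_num) (by norm_num)
  exact e.isSimpleGroup

theorem out_card : Nat.card (Cfsg.Out U) = 6 := by
  have := Fact.mk Nat.prime_two
  obtain ⟨F, _, _, hF, ⟨e⟩⟩ := exists_psu
  obtain ⟨φ, h1, -, h2⟩ := Cfsg.Agent.S2603.result (K := F) (p := 2) (f := 1) (q := 2) (n := 6) le_rfl rfl hF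
    (by norm_num) (by norm_num)
  rw [card_congr e, ← φ.ker.index_mul_card, h2, index_ker, MonoidHom.range_eq_top.2 h1, card_top]
  simp

theorem cent_U : centralizer (U : Set (MulAction.stabilizer C2 tb)) = ⊥ := by
  have hs := simple_U
  have hn : U.Normal := normal_of_index_eq_two index_U
  have h2 := cent_two U index_U (by rw [card_U]; norm_num)
  have hc : (centralizer (U : Set (MulAction.stabilizer C2 tb))).Normal := inferInstance
  generalize centralizer (U : Set (MulAction.stabilizer C2 tb)) = C at h2 hc ⊢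
  have := normal_S (A := C.map (MulAction.stabilizer C2 tb).subtype) (h2.map _)
    (by rintro _ ⟨c, -, rfl⟩; exact c.2) (by
      rintro s h _ ⟨c, hm, rfl⟩
      exact ⟨⟨s, h⟩ * c * ⟨s, h⟩⁻¹, hc.conj_mem c hm _, rfl⟩)
  rwa [Subgroup.map_eq_bot_iff, ker_subtype, le_bot_iff] at this

end Out

/-- an automorphism of `U6(2).2` with inner square is inner on `U6(2)` -/
theorem out_U (α : MulAut (MulAction.stabilizer C2 tb))
    (h : ∃ s, ∀ γ, α (α γ) = s * γ * s⁻¹) :
    ∃ s, ∀ γ : MulAction.stabilizer C2 tb, ((γ : C2) : Co0) • vX = vX → α γ = s * γ * s⁻¹ :=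
  have := Out.simple_U
  Out.main Out.U Out.index_U (by rw [Out.card_U]; norm_num) Out.cent_U Out.out_card α h

end H18.BS
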