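import Cfsg.Agent.Lib.BStd.V

/-!
# Sign changes on the module of Co2, and the proofs of the package VB (helper27)
-/

set_option autoImplicit false
set_option maxRecDepth 100000

namespace H18.BS.VB

open Cfsg H16 H95 H48.BR Subgroup H75.WC
open scoped Pointwise

theorem U_eq : vU = pp none (some 0) := Subtype.ext (by decide +kernel)

theorem eps_pp {c : Finset GolayPt} (hc : c ∈ code) {i j : GolayPt} (hi : i ∉ c) :
    eps c hc • pp i j = if j ∈ c then pm i j else pp i j := Subtype.ext (funext fun k => by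
  rw [eps_smul_apply]
  by_cases h1 : k = i <;> by_cases h2 : k = j <;> by_cases h3 : j ∈ c <;>
    simp_all [pp_apply, pm_apply])

/-- a sign change in Co2 -/
noncomputable def epsC {c : Finset GolayPt} (hc : c ∈ code) (h1 : none ∉ c) (h2 : some 0 ∉ c) : C2 :=
  ⟨eps c hc, by rw [mem_Stab, U_eq, eps_pp hc h1, if_neg h2]⟩

theorem eps_xx {ε : C2} {c : Finset GolayPt} {hc : c ∈ code} (e : (ε : Co0) = eps c hc) (i : GolayPt) :
    ε • xx i = if i ∈ c then xx i + bb else xx i := by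
  have h1 : none ∉ c := fun h => by
    have := congrArg (fun v : leechLattice => (v : GolayPt → ℤ) none) (MulAction.mem_stabilizer_iff.1 ε.2)
    simp only [e, eps_smul_apply, if_pos h, U_eq, pp_apply] at this
    simp at this
  rw [xx, smul_mk _ (pp_pp _ _), e, eps_pp hc h1]
  split_ifs
  exacts [mk_pm _ _, rfl]

theorem eps_or {ε : C2} (h : Eps ε) (i : GolayPt) : ε • xx i = xx i ∨ ε • xx i = xx i + bb := by
  obtain ⟨c, hc, e⟩ := h
  rw [eps_xx e]; split_ifs; exacts [Or.inr rfl, Or.inl rfl]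

theorem eps_one {ε : C2} (h : Eps ε) (h1 : ∀ i, ε • xx i = xx i) : ε = 1 := by
  obtain ⟨c, hc, e⟩ := h
  obtain rfl : c = ∅ := Finset.eq_empty_of_forall_notMem fun i hi =>
    tb_bb.ne (left_eq_add.1 ((h1 i).symm.trans ((eps_xx e i).trans (if_pos hi))))
  exact Subtype.ext (e.trans eps_empty)

theorem eps_inv {ε : C2} (h : Eps ε) : ε⁻¹ = ε := inv_eq_of_mul_eq_one_right h.sq

/-- commutators are orthogonal to fixed vectors -/
theorem be_comm_fix {γ : C2} {a : V} (h : γ • a = a) (c : V) : be a (γ • c + c) = 0 := by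
  rw [be_add_right]
  nth_rewrite 1 [← h]
  rw [be_smul, CharTwo.add_self_eq_zero]

/-- the vector with the given bits -/
def vM (m : ℕ) : V := fun i => if m.testBit i then 1 else 0

/-- the coordinates of a coded lattice vector -/
noncomputable def mkM (a : ℕ) : ℕ :=
  H15.maskF (fun i => decide (dotC a (H54.nth BV ((i + 11) % 22)) % 16 = 8)) 22

theorem vM_xor (a b : ℕ) : vM (a ^^^ b) = vM a + vM b := funext fun i => by
  simp only [vM, Nat.testBit_xor, Pi.add_apply]
  cases a.testBit i <;> cases b.testBit i <;> decide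

theorem vM_zero : vM 0 = 0 := funext fun i => by simp [vM]

theorem mk_code {a : ℕ} {v : leechLattice} (h : Code a v) : mk v = vM (mkM a) := funext fun i => by
  have e := h.dot (code_lv (bv_spec (i + 11)).1)
  have d := eight_dvd_dotInt v.2 (bv (i + 11)).2
  rw [mk_apply, vM, mkM, H15.testBit_maskF, show ((i : ℕ) + 11) % 22 = (i + 11 : Fin 22) from rfl, ← e]
  simp only [i.2, decide_true, Bool.true_and, decide_eq_true_eq]
  unfold bv at *
  split_ifs
  · exact d8_eq_one.2 (by omega)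
  · exact d8_eq_zero.2 (by omega)

/-- code of an odd minimal vector -/
def oC : ℕ := 0x13000f0011000f0011000f00110011000f0011000f000f001100110011001100110011001100110011000f00110011
/-- twenty code words -/
def ML : List ℕ := [7221256, 5210132, 2207772, 6475812, 843820, 2969648, 3698756, 5652556, 7860304, 1687640, 5939296,
  2019456, 7397512, 5329044, 8126628, 2531524, 4038912, 8077824, 6644740, 3610628]
/-- the commutators -/
def XL : List ℕ := [2409085, 3427189, 1314092, 1341100, 3421657, 3451029, 2396525, 2123748, 2387940, 2366761, 283413,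
  2387583, 811222, 1601782, 1892531, 291470, 2398076, 2409833, 3695375, 1276338]
/-- the combinations -/
def SL : List ℕ := [0, 58664, 12961, 222437, 379173, 21263, 20680, 357128, 209632, 327376, 14261, 14176, 21621, 36096,
  151841, 24828, 622660, 0, 14048, 182189, 410, 25930]

/-- the class of an odd vector -/
noncomputable def oo : V := mk (lv oC)

theorem code_o : Code oC (lv oC) := code_lv (by decide +kernel)

theorem norm_o : sqNorm (lv oC : GolayPt → ℤ) = 32 := code_o.norm.trans (by decide +kernel)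

theorem dot_Uo : dotInt (vU : GolayPt → ℤ) (lv oC : GolayPt → ℤ) = 16 := (code_U.dot code_o).trans (by decide +kernel)

theorem dot_oX : dotInt (lv oC : GolayPt → ℤ) (vX : GolayPt → ℤ) = 16 := (code_o.dot code_X).trans (by decide +kernel)

theorem pp_o : Pp (lv oC) := pp_of_dot (k := 1) dot_Uo

theorem tb_eq : tb = vM 3455040 := (mk_code code_X).trans (congrArg vM (by decide +kernel))

theorem bb_eq : bb = vM 96 := (mk_code (code_e8C (i := 23) (by norm_num))).trans (congrArg vM (by decide +kernel))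

theorem oo_eq : oo = vM 2463597 := (mk_code code_o).trans (congrArg vM (by decide +kernel))

theorem be_oo_bb : be oo bb = 1 := by rw [oo_eq, bb_eq, be_apply]; decide +kernel

theorem om_oo : Om oo :=
  ⟨⟨_, norm_o, dot_Uo, rfl⟩, by rw [oo_eq, tb_eq, be_apply]; decide +kernel, by rw [oo_eq, tb_eq]; decide +kernel⟩

theorem tb_oo : TB (oo + tb) :=
  ⟨lv oC - vX, by rw [mem_Min, AddSubgroup.coe_sub, sqNorm_sub, norm_o, norm_X, dot_oX]; norm_num, by
    rw [AddSubgroup.coe_sub, dotInt_sub_right, dot_Uo, dot_UX, sub_self], mk_sub _ _⟩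

theorem ml_chk : (∀ m ∈ ML, H15.isCode m = true ∧ m.testBit 23 = false ∧ m.testBit 0 = false ∧ m.testBit 1 = false) ∧
    ML.map (fun m => mkM (app (matR (epsM m)) oC) ^^^ 2463597) = XL := by decide +kernel

theorem sl_chk : ∀ j : Fin 22, vM (H15.encL XL (SL.getD j 0)) =
    Pi.single j 1 + vM 3455040 (j + 11) • vM 1 + vM 96 (j + 11) • vM 131073 := by decide +kernel

/-- the commutators of one odd class with the sign changes fixing `tb` span `⟨tb, bb⟩^⊥` -/
theorem span20 {K : AddSubgroup V} (h : ∀ ε : C2, Eps ε → ε • tb = tb → ε • oo + oo ∈ K) {a : V}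
    (h1 : be a tb = 0) (h2 : be a bb = 0) : a ∈ K := by
  have k1 : ∀ x ∈ XL, vM x ∈ K := by
    rw [← ml_chk.2]
    intro x hx
    obtain ⟨m, hm, rfl⟩ := List.mem_map.1 hx
    obtain ⟨c1, c2, c3, c4⟩ := ml_chk.1 m hm
    have n : ∀ p, m.testBit (H15.idx p) = false → p ∉ H15.ofMask m := fun p e => by simp [e]
    have := h (epsC (H15.ofMask_mem_of_isCode c1) (n _ c2) (n _ c3)) ⟨_, H15.ofMask_mem_of_isCode c1, rfl⟩
      (by rw [← xx_one, eps_xx (hc := H15.ofMask_mem_of_isCode c1) rfl, if_neg (n (some 1) c4)])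
    rwa [oo, smul_mk _ pp_o, epsC, mk_code ((isM_eps c1).isR.app code_o (by rw [norm_o]; norm_num)), ← oo, oo_eq,
      ← vM_xor] at this
  have k2 : ∀ a : V, a + be a tb • vM 1 + be a bb • vM 131073 ∈ K := fun a => by
    induction a using Pi.single_induction with
    | zero => simp
    | add f g hf hg =>
      convert K.add_mem hf hg using 1
      rw [be_add_left, be_add_left, add_smul, add_smul]; abel
    | single j s =>
      rcases z2 s with rfl | rfl
      · simp
      · have e : ∀ c, be (Pi.single j 1) c = c (j + 11) := fun c => by simp [be_apply, Pi.single_apply]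
        rw [e, e, tb_eq, bb_eq, ← sl_chk]
        exact H15.encL_induction (P := fun x => vM x ∈ K) (vM_zero ▸ K.zero_mem)
          (fun a b ha hb => vM_xor a b ▸ K.add_mem ha hb) XL k1 _
  simpa [h1, h2] using k2 a

theorem fix_R0 {a : V} (h : ∀ ε : C2, Eps ε → ε • tb = tb → ε • a = a) :
    a = 0 ∨ a = tb ∨ a = bb ∨ a = tb + bb :=
  mem_two fun _ h1 h2 => (be_comm _ _).trans (span20 (K := (be a).toAddMonoidHom.ker)
    (fun ε h1 h2 => be_comm_fix (h ε h1 h2) oo) ((be_comm _ _).trans h1) ((be_comm _ _).trans h2))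

theorem om_span {K : AddSubgroup V} (h : ∀ a, Om a → a ∈ K) {a : V} (ha : be a tb = 0) : a ∈ K := by
  have k := fun a => span20 (K := K) (a := a) fun ε _ h2 => K.add_mem (h _ (om_oo.smul h2)) (h _ om_oo)
  rcases z2 (be a bb) with e | e
  · exact k a ha e
  · have := K.add_mem (k (a + oo) (by rw [be_add_left, ha, om_oo.2.1, add_zero])
      (by rw [be_add_left, e, be_oo_bb]; rfl)) (h _ om_oo)
    rwa [add_assoc, add_self, add_zero] at this

/-- the sign changes fixing `tb` -/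
def R0 : Subgroup C2 where
  carrier := {ε | Eps ε ∧ ε • tb = tb}
  one_mem' := ⟨epsGroup.one_mem, one_smul _ _⟩
  mul_mem' h1 h2 := ⟨h1.1.mul h2.1, by rw [mul_smul, h2.2, h1.2]⟩
  inv_mem' h := (eps_inv h.1).symm ▸ h

theorem R0_two : IsPGroup 2 R0 := fun ε => ⟨1, Subtype.ext ((pow_two _).trans ε.2.1.sq)⟩

theorem om_odd : Odd {a | Om a}.ncard := by
  let S : SubMulAction R0 V := ⟨{a | Om a}, fun γ a h => h.smul γ.2.2⟩
  have h := R0_two.card_modEq_card_fixedPoints S
  have e : Nat.card (MulAction.fixedPoints R0 S) = 1 := Nat.card_eq_one_iff_exists.2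
    ⟨⟨⟨tb + bb, om_bb⟩, fun ε => Subtype.ext ((smul_add (ε : C2) tb bb).trans (by rw [ε.2.2, ε.2.1.bb]))⟩,
      fun a => Subtype.ext (Subtype.ext (by
        have o : Om a.1.1 := a.1.2
        rcases fix_R0 (a := a.1.1) fun ε h1 h2 => congrArg Subtype.val (a.2 ⟨ε, h1, h2⟩) with f | f | f | f
        · exact absurd f o.1.ne
        · exact absurd f o.2.2
        · exact absurd (f ▸ tb_bb) o.1.not_tb
        · exact f))⟩
  rw [e] at h
  exact Nat.odd_iff.2 h

theorem no_off {A : Subgroup C2} (hA : ∀ γ ∈ A, Eps γ) {K : AddSubgroup V} (hK : ∀ γ ∈ A, ∀ a ∈ K, γ • a = a)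
    (hc : 2 ^ 22 ≤ Nat.card K * Nat.card A) : A = ⊥ := by
  by_contra hn
  obtain ⟨⟨ε, hε⟩, h1⟩ := (A.ne_bot_iff_exists_ne_one).1 hn
  have m : ∀ γ ∈ A, ∀ c, γ • c + c ∈ perp K := fun γ hγ c x hx => be_comm_fix (hK γ hγ x hx) c
  have k : ∀ γ ∈ A, (∀ i, be (xx i) (γ • oo + oo) = 0) → γ = 1 := fun γ hγ h => eps_one (hA γ hγ) fun i =>
    (eps_or (hA γ hγ) i).resolve_right fun e => by
      have := h i
      rw [be_add_right, ← be_smul γ, e, ← mul_smul, (hA γ hγ).sq, one_smul, be_add_left, be_comm bb, be_oo_bb,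
        add_right_comm, CharTwo.add_self_eq_zero] at this
      exact absurd this (by decide)
  have b : bb ∈ perp K := by
    obtain ⟨i, hi⟩ := not_forall.1 fun h => h1 (Subtype.ext (eps_one (hA ε hε) h))
    have := m ε hε (xx i)
    rwa [(eps_or (hA ε hε) i).resolve_left hi, add_right_comm, add_self, zero_add] at this
  let f : A → perp K := fun γ => ⟨_, m γ γ.2 oo⟩
  have fi : Function.Injective f := fun γ δ e => by
    have e1 : (γ : C2) • oo = (δ : C2) • oo := add_right_cancel (congrArg Subtype.val e)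
    exact (inv_mul_eq_one.1 (Subtype.ext (k _ (δ⁻¹ * γ).2 fun i => by
      rw [coe_mul, mul_smul, e1, coe_inv, inv_smul_smul, add_self, map_zero]))).symm
  have fn : (⟨bb, b⟩ : perp K) ∉ Set.range f := fun ⟨γ, e⟩ => by
    have e1 : (γ : C2) • oo + oo = bb := congrArg Subtype.val e
    have := k γ γ.2 fun i => by rw [e1, be_xx_bb]
    rw [this, one_smul, add_self] at e1
    exact tb_bb.ne e1.symm
  have := Fintype.ofFinite A
  have := Fintype.ofFinite (perp K)
  have l := Fintype.card_lt_of_injective_of_notMem f fi fn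
  rw [← Nat.card_eq_fintype_card, ← Nat.card_eq_fintype_card] at l
  have := card_perp K
  have : 0 < Nat.card K := Nat.card_pos
  nlinarith

theorem irr0 {K : AddSubgroup V} (h : ∀ γ : C2, ∀ a ∈ K, γ • a ∈ K) (hn : K ≠ ⊥) {a : V} (ha : TB a) : a ∈ K := by
  let S : SubMulAction R0 V := ⟨K, fun γ a e => h γ a e⟩
  let _ : MulAction R0 S := S.mulAction
  have d : 2 ∣ Nat.card S := by
    obtain ⟨k, -, e⟩ := (Nat.dvd_prime_pow Nat.prime_two).1 (Dvd.intro _ (card_perp K))
    show 2 ∣ Nat.card K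
    rw [e]
    exact dvd_pow_self 2 fun f => hn (AddSubgroup.card_eq_one.1 (by rw [e, f, pow_zero]))
  obtain ⟨b, hb, ne⟩ := R0_two.exists_fixed_point_of_prime_dvd_card_of_fixed_point S d (a := ⟨0, K.zero_mem⟩)
    fun ε => Subtype.ext (smul_zero (ε : C2))
  have m : b.1 ∈ K := b.2
  have t : ∀ c ∈ K, TA c → bb ∈ K := fun c hc h1 => by
    obtain ⟨γ, e⟩ := ta_trans h1 ta_tb
    obtain ⟨δ, f⟩ := ta_trans h1 om_bb.1
    have := K.add_mem (e ▸ h γ c hc) (f ▸ h δ c hc)
    rwa [← add_assoc, add_self, zero_add] at this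
  obtain ⟨γ, rfl⟩ := tb_trans tb_bb ha
  refine h γ _ ?_
  rcases fix_R0 (a := b.1) fun ε h1 h2 => congrArg Subtype.val (hb ⟨ε, h1, h2⟩) with f | f | f | f
  · exact absurd (Subtype.ext f.symm) ne
  · exact t _ m (f ▸ ta_tb)
  · exact f ▸ m
  · exact t _ m (f ▸ om_bb.1)

theorem irr {K : AddSubgroup V} (h : ∀ γ : C2, ∀ a ∈ K, γ • a ∈ K) : K = ⊥ ∨ K = ⊤ := by
  by_contra hn
  rw [not_or] at hn
  have h2 : perp K ≠ ⊥ := fun e => hn.2 (eq_top_iff.2 fun a _ => mem_of_perp fun c hc => by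
    rw [AddSubgroup.mem_bot.1 (e ▸ hc : c ∈ (⊥ : AddSubgroup V)), map_zero]; rfl)
  have := irr0 (K := perp K) (fun γ a ha x hx => by
    rw [be_comm, be_smul_left, be_comm]; exact ha _ (h _ x hx)) h2 tb_bb _ (irr0 h hn.1 tb_oo)
  rw [be_add_left, be_oo_bb, be_tb_bb] at this
  exact absurd this (by decide)

theorem four_shape {v : leechLattice} (hv : v ∈ H16.Min) (h : (v : GolayPt → ℤ) none = 4) :
    ∃ j, none ≠ j ∧ ∃ s : ℤ, (s = 1 ∨ s = -1) ∧ (v : GolayPt → ℤ) = v44 none j 1 s := by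
  rcases min_shape v.2 hv with ⟨i, j, ne, s, t, hs, ht, e⟩ | ⟨o, -, s, -, -, e⟩ | ⟨c, -, j, e⟩
  · rw [e, v44_apply] at h
    by_cases h1 : none = i
    · subst h1
      rw [if_pos rfl, if_neg ne] at h
      exact ⟨j, ne, t, ht, by rw [e, show s = 1 by omega]⟩
    · by_cases h2 : none = j
      · subst h2
        rw [if_pos rfl, if_neg h1] at h
        exact ⟨i, h1, s, hs, by rw [e, show t = 1 by omega, v44_comm]⟩
      · rw [if_neg h1, if_neg h2] at h; omega
  · rw [e, oct_apply] at h; split_ifs at h <;> omega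
  · rw [e, odd_apply] at h; split_ifs at h <;> omega

theorem tri {w : leechLattice} (hw : w ∈ H16.Min) (h1 : dotInt (vU : GolayPt → ℤ) (w : GolayPt → ℤ) = 16)
    (h2 : dotInt (vX : GolayPt → ℤ) (w : GolayPt → ℤ) = 0) :
    ∃ g : Co0, g • vU = vU ∧ g • vX = vX ∧ g • w = pm none (some 1) := by
  obtain ⟨g, hg⟩ := exists_smul_e8 (x := vX + w) (by
    rw [AddSubgroup.coe_add, sqNorm_add, norm_X, mem_Min.1 hw, h2]; norm_num)
  have k : ∀ v : leechLattice, 8 * ((g⁻¹ • v : leechLattice) : GolayPt → ℤ) none =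
      dotInt (vX : GolayPt → ℤ) (v : GolayPt → ℤ) + dotInt (w : GolayPt → ℤ) (v : GolayPt → ℤ) := fun v => by
    rw [← dotInt_single_left, ← coe_e8, ← dotInt_co0_left, hg, AddSubgroup.coe_add, H16.dotInt_add_left]
  obtain ⟨j, hj, s, hs, ej⟩ := four_shape (smul_mem_Min g⁻¹ norm_X) (by
    have := k vX
    rw [dotInt_self, norm_X, dotInt_comm, h2] at this; omega)
  obtain ⟨l, hl, r, hr, el⟩ := four_shape (smul_mem_Min g⁻¹ norm_U) (by
    have := k vU
    rw [dotInt_comm, dot_UX, dotInt_comm, h1] at this; omega)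
  have ne : l ≠ j := by
    rintro rfl
    have := (dotInt_co0 g⁻¹ vU vX).trans dot_UX
    rw [el, ej, dotInt_v44, v44_apply, v44_apply, if_pos rfl, if_neg hl, if_neg hl.symm, if_pos rfl] at this
    rcases hs with rfl | rfl <;> omega
  obtain ⟨π, hπ, p1, p2, p3⟩ := H15.M24_trans3 (a' := none) (b' := some 0) (c' := some 1) hl hj ne
    (by decide) (by decide) (by decide)
  obtain ⟨c, hc, ec⟩ := exists_code_inter_eq_of_card_lt {none, some 0, some 1}
    (Finset.filter (fun p => (p = some 0 ∧ r = -1) ∨ (p = some 1 ∧ s = -1)) {none, some 0, some 1})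
    (Finset.filter_subset _ _) (by decide)
  have mc : ∀ p ∈ ({none, some 0, some 1} : Finset GolayPt),
      p ∈ c ↔ (p = some 0 ∧ r = -1) ∨ (p = some 1 ∧ s = -1) := fun p hp => by
    have := Finset.ext_iff.1 ec p
    rw [Finset.mem_inter, Finset.mem_filter] at this
    tauto
  have c1 : none ∉ c := by rw [mc _ (by decide)]; simp
  have c2 : some 0 ∈ c ↔ r = -1 := by
    rw [mc _ (by decide)]; simp [show (0 : ZMod 23) ≠ 1 by decide]
  have c3 : some 1 ∈ c ↔ s = -1 := by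
    rw [mc _ (by decide)]; simp [show (1 : ZMod 23) ≠ 0 by decide]
  have eX : (mono π hπ c hc * g⁻¹) • vX = vX := Subtype.ext (by
    rw [mul_smul, coe_mono_smul, ej, signedPerm_v44, p1, p3, if_neg c1, X_eq, if_congr c3 rfl rfl]
    rcases hs with rfl | rfl <;> rfl)
  refine ⟨mono π hπ c hc * g⁻¹, Subtype.ext ?_, eX, ?_⟩
  · rw [mul_smul, coe_mono_smul, el, signedPerm_v44, p1, p2, if_neg c1, U_eq, if_congr c2 rfl rfl]
    rcases hr with rfl | rfl <;> rfl
  · have : (mono π hπ c hc * g⁻¹) • (vX + w) = e8 none := by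
      rw [← hg, mul_smul, inv_smul_smul, mono_smul_e8, p1, if_neg c1]
    rw [smul_add, eX, X_eq, ← pp_add_pm none (some 1)] at this
    exact add_left_cancel this

theorem om_trans {a : V} (h : Om a) : ∃ γ : C2, (γ : Co0) • vX = vX ∧ γ • a = tb + bb := by
  obtain ⟨⟨w, hw, h1, rfl⟩, h2, h3⟩ := h
  have k : ∀ w ∈ H16.Min, dotInt (vU : GolayPt → ℤ) (w : GolayPt → ℤ) = 16 →
      dotInt (vX : GolayPt → ℤ) (w : GolayPt → ℤ) = 0 → ∃ γ : C2, (γ : Co0) • vX = vX ∧ γ • mk w = tb + bb :=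
    fun w hw h1 h2 => by
      obtain ⟨g, e1, e2, e3⟩ := tri hw h1 h2
      exact ⟨⟨g, e1⟩, e2, by rw [smul_mk _ (pp_of_dot (k := 1) h1), e3, mk_pm, tb, X_eq]⟩
  have eU : ∀ v, mk (vU - v) = mk v := fun v => by rw [mk_sub, mk_U, zero_add]
  rw [tb, be_mk (pp_of_dot (k := 1) h1) pp_X, d8_comm, d8_eq_zero] at h2
  rw [mem_Min] at hw
  have n1 := le_sqNorm (vX - w).2 fun e => h3 (congrArg mk (sub_eq_zero.1 (Subtype.ext e)).symm)
  have n2 := le_sqNorm (vU - vX - w).2 fun e => h3 ((congrArg mk (sub_eq_zero.1 (Subtype.ext e)).symm).trans (eU _))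
  simp only [AddSubgroup.coe_sub, sqNorm_sub, dotInt_sub_left, norm_X, norm_U, dot_UX, hw, h1] at n1 n2
  rcases (by omega : dotInt (vX : GolayPt → ℤ) (w : GolayPt → ℤ) = 0 ∨
    dotInt (vX : GolayPt → ℤ) (w : GolayPt → ℤ) = 16) with e | e
  · exact k w hw h1 e
  · rw [← eU]
    exact k _ (by rw [mem_Min, AddSubgroup.coe_sub, sqNorm_sub, norm_U]; omega)
      (by rw [AddSubgroup.coe_sub, dotInt_sub_right, dotInt_self, norm_U]; omega)
      (by rw [AddSubgroup.coe_sub, dotInt_sub_right, dotInt_comm, dot_UX]; omega)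

theorem gen {H : Subgroup C2} (hS : ∀ γ : C2, γ • tb = tb → γ ∈ H) {ρ : C2} (hρ : ρ ∈ H) (h : Om (ρ • tb)) :
    H = ⊤ := by
  have s1 : ∀ a, Om a → ∃ η ∈ H, η • tb = a := fun a ha => by
    obtain ⟨γ, h1, e1⟩ := om_trans ha
    obtain ⟨δ, h2, e2⟩ := om_trans h
    exact ⟨γ⁻¹ * δ * ρ, H.mul_mem (H.mul_mem (H.inv_mem (hS _ (fix_tb h1))) (hS _ (fix_tb h2))) hρ, by
      rw [mul_smul, mul_smul, e2, ← e1, inv_smul_smul]⟩
  have s2 : ∀ a, TA a → be a tb = 0 → ∃ η ∈ H, η • tb = a := fun a ha e => by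
    by_cases f : a = tb
    exacts [⟨1, H.one_mem, (one_smul _ _).trans f.symm⟩, s1 a ⟨ha, e, f⟩]
  have s3 : ∀ a, TA a → ∃ η ∈ H, η • tb = a := fun a ha => by
    by_cases f : ∃ x, Om x ∧ be a x = 0
    · obtain ⟨x, hx, e⟩ := f
      obtain ⟨η, h1, rfl⟩ := s1 x hx
      obtain ⟨δ, h2, e2⟩ := s2 (η⁻¹ • a) (ha.smul _) (by rw [be_smul_left, inv_inv, e])
      exact ⟨η * δ, H.mul_mem h1 h2, by rw [mul_smul, e2, smul_inv_smul]⟩
    · have o : ∀ x, Om x → be a x = 1 := fun x hx => (z2 _).resolve_left fun e => f ⟨x, hx, e⟩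
      exact s2 a ha (span20 (K := (be a).toAddMonoidHom.ker) (fun ε _ h2 => (be_add_right _ _ _).trans (by
        rw [o _ (om_oo.smul h2), o _ om_oo]; rfl)) (be_self _) be_tb_bb)
  refine eq_top_iff.2 fun γ _ => ?_
  obtain ⟨η, h1, e⟩ := s3 _ (ta_tb.smul γ)
  have := H.mul_mem h1 (hS (η⁻¹ * γ) (by rw [mul_smul, ← e, inv_smul_smul]))
  rwa [mul_inv_cancel_left] at this

theorem fix_X {γ : C2} (h : γ • tb = tb) : (γ : Co0) • vX = vX ∨ (γ : Co0) • vX = vU - vX :=
  ta_eq (smul_mem_Min _ norm_X) norm_X ((dot_U_smul γ vX).trans dot_UX) dot_UX ((smul_mk γ pp_X).symm.trans h)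

theorem U_zero {i : GolayPt} : (vU : GolayPt → ℤ) i = 0 ↔ Pt i := by
  rw [U_eq, pp_apply, Pt]; split_ifs with h1 h2 h2 <;> simp [h1, h2]

theorem mono_pt {γ : C2} {σ : Equiv.Perm GolayPt} {hσ : σ ∈ M24} {c : Finset GolayPt} {hc : c ∈ code}
    (e : (γ : Co0) = mono σ hσ c hc) {i : GolayPt} : Pt (σ i) ↔ Pt i := by
  have := mono_smul_apply hσ hc vU i
  rw [← e, MulAction.mem_stabilizer_iff.1 γ.2] at this
  rw [← U_zero, ← U_zero, this]; split_ifs <;> simp

theorem mono_one {γ : C2} {σ : Equiv.Perm GolayPt} {hσ : σ ∈ M24} {c : Finset GolayPt} {hc : c ∈ code}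
    (e : (γ : Co0) = mono σ hσ c hc) (h : γ • tb = tb) : σ (some 1) = some 1 := by
  by_contra n
  have p := (mono_pt e).2 pt_one
  have := mono_smul_apply hσ hc vX (some 1)
  have z : (vX : GolayPt → ℤ) (σ (some 1)) = 0 := by rw [X_eq, pp_apply, if_neg p.1, if_neg n]; rfl
  have o : (vX : GolayPt → ℤ) (some 1) = 4 := by rw [X_eq, pp_apply]; rfl
  rw [← e, o] at this
  rcases fix_X h with f | f
  · rw [f, z] at this; split_ifs at this <;> omega
  · rw [f, AddSubgroup.coe_sub, Pi.sub_apply, z, U_zero.2 p] at this; split_ifs at this <;> omega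

theorem perm_pp (π : M24) (i j : GolayPt) :
    permHom π • pp i j = pp ((π : Equiv.Perm GolayPt) i) ((π : Equiv.Perm GolayPt) j) :=
  Subtype.ext (funext fun k => by simp only [permHom_smul_apply', pp_apply, Equiv.Perm.inv_eq_iff_eq])

theorem normal_Sb {A : Subgroup C2} (h2 : IsPGroup 2 A) (hA : ∀ γ ∈ A, γ • tb = tb ∧ γ • bb = bb)
    (hn : ∀ s : C2, s • tb = tb → s • bb = bb → ∀ γ ∈ A, s * γ * s⁻¹ ∈ A) : ∀ γ ∈ A, Eps γ := by
  obtain ⟨ρ, hρ⟩ := exists_monoPerm
  let ψ : A →* monoGroup := ((Stab vU).subtype.comp A.subtype).codRestrict _ fun γ => fix_bb_iff.1 (hA γ γ.2).2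
  have k : ∀ γ : A, ∃ c, ∃ hc : c ∈ code, ((γ : C2) : Co0) = mono (ρ (ψ γ)) (ρ (ψ γ)).2 c hc := fun γ => by
    obtain ⟨σ, hσ, c, hc, e⟩ := (ψ γ).2
    rw [show ψ γ = ⟨mono σ hσ c hc, mono_mem hσ hc⟩ from Subtype.ext e, hρ]
    exact ⟨c, hc, e⟩
  have k1 : ∀ γ : A, (ρ (ψ γ) : Equiv.Perm GolayPt) (some 1) = some 1 := fun γ =>
    let ⟨_, _, e⟩ := k γ; mono_one e (hA γ γ.2).1
  have kp : ∀ (γ : A) i, Pt ((ρ (ψ γ) : Equiv.Perm GolayPt) i) ↔ Pt i := fun γ i => let ⟨_, _, e⟩ := k γ; mono_pt e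
  let _ : MulAction A GolayPt := MulAction.compHom GolayPt (ρ.comp ψ)
  let S : SubMulAction A GolayPt := ⟨{i | Pt i ∧ i ≠ some 1}, fun γ i h => ⟨(kp γ i).2 h.1, fun e =>
    h.2 ((ρ (ψ γ) : Equiv.Perm GolayPt).injective (e.trans (k1 γ).symm))⟩⟩
  have cS : Nat.card S = 21 := by
    show Nat.card {i : GolayPt // (i ≠ none ∧ i ≠ some 0) ∧ i ≠ some 1} = 21
    rw [Nat.card_eq_fintype_card]; decide
  obtain ⟨⟨i, hi⟩, fi⟩ := h2.nonempty_fixed_point_of_prime_not_dvd_card S (by rw [cS]; norm_num)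
  have f1 : ∀ γ : A, (ρ (ψ γ) : Equiv.Perm GolayPt) i = i := fun γ => congrArg Subtype.val (fi γ)
  intro γ hγ
  have f2 : ∀ j, Pt j → (ρ (ψ ⟨γ, hγ⟩) : Equiv.Perm GolayPt) j = j := fun j hj => by
    by_cases e : j = some 1
    · rw [e, k1]
    obtain ⟨π, hπ, p1, p2, p3, p4⟩ := H15.M24_trans4 (a := none) (b := some 0) (c := some 1) (by decide) (by decide)
      hj.1.symm (by decide) hj.2.symm (Ne.symm e) (a' := none) (b' := some 0) (c' := some 1) (by decide) (by decide)
      hi.1.1.symm (by decide) hi.1.2.symm hi.2.symm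
    let s : C2 := ⟨permHom ⟨π, hπ⟩, by rw [mem_Stab, U_eq, perm_pp, p1, p2]⟩
    have := f1 ⟨_, hn s (fix_tb (by rw [X_eq, perm_pp, p1, p3])) (fix_bb_iff.2 (permHom_mem _)) γ hγ⟩
    rw [show ψ ⟨s * γ * s⁻¹, _⟩ = ⟨_, mono_mem hπ empty_mem_code⟩ * ψ ⟨γ, hγ⟩ * ⟨_, mono_mem hπ empty_mem_code⟩⁻¹
      from rfl, map_mul, map_mul, map_inv, hρ, ← p4] at this
    simpa using this
  obtain ⟨c, hc, e⟩ := k ⟨γ, hγ⟩
  generalize ρ (ψ ⟨γ, hγ⟩) = σ at f2 e
  obtain ⟨σ, hσ⟩ := σ
  obtain ⟨d, hd, d1, d2⟩ := exists_code_sep (i := none) (j := some 0) (by decide)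
  have pt : ∀ i, ¬ Pt i → i = none ∨ i = some 0 := fun i h => by unfold Pt at h; tauto
  have ed : symmDiff (σ⁻¹ • d) d = ∅ := eq_empty_of_card_lt (symmDiff_mem_code (smul_mem_code (inv_mem hσ) hd) hd)
    (lt_of_le_of_lt (Finset.card_le_card (t := {none, some 0}) fun p hp => by
      rw [Finset.mem_symmDiff, mem_inv_smul] at hp
      simpa using pt p fun q => by rw [show σ p = p from f2 p q] at hp; tauto) (by decide))
  have e1 : σ none = none := by
    have : σ none ∈ d := by rwa [← mem_inv_smul, symmDiff_eq_bot.1 ed]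
    exact (pt _ fun q => ((mono_pt e).1 q).1 rfl).resolve_right fun q => d2 (q ▸ this)
  obtain rfl : σ = 1 := Equiv.ext fun p => by
    by_cases q : Pt p
    · exact f2 p q
    rcases pt p q with rfl | rfl
    · exact e1
    · exact (pt _ fun r => q ((mono_pt e).1 r)).resolve_left fun r => absurd (σ.injective (r.trans e1.symm)) (by decide)
  exact ⟨c, hc, e⟩

theorem eqns_VBa : True := by
  have := @epsC.eq_1
  have := @vM.eq_1
  have := @mkM.eq_1
  have := @oC.eq_1
  have := @ML.eq_1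
  have := @XL.eq_1
  have := @SL.eq_1
  have := @oo.eq_1
  have := @R0.eq_1
  exact True.intro

end H18.BS.VB
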