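import Cfsg.Agent.Lib.BStd.VA
import Cfsg.Agent.Lib.BStd.VBa

set_option autoImplicit false

namespace H18.BS

open Cfsg H16 H95 H48.BR Subgroup H75.WC

theorem om_trans {a : V} (h : Om a) : ∃ γ : C2, (γ : Co0) • vX = vX ∧ γ • a = tb + bb :=
  VB.om_trans h

theorem fix_R0 {a : V} (h : ∀ ε : C2, Eps ε → ε • tb = tb → ε • a = a) :
    a = 0 ∨ a = tb ∨ a = bb ∨ a = tb + bb :=
  VB.fix_R0 h

theorem om_odd : Odd {a | Om a}.ncard :=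
  VB.om_odd

theorem om_span {K : AddSubgroup V} (ht : tb ∈ K) (h : ∀ a, Om a → a ∈ K) {a : V} (ha : be a tb = 0) : a ∈ K :=
  (fun _ => VB.om_span h ha) ht

theorem normal_Sb {A : Subgroup C2} (h2 : IsPGroup 2 A) (hA : ∀ γ ∈ A, γ • tb = tb ∧ γ • bb = bb)
    (hn : ∀ s : C2, s • tb = tb → s • bb = bb → ∀ γ ∈ A, s * γ * s⁻¹ ∈ A) : ∀ γ ∈ A, Eps γ :=
  VB.normal_Sb h2 hA hn

theorem no_off {A : Subgroup C2} (hA : ∀ γ ∈ A, Eps γ) {K : AddSubgroup V} (hK : ∀ γ ∈ A, ∀ a ∈ K, γ • a = a)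
    (hc : 2 ^ 22 ≤ Nat.card K * Nat.card A) : A = ⊥ :=
  VB.no_off hA hK hc

theorem irr {K : AddSubgroup V} (h : ∀ γ : C2, ∀ a ∈ K, γ • a ∈ K) : K = ⊥ ∨ K = ⊤ :=
  VB.irr h

theorem gen {H : Subgroup C2} (hS : ∀ γ : C2, γ • tb = tb → γ ∈ H) {ρ : C2} (hρ : ρ ∈ H) (h : Om (ρ • tb)) :
    H = ⊤ :=
  VB.gen hS hρ h

end H18.BS
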