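import Cfsg.Agent.Lib.BStd.St
import Cfsg.Agent.Lib.BStd.VB
import Cfsg.Agent.Lib.BStd.Out
import Cfsg.Agent.Lib.LocStruct.SylowIn

/-!
# An element interchanging `t` and `tτ` which acts on `P` as a transvection
-/

set_option autoImplicit false

namespace H18.BS.Q

open Cfsg H16 H95 H48.BR Subgroup H75.WC

variable {G : Type*} [Group G] [Finite G] {S : St G} {g h d x : G}

theorem exists_aut {A B : Type*} [Group A] [Group B] [Finite A] (f : A →* B) (hf : Function.Surjective f)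
    (c : A →* A) (hc : Function.Injective c) (k : f.ker ≤ (f.comp c).ker) :
    ∃ α : MulAut B, ∀ a, α (f a) = f (c a) := by
  have := Finite.of_surjective f hf
  have e := f.liftOfRightInverse_comp_apply _ (Function.rightInverse_surjInv hf) ⟨f.comp c, k⟩
  refine ⟨MulEquiv.ofBijective (f.liftOfSurjective hf ⟨f.comp c, k⟩)
    (Function.Surjective.bijective_of_finite fun b => ?_), e⟩
  obtain ⟨a, rfl⟩ := (hf.comp (Finite.surjective_of_injective hc)) b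
  exact ⟨f a, e a⟩

/-- `g` interchanges `t` and `tτ` -/
def Sw (S : St G) (g : G) : Prop := g * S.t * g⁻¹ = S.t * S.τ ∧ g * S.τ = S.τ * g

omit [Finite G] in
theorem exists_sw (h : IsConj S.t (S.t * S.τ)) : ∃ g, Sw S g := by
  obtain ⟨g, e⟩ := isConj_iff.1 h
  obtain ⟨σ, ⟨c, hc, rfl⟩, f⟩ := (S.cj g).fix_sg S.lf.two fun x hx => by
    rw [St.cj_t, e, ← mul_assoc, S.Pt hx, mul_assoc, S.Pτ hx, mul_assoc]
  rw [St.cj_t, e] at hc
  have k : IsConj S.τ (c * (S.cj g).τ * c⁻¹) := isConj_iff.2 ⟨c * g, by simp [mul_assoc]⟩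
  refine ⟨c * g, ?_, ?_⟩
  · rw [← mul_inv_cancel_right (S.t * S.τ) c, ← hc, ← e]; group
  rcases S.centP f with r | r | r | r <;> rw [r] at k
  · exact (S.lf.ne (isConj_one_left.1 k)).elim
  · exact mul_inv_eq_iff_eq_mul.1 (Eq.trans (by simp [mul_assoc]) r)
  · exact (S.nc k.symm).elim
  · exact (S.nc (h.trans k.symm)).elim

omit [Finite G] in
theorem cjτ (e : g * S.τ = S.τ * g) (x : G) (a : ZMod 2) :
    g * (x * zp S.τ a) * g⁻¹ = g * x * g⁻¹ * zp S.τ a := by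
  rw [← mul_assoc, mul_assoc _ _ g⁻¹, ← zp_comm (Commute.inv_left e).eq, mul_assoc _ g⁻¹]

omit [Finite G] in
theorem cjτ' (e : g * S.τ = S.τ * g) (x : G) : g * (x * S.τ) * g⁻¹ = g * x * g⁻¹ * S.τ := by
  simpa only [zp_one] using cjτ e x 1

namespace Sw

omit [Finite G]

theorem inv (h : Sw S g) : Sw S g⁻¹ :=
  ⟨by
    have : g * (S.t * S.τ) * g⁻¹ = S.t := by rw [cjτ' h.2, h.1, mul_assoc, S.lf.sq, mul_one]
    calc g⁻¹ * S.t * g⁻¹⁻¹ = g⁻¹ * (g * (S.t * S.τ) * g⁻¹) * g⁻¹⁻¹ := by rw [this]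
      _ = _ := by group, (Commute.inv_left h.2).eq⟩

theorem mul (h : Sw S g) (hd : d ∈ S.D) : Sw S (d * g) :=
  ⟨by
    obtain ⟨a, b⟩ := S.mem_D.1 hd
    rw [show d * g * S.t * (d * g)⁻¹ = d * (g * S.t * g⁻¹) * d⁻¹ by group, h.1, cjτ' b, a,
      mul_inv_cancel_right], Commute.mul_left (S.mem_D.1 hd).2 h.2⟩

theorem mul' (h : Sw S g) (k : Sw S x) : g * x ∈ S.D :=
  S.mem_D.2 ⟨mul_inv_eq_iff_eq_mul.1 (by
    rw [show g * x * S.t * (g * x)⁻¹ = g * (x * S.t * x⁻¹) * g⁻¹ by group, k.1, cjτ' h.2, h.1,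
      mul_assoc, S.lf.sq, mul_one]), Commute.mul_left h.2 k.2⟩

theorem D (h : Sw S g) (hd : d ∈ S.D) : g * d * g⁻¹ ∈ S.D := by
  rw [mul_assoc]; exact h.mul' (h.inv.mul hd)

theorem P (h : Sw S g) (hx : x ∈ S.P) : g * x * g⁻¹ ∈ S.P :=
  S.le_P (N := (S.cj g).P) (S.cj g).lf.two
    (fun y hy => by simpa [mul_assoc] using h.D (S.PD (S.cj_P.1 hy)))
    (fun d hd y hy => S.cj_P.2 (by
      simpa [mul_assoc] using (S.φ_act ⟨_, h.inv.D hd⟩ _ (S.cj_P.1 hy)).1))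
    (S.cj_P.2 (by simpa [mul_assoc] using hx))

end Sw

theorem exists_comm (h : Sw S g) : ∃ h, Sw S h ∧ ∀ y : S.D, (S.φ y : Co0) • vX = vX →
    Act S.P S.π (h * y * h⁻¹) (S.φ y) := by
  let f : S.D →* MulAction.stabilizer C2 tb := S.φ.codRestrict _ S.φ_tb
  have hf : Function.Surjective f := fun γ => (S.φ_surj γ.2).imp fun _ e => Subtype.ext e
  let c : S.D →* S.D := ((MulAut.conj g).toMonoidHom.comp S.D.subtype).codRestrict _ fun d => h.D d.2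
  obtain ⟨α, hα⟩ := exists_aut f hf c
    (fun a b e => Subtype.ext ((MulAut.conj g).injective (congrArg Subtype.val e)))
    fun a ha => Subtype.ext (S.φ_ker.2 (h.P (S.φ_ker.1 (congrArg Subtype.val ha))))
  obtain ⟨s, hs⟩ := out_U α ⟨f ⟨_, h.mul' h⟩, fun γ => by
    obtain ⟨a, rfl⟩ := hf γ
    rw [hα, hα, ← map_inv, ← map_mul, ← map_mul]
    exact congrArg f (Subtype.ext (by simp [c, mul_assoc]))⟩
  obtain ⟨d, rfl⟩ := hf s
  refine ⟨(d⁻¹ : S.D) * g, h.mul (d⁻¹).2, fun y hy => ?_⟩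
  have e : S.φ (d⁻¹ * c y * d) = S.φ y := congrArg Subtype.val (show f (d⁻¹ * c y * d) = f y by
    rw [map_mul, map_mul, ← hα, hs _ hy, map_inv]; group)
  have := S.φ_act (d⁻¹ * c y * d)
  rw [e] at this
  simpa [c, mul_assoc] using this

omit [Finite G] in
theorem act_one (h : Sw S g)
    (k : ∀ y : S.D, (S.φ y : Co0) • vX = vX → Act S.P S.π (g * y * g⁻¹) (S.φ y)) :
    Act S.P S.π g 1 := by
  let N : Subgroup G :=
    { carrier := {x | x ∈ S.P ∧ S.π (g * x * g⁻¹) = S.π x}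
      one_mem' := ⟨one_mem _, by simp⟩
      mul_mem' := fun {a b} ha hb => ⟨mul_mem ha.1 hb.1, by
        rw [← conj_mul, S.lf.add _ (h.P ha.1) _ (h.P hb.1), ha.2, hb.2, S.lf.add _ ha.1 _ hb.1]⟩
      inv_mem' := fun {a} ha => ⟨inv_mem ha.1, by
        rw [← conj_inv, S.lf.inv (h.P ha.1), ha.2, S.lf.inv ha.1]⟩ }
  have wd : ∀ x ∈ S.P, ∀ y ∈ S.P, S.π x = S.π y → S.π (g * x * g⁻¹) = S.π (g * y * g⁻¹) :=
    fun x hx y hy e => by
      rcases (S.lf.eq_iff hx hy).1 e with rfl | rfl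
      · rfl
      · rw [cjτ' h.2, S.lf.mulτ (h.P hx)]
  have cm : ∀ y : S.D, (S.φ y : Co0) • vX = vX → ∀ x ∈ S.P,
      S.π (g * (y * x * (y : G)⁻¹) * g⁻¹) = S.φ y • S.π (g * x * g⁻¹) := fun y hy x hx => by
    rw [← (k y hy _ (h.P hx)).2]; congr 1; group
  have tN : S.t ∈ N := ⟨S.tP, by rw [h.1, S.lf.mulτ S.tP]⟩
  have tβ := S.P.mul_mem S.tP S.βP
  have πtβ : S.π (S.t * S.β) = tb + bb := by rw [S.lf.add _ S.tP _ S.βP, S.πt, S.πβ]
  have c1 : IsConj S.t (S.t * S.τ) := isConj_iff.2 ⟨g, h.1⟩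
  have c2 : IsConj S.t (S.t * S.β) := c1.trans (isConj_iff.2 ⟨S.c, by
    rw [← conj_mul, S.ct, mul_inv_cancel_right, S.cτ]⟩)
  have c3 : ¬ IsConj S.t (g * S.β * g⁻¹) := fun e =>
    S.nc (e.trans (S.sg_β.isConj.trans (isConj_iff.2 ⟨g, rfl⟩)).symm)
  have βN : S.β ∈ N := ⟨S.βP, by
    rcases fix_R0 (a := S.π (g * S.β * g⁻¹)) (fun ε h1 h2 => by
      obtain ⟨y, rfl⟩ := S.φ_surj h2
      rw [← cm y (eps_X h1 h2) _ S.βP]
      exact wd _ (S.φ_act y _ S.βP).1 _ S.βP (by rw [(S.φ_act y _ S.βP).2, S.πβ, h1.bb])) with r | r | r | r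
    · rcases (S.lf.ker _ (h.P S.βP)).1 r with r | r
      · exact (tb_bb.ne (by rw [← S.πβ, conj_eq_one_iff.1 r, S.lf.one])).elim
      · exact (tb_bb.ne (by rw [← S.πβ, mul_left_cancel ((mul_inv_eq_iff_eq_mul.1 r).trans h.2.symm),
          S.lf.τ0])).elim
    · exact (c3 (((S.eq_tb (h.P S.βP)).1 r).elim (fun e => e ▸ IsConj.refl _) fun e => e ▸ c1)).elim
    · exact r.trans S.πβ.symm
    · obtain ⟨p, -, e⟩ := S.conj_τ tβ (πtβ ▸ om_bb.1.ne) (πtβ ▸ om_bb.2.2)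
      exact (c3 (((S.lf.eq_iff tβ (h.P S.βP)).1 (πtβ.trans r.symm)).elim (fun e => e ▸ c2)
        fun f => f ▸ c2.trans (isConj_iff.2 ⟨p, e⟩))).elim⟩
  intro x hx
  obtain ⟨y, hy, e⟩ := om_span (K := S.lf.img N fun _ h => h.1) ⟨_, tN, S.πt⟩ (fun a ha => by
    obtain ⟨γ, h1, h2⟩ := om_trans ha
    have h3 : ((γ⁻¹ : C2) : Co0) • vX = vX := inv_smul_eq_iff.2 h1.symm
    obtain ⟨y, e⟩ := S.φ_surj (fix_tb h3)
    have a := S.φ_act y _ tβ
    exact ⟨_, ⟨a.1, by rw [cm y (e ▸ h3) _ tβ, (N.mul_mem tN βN).2, a.2]⟩,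
      by rw [a.2, πtβ, e, ← h2, inv_smul_smul]⟩) (S.perp x hx)
  exact ⟨h.P hx, by rw [one_smul, ← wd _ hy.1 _ hx e, hy.2, e]⟩

theorem exists_tv (h : IsConj S.t (S.t * S.τ)) : ∃ h v, h * S.τ = S.τ * h ∧ be v tb = 1 ∧
    h * h = zp S.τ (qq v) ∧ ∀ x ∈ S.P, h * x * h⁻¹ = x * zp S.τ (be v (S.π x)) := by
  obtain ⟨g, hg⟩ := exists_sw h
  obtain ⟨g, hg, k⟩ := exists_comm hg
  have a := act_one hg k
  have n : S.t * S.τ ≠ S.t := fun e => S.lf.ne (mul_eq_left.1 e)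
  have s : g * (S.t * S.τ) * g⁻¹ = S.t := by rw [cjτ' hg.2, hg.1, mul_assoc, S.lf.sq, mul_one]
  have m : ∀ x ∈ S.P, g * x * g⁻¹ = x → x ∈ S.P ⊓ centralizer {g} := fun x hx e =>
    ⟨hx, mem_centralizer_singleton_iff.2 (mul_inv_eq_iff_eq_mul.1 e).symm⟩
  obtain ⟨v, h1, h2⟩ : ∃ v, (∀ x ∈ S.lf.img (S.P ⊓ centralizer {g}) inf_le_left, be x v = 0) ∧
      be v tb ≠ 0 := by
    by_contra! e
    obtain ⟨x, hx, e⟩ := mem_of_perp e
    have := mul_inv_eq_iff_eq_mul.2 (mem_centralizer_singleton_iff.1 hx.2).symm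
    rcases (S.eq_tb hx.1).1 e with rfl | rfl
    · exact n (hg.1.symm.trans this)
    · exact n (this.symm.trans s)
  have h3 := (z2 _).resolve_left h2
  have f : ∀ x ∈ S.P, g * x * g⁻¹ = x * zp S.τ (be v (S.π x)) := fun x hx => by
    rcases (S.lf.eq_iff hx (a x hx).1).1 (by rw [(a x hx).2, one_smul]) with e | e
    · rw [be_comm, h1 _ ⟨x, m x hx e, rfl⟩, zp_zero, mul_one, e]
    · have := h1 _ ⟨_, m _ (mul_mem hx S.tP) (by
        rw [← conj_mul, e, hg.1, mul_assoc, ← mul_assoc S.τ, ← S.Pτ S.tP, mul_assoc, S.lf.sq,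
          mul_one]), rfl⟩
      rw [S.lf.add _ hx _ S.tP, S.πt, be_comm, be_add_right, h3] at this
      rw [e, eq_neg_of_add_eq_zero_left this, CharTwo.neg_eq, zp_one]
  obtain ⟨e, he⟩ : ∃ e, g * g = zp S.τ e := by
    have c : g * (g * g) * g⁻¹ = g * g := by group
    rcases S.centP (d := g * g) (fun x hx => mul_inv_eq_iff_eq_mul.1 (by
      rw [show g * g * x * (g * g)⁻¹ = g * (g * x * g⁻¹) * g⁻¹ by group, f x hx, cjτ hg.2, f x hx,
        mul_assoc, ← zp_add S.lf.sq, CharTwo.add_self_eq_zero, zp_zero, mul_one])) with r | r | r | r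
    · exact ⟨0, r.trans (zp_zero _).symm⟩
    · exact ⟨1, r.trans (zp_one _).symm⟩
    · rw [r] at c; exact (n (hg.1.symm.trans c)).elim
    · rw [r] at c; exact (n (c.symm.trans s)).elim
  by_cases q : qq v = e
  · exact ⟨g, v, hg.2, h3, q ▸ he, f⟩
  refine ⟨g, v + tb, hg.2, by rw [be_add_left, h3, be_self, add_zero], ?_, fun x hx => by
    rw [be_add_left, be_comm tb, S.perp x hx, add_zero, f x hx]⟩
  rw [he, qq_add, ta_tb.qq, h3, (by decide : ∀ b e : ZMod 2, b ≠ e → b + 0 + 1 = e) _ _ q]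

end H18.BS.Q
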