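import Cfsg.Agent.Lib.BStd.QU
import Cfsg.Agent.Lib.BStd.Y

/-!
# All of Co2 is induced on the extraspecial group (after helper65)
-/

set_option autoImplicit false

namespace H18.BS

open Cfsg H16 H95 H48.BR Subgroup H75.WC

namespace YU

open Y (AK ak sg_fix sg_add)

variable {G : Type*} [Group G]

theorem uniq (S : Su2 G) {g : G} {κ κ' : V → V} (h : AK S.Q S.π g κ) (h' : AK S.Q S.π g κ') (a : V) :
    κ a = κ' a := by
  obtain ⟨x, hx, rfl⟩ := S.ontoQ a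
  exact (h x hx).2.symm.trans (h' x hx).2

theorem πtβ (S : Su2 G) : S.π (S.t * S.β) = tb + bb := by rw [S.lf.add _ S.tP _ S.βP, S.πt, S.πβ]

theorem fixβ (S : Su2 G) {g : G} (h1 : g * S.β * g⁻¹ ∈ S.Q) (h2 : S.π (g * S.β * g⁻¹) = bb) :
    ∃ p ∈ S.P, p * g * S.β = S.β * (p * g) := by
  rcases (S.lfQ.eq_iff (S.PQ S.βP) h1).1 (S.πβ.trans h2.symm) with f | f
  · exact ⟨1, one_mem _, by rw [one_mul]; exact mul_inv_eq_iff_eq_mul.1 f⟩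
  · obtain ⟨p, hp, e⟩ := S.conj_τ S.βP (S.πβ ▸ tb_bb.ne) (S.πβ ▸ fun e => ta_tb.not_tb (e ▸ tb_bb))
    refine ⟨p⁻¹, inv_mem hp, mul_inv_eq_iff_eq_mul.1 ?_⟩
    calc p⁻¹ * g * S.β * (p⁻¹ * g)⁻¹ = p⁻¹ * (g * S.β * g⁻¹) * p := by group
      _ = S.β := by rw [f, ← e]; group

theorem exd (S : Su2 G) {σ : C2} (e : Ux σ) :
    ∃ d, d * S.t = S.t * d ∧ d * S.τ = S.τ * d ∧ Act S.Q S.π d σ := by
  obtain ⟨d, h1, h2, h3⟩ := S.surj σ e
  exact ⟨d, h1, h2, S.actQ _ _ h1 h2 h3⟩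

theorem nQ [Finite G] (S : Su2 G) {g : G} (hg : g * S.τ = S.τ * g) (h1 : g * S.t * g⁻¹ ∈ S.Q)
    (h2 : Om (S.π (g * S.t * g⁻¹))) : ∀ x ∈ S.Q, g * x * g⁻¹ ∈ S.Q := fun x hx => by
  rw [← S.cj_Q_eq hg h1 h2, Su2.cj_Q]
  simpa [mul_assoc] using hx

theorem exκ (S : Su2 G) {g : G} (hg : g * S.τ = S.τ * g) (n : ∀ x ∈ S.Q, g * x * g⁻¹ ∈ S.Q) :
    ∃ κ : V →+ V, AK S.Q S.π g κ := by
  choose s hs e using S.ontoQ
  have k : ∀ x ∈ S.Q, S.π (g * x * g⁻¹) = S.π (g * s (S.π x) * g⁻¹) := fun x hx => by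
    rcases (S.lfQ.eq_iff hx (hs _)).1 (e _).symm with f | f
    · rw [f]
    · rw [f, ← mul_assoc, mul_assoc _ S.τ, ← (Commute.inv_left hg).eq, ← mul_assoc, S.lfQ.mulτ (n x hx)]
  refine ⟨AddMonoidHom.mk' (fun a => S.π (g * s a * g⁻¹)) fun a b => ?_, fun x hx => ⟨n x hx, k x hx⟩⟩
  have := k _ (mul_mem (hs a) (hs b))
  rw [S.lfQ.add _ (hs a) _ (hs b), e, e] at this
  rw [← this, ← S.lfQ.add _ (n _ (hs a)) _ (n _ (hs b)), conj_mul]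

/-- the structure attached to `β` -/
structure Pr (S B : Su2 G) : Prop where
  t : B.t = S.t
  τ : B.τ = S.β
  inE : ∀ x ∈ S.P, ∀ i, Pt i → S.π x = xx i → x ∈ B.P
  img : ∀ y γ, y ∈ B.P → y * S.τ = S.τ * y → Act S.P S.π y γ → Eps γ
  img' : ∀ γ, Eps γ → γ • tb = tb → ∃ y, y ∈ B.P ∧ y * S.τ = S.τ * y ∧ Act S.P S.π y γ

theorem pr (S : Su2 G) : Pr S (S.cj S.c) :=
  ⟨mul_inv_eq_iff_eq_mul.2 S.ct, S.cτ, S.inE, S.img, S.img'⟩

namespace Pr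

variable {S B : Su2 G} (h : Pr S B)
include h

theorem tB : S.t ∈ B.P := h.t ▸ B.tP

theorem πt : B.π S.t = tb := h.t ▸ B.πt

theorem τB : S.τ ∈ B.P :=
  (B.P.mul_mem_cancel_left h.tB).1 (h.inE _ (S.P.mul_mem S.tP S.lf.mem) _ pt_one
    (by rw [S.lf.mulτ S.tP, S.πt, xx_one]))

theorem conj {x y : G} (hx : x ∈ B.Q) (hy : y ∈ B.Q) : x * y * x⁻¹ = y ∨ x * y * x⁻¹ = y * S.β := by
  rw [B.lfQ.conj hx hy, h.τ]
  exact (zp_cases _ _).imp (fun e => by rw [e, mul_one]) fun e => by rw [e]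

theorem exρ : ∃ ρ ∈ B.Q, ρ * S.τ = S.τ * ρ ∧ ρ * S.t * ρ⁻¹ = S.t * S.β := by
  have n : tb ≠ B.π S.τ := fun e => by
    rcases (B.eq_tb h.τB).1 e.symm with f | f
    · exact S.t_ne_τ (h.t.symm.trans f.symm)
    · rw [h.t, h.τ] at f
      exact om_bb.1.ne (by rw [← πtβ S, ← f, S.lf.τ0])
  obtain ⟨a, h1, h2⟩ := exists_be tb_ne n
  obtain ⟨ρ, hρ, rfl⟩ := B.ontoQ a
  exact ⟨ρ, hρ, (B.lfQ.commute_iff hρ (B.PQ h.τB)).2 h1,
    h.τ ▸ B.lfQ.conj_one hρ (B.PQ h.tB) (by rw [h.πt, h2])⟩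

theorem imgQ {e : G} (he : e ∈ B.Q) (h1 : e * S.t = S.t * e) (h2 : e * S.τ = S.τ * e) :
    ∃ r, Eps r ∧ Act S.Q S.π e r := by
  obtain ⟨r, hr⟩ := S.act e h1 h2
  exact ⟨r, h.img e r (B.QP e he (by rw [← h.πt]; exact (B.lfQ.commute_iff he (B.PQ h.tB)).1 h1)) h2 hr,
    S.actQ _ _ h1 h2 hr⟩

theorem imgQ' {r : C2} (hr : Eps r) (e : r • tb = tb) :
    ∃ y ∈ B.Q, y * S.τ = S.τ * y ∧ Act S.Q S.π y r := by
  obtain ⟨y, h1, h2, h3⟩ := h.img' r hr e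
  exact ⟨y, B.PQ h1, h2, S.actQ _ _ (h.t ▸ B.Pt h1) h2 h3⟩

theorem hyp [Finite G] {ρ : G} (hρ : ρ ∈ B.Q) (h1 : ρ * S.τ = S.τ * ρ) (h2 : ρ * S.t * ρ⁻¹ = S.t * S.β) :
    ∃ ε : C2, Eps ε ∧ ε • tb = tb + bb ∧ (Act S.Q S.π ρ ε ∨ AK S.Q S.π ρ fun a => ε • sg bb tb a) := by
  have βQ := S.PQ S.βP
  obtain ⟨κ, hκ⟩ := exκ S h1 (nQ S h1 (h2 ▸ mul_mem S.tQ βQ) (by rw [h2, πtβ]; exact om_bb))
  have ρβ : ρ * S.β = S.β * ρ := h.τ ▸ B.lfQ.cent hρ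
  have kt : κ tb = tb + bb := by rw [← πtβ S, ← h2, (hκ _ S.tQ).2, S.πt]
  have hq : ∀ a, qq (κ a) = qq a := fun a => by
    obtain ⟨x, hx, rfl⟩ := S.ontoQ a
    have : qq (κ (S.π x)) = 0 ↔ qq (S.π x) = 0 := by
      rw [← (hκ x hx).2, ← S.lfQ.sq_iff (hκ x hx).1, ← S.lfQ.sq_iff hx, conj_mul, conj_eq_one_iff]
    generalize qq (κ (S.π x)) = u, qq (S.π x) = v at this
    revert u v; decide
  have hb : κ bb = bb := by rw [← S.πβ, ← (hκ _ βQ).2, ρβ, mul_inv_cancel_right]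
  have hx : ∀ i, Pt i → κ (xx i) = xx i ∨ κ (xx i) = xx i + bb := fun i hi => by
    obtain ⟨x, hx, e⟩ := S.onto _ (be_xx_tb i)
    rw [← e, ← (hκ _ (S.PQ hx)).2]
    exact (h.conj hρ (B.PQ (h.inE x hx i hi e))).imp (fun f => by rw [f])
      fun f => by rw [f, S.lf.add _ hx _ S.βP, S.πβ]
  have hr : ∀ r : C2, Eps r → r • tb = tb → ∀ a, κ (r • a) = r • κ a := fun r hr e => by
    obtain ⟨y, hy, -, ay⟩ := h.imgQ' hr e
    have ay' : Act S.Q S.π (ρ * y * ρ⁻¹) r := by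
      rcases h.conj hρ hy with f | f <;> rw [f]
      · exact ay
      · exact mul_one r ▸ ay.mul (S.lfQ.act βQ)
    have := (ak ay').mul hκ
    rw [inv_mul_cancel_right] at this
    exact uniq S (hκ.mul (ak ay)) this
  have hs : ∀ σ : C2, Ux σ → σ • bb = bb → ∃ r : C2, Eps r ∧ ∀ a, σ • κ a = κ (r • σ • a) :=
    fun σ e1 e2 => by
    obtain ⟨d0, d1, d2, d4⟩ := exd S e1
    obtain ⟨p, hp, d3⟩ := fixβ S (d4 _ βQ).1 (by rw [(d4 _ βQ).2, S.πβ, e2])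
    replace d1 : Commute (p * d0) S.t := Commute.mul_left (S.Pt hp) d1
    replace d2 : Commute (p * d0) S.τ := Commute.mul_left (S.Pτ hp) d2
    replace d4 := (S.lfQ.act (S.PQ hp)).mul d4
    rw [one_mul] at d4
    generalize p * d0 = d at d1 d2 d3 d4
    have dB := B.actD ⟨d, B.mem_D.2 ⟨h.t ▸ d1, h.τ ▸ d3⟩⟩
    obtain ⟨r, hr, ar⟩ := h.imgQ (mul_mem (inv_mem hρ) (dB ρ hρ).1) (mul_inv_eq_iff_eq_mul.1 (by
      calc ρ⁻¹ * (d * ρ * d⁻¹) * S.t * (ρ⁻¹ * (d * ρ * d⁻¹))⁻¹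
          = ρ⁻¹ * (d * (ρ * (d⁻¹ * S.t * d) * ρ⁻¹) * d⁻¹) * ρ := by group
        _ = S.t := by
          rw [d1.inv_left.eq, inv_mul_cancel_right, h2, (d1.mul_right d3).eq, mul_inv_cancel_right, ← h2]; group))
      (Commute.mul_left (Commute.inv_left h1) ((d2.mul_left h1).mul_left d2.inv_left))
    have := hκ.mul ((ak ar).mul (ak d4))
    rw [show ρ * (ρ⁻¹ * (d * ρ * d⁻¹) * d) = d * ρ by group] at this
    exact ⟨r, hr, uniq S ((ak d4).mul hκ) this⟩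
  obtain ⟨ε, hε, e | e⟩ := rho_U κ hq hb hx hr hs
  · exact ⟨ε, hε, (e _).symm.trans kt, Or.inl (hκ.congr e)⟩
  · exact ⟨ε, hε, by rw [← kt, e, sg_fix be_tb_bb (be_self _)], Or.inr (hκ.congr e)⟩

end Pr

/-- the linear algebra for the second case -/
theorem lin {ε : C2} (hε : Eps ε) (e : ε • tb = tb + bb) : ∃ (i : GolayPt) (σ r : C2), Pt i ∧ i ≠ some 1 ∧
    ε • xx i = xx i ∧ Ux σ ∧ σ • (tb + bb) = xx i ∧ (r = 1 ∨ Eps r) ∧ r • tb = tb ∧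
      (ε * r) • σ⁻¹ • bb = σ⁻¹ • bb := by
  obtain ⟨i, hi, ei⟩ := exists_x hε
  have i1 : i ≠ some 1 := fun f => om_bb.2.2 (by rw [← e, ← xx_one, ← f, ei])
  obtain ⟨γ, g0, g2⟩ := om_U (om_xx hi i1).1
  have g1 := g0.tb
  obtain ⟨j, hj, ej⟩ := pair_xx (a := tb + γ • bb) (by rw [← g1, ← smul_add]; exact om_bb.1.smul γ)
    (by rw [add_right_comm, ← g2, ← smul_add]; exact (ta_xx hi).2.smul γ)
  have j1 : j ≠ some 1 := fun f => by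
    rw [f, xx_one, add_eq_left, add_right_inj, smul_eq_zero_iff_eq] at ej
    refine ej.elim tb_bb.ne fun ej => (om_xx hi i1).2.2.2 (smul_left_cancel γ ?_)
    rw [smul_add, g2, ej, g1, add_assoc, add_self, add_zero]
  have k : ∀ r : C2, r • bb = bb → r • tb = tb → (ε * r) • xx j = xx j + bb → (ε * r) • γ • bb = γ • bb :=
    fun r r1 r2 r3 => by
    have r4 : (ε * r) • tb = tb + bb := by rw [mul_smul, r2, e]
    have r5 : (ε * r) • bb = bb := by rw [mul_smul, r1, hε.bb]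
    have : (ε * r) • (tb + γ • bb) = tb + γ • bb + bb := by
      rcases ej with ej | ej <;> rw [ej]
      · exact r3
      · rw [smul_add, r3, r5]
    rwa [smul_add, r4, add_right_comm, add_left_inj, add_right_inj] at this
  have s1 := g0.inv
  have s2 : γ⁻¹ • (tb + bb) = xx i := inv_smul_eq_iff.2 g2.symm
  rcases eps_xx hε j with f | f
  · obtain ⟨r, r1, r2, r3⟩ := exists_r hj j1
    exact ⟨i, γ⁻¹, r, hi, i1, ei, s1, s2, Or.inr r1, r2, by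
      rw [inv_inv]; exact k r r1.bb r2 (by rw [mul_smul, r3, smul_add, f, hε.bb])⟩
  · exact ⟨i, γ⁻¹, 1, hi, i1, ei, s1, s2, Or.inl rfl, one_smul _ _, by
      rw [inv_inv]; exact k 1 (one_smul _ _) (one_smul _ _) (by rw [mul_one, f])⟩

theorem Pr.second [Finite G] {S B : Su2 G} (h : Pr S B) {ρ : G} (hρ : ρ ∈ B.Q) (h1 : ρ * S.τ = S.τ * ρ)
    {ε : C2} (hε : Eps ε) (e : ε • tb = tb + bb) (a : AK S.Q S.π ρ fun a => ε • sg bb tb a) : False := by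
  obtain ⟨i, σ, r, hi, i1, ei, s0, s2, r0, r1, r2⟩ := lin hε e
  have s1 := s0.tb
  have βQ := S.PQ S.βP
  have rb : r • bb = bb := r0.elim (fun f => by rw [f, one_smul]) Eps.bb
  have n1 : xx i + tb ≠ bb := fun f => (om_xx hi i1).2.2.2 (by rw [← f, ← add_assoc, add_self, zero_add])
  obtain ⟨y, -, y2, y3⟩ : ∃ y ∈ B.Q, y * S.τ = S.τ * y ∧ Act S.Q S.π y r :=
    r0.elim (fun f => ⟨1, one_mem _, by simp, f ▸ Act.one⟩) fun f => h.imgQ' f r1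
  obtain ⟨d, -, d2, d3⟩ := exd S s0
  have sb : σ • bb = xx i + tb := by rw [← s2, smul_add, s1, add_right_comm, add_self, zero_add]
  have s1' : σ⁻¹ • tb = tb := inv_smul_eq_iff.2 s1.symm
  obtain ⟨η, eb, et, ex, a0⟩ : ∃ η : C2, η • bb = bb ∧ η • tb = xx i ∧ η • xx i = tb ∧
      AK S.Q S.π (d * (ρ * y) * d⁻¹) fun a => η • sg (xx i) tb a := by
    refine ⟨σ * (ε * r) * σ⁻¹, by rw [mul_smul, mul_smul, r2, smul_inv_smul],
      by rw [mul_smul, mul_smul, s1', mul_smul, r1, e, s2], ?_,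
      (((ak d3).mul (a.mul (ak y3))).mul (ak d3.inv)).congr fun z => ?_⟩
    · rw [mul_smul, mul_smul, ← s2, inv_smul_smul, mul_smul, smul_add r, r1, rb, smul_add, e, hε.bb, add_assoc,
        add_self, add_zero, s1]
    · rw [mul_smul, mul_smul, mul_smul, ← sg_add (xx i), ← sb, smul_sg σ⁻¹, inv_smul_smul, s1', smul_sg r, rb, r1]
  obtain ⟨p, hp, gβ⟩ := fixβ S (a0 _ βQ).1 (by
    rw [(a0 _ βQ).2, S.πβ]; dsimp only; rw [sg_fix ((be_comm _ _).trans (be_xx_bb i)) be_bb_tb, eb])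
  have gτ : Commute (p * (d * (ρ * y) * d⁻¹)) S.τ :=
    Commute.mul_left (S.Pτ hp) (Commute.mul_left (Commute.mul_left d2 (Commute.mul_left h1 y2))
      (Commute.inv_left d2))
  have ag := ((ak (S.lfQ.act (S.PQ hp))).mul a0).congr fun _ => one_smul _ _
  generalize p * (d * (ρ * y) * d⁻¹) = g at gβ gτ ag
  have t1 : S.π (g * S.t * g⁻¹) = xx i := by
    rw [(ag _ S.tQ).2, S.πt]; dsimp only; rw [sg_fix ((be_comm _ _).trans (be_xx_tb i)) (be_self _), et]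
  have tQ := (ag _ S.tQ).1
  have tP := S.QP _ tQ (t1 ▸ be_xx_tb i)
  have tB := h.inE _ tP i hi t1
  have t2 : S.π (g * S.t * g⁻¹ * S.t) = xx i + tb := by rw [S.lf.add _ tP _ S.tP, t1, S.πt]
  have t3 : Sg S.t S.τ (g * S.t * g⁻¹ * S.t) := (S.sig _ (mul_mem tP S.tP)).2 (Or.inr (by
    rw [t2, add_assoc, add_self, add_zero]; exact (om_xx hi i1).1))
  have t4 := (B.sig _ (mul_mem tB h.tB)).1 (by rw [h.t, h.τ]; exact S.sg_β.symm.trans t3)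
  rw [h.τ, B.lf.add _ tB _ h.tB, h.πt, add_assoc, add_self, add_zero] at t4
  have m := nQ B (g := g) (h.τ ▸ gβ) (h.t ▸ B.PQ tB)
    (h.t ▸ t4.resolve_left fun f => n1 (by rw [← t2, f, S.πβ])) ρ hρ
  have mτ : Commute (g * ρ * g⁻¹) S.τ := (gτ.mul_left h1).mul_left gτ.inv_left
  have sx : sg (xx i) tb (xx i) = xx i := sg_fix (be_self _) (be_xx_tb i)
  have v1 := (S.lfQ.eq_iff S.tQ (ag _ tQ).1).1 (by rw [(ag _ tQ).2, t1, S.πt]; dsimp only; rw [sx, ex])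
  have v2 := (S.lfQ.eq_iff S.tQ (ag.mul a _ tQ).1).1 (by
    rw [(ag.mul a _ tQ).2, t1, S.πt]; dsimp only; rw [sg_fix (be_xx_bb i) (be_xx_tb i), ei, sx, ex])
  rw [show g * ρ * (g * S.t * g⁻¹) * (g * ρ)⁻¹ = g * ρ * g⁻¹ * (g * (g * S.t * g⁻¹) * g⁻¹) * (g * ρ * g⁻¹)⁻¹ by
    group] at v2
  have mt : g * ρ * g⁻¹ * S.t * (g * ρ * g⁻¹)⁻¹ = S.t := by
    refine (h.conj m (B.PQ h.tB)).resolve_right fun f => om_bb.2.2 ?_
    rw [← πtβ S, S.eq_tb (mul_mem S.tP S.βP), ← f]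
    rcases v1 with v1 | v1 <;> rw [v1] at v2
    · exact v2
    · rw [← mul_assoc, mul_assoc _ S.τ, ← mτ.inv_left.eq, ← mul_assoc, mul_left_inj, ← eq_mul_inv_iff_mul_eq,
        inv_eq_of_mul_eq_one_right S.lf.sq] at v2
      exact v2.symm
  obtain ⟨r', -, ar⟩ := h.imgQ m (mul_inv_eq_iff_eq_mul.1 mt) mτ
  have := (ak ar).mul ag
  rw [inv_mul_cancel_right] at this
  exact not_sg (be_xx_tb i) (be_xx_bb i) (fun f => (om_xx hi i1).1.2.2 (add_eq_zero.1 f)) n1 ei e hε.bb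
    (uniq S (ag.mul a) this)

end YU

variable {G : Type*} [Group G] [Finite G]

theorem Su2.full (S : Su2 G) : S.Full := by
  have h := YU.pr S
  obtain ⟨ρ, hρ, h1, h2⟩ := h.exρ
  obtain ⟨ε, hε, e, a | a⟩ := h.hyp hρ h1 h2
  · let H : Subgroup C2 :=
      { carrier := {γ | ∃ y, y * S.τ = S.τ * y ∧ Act S.Q S.π y γ}
        one_mem' := ⟨1, by simp, Act.one⟩
        mul_mem' := fun ⟨_, a, ha⟩ ⟨_, b, hb⟩ => ⟨_, Commute.mul_left a b, ha.mul hb⟩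
        inv_mem' := fun ⟨_, a, ha⟩ => ⟨_, Commute.inv_left a, ha.inv⟩ }
    have := gen_U (H := H) (fun γ f => (YU.exd S f).imp fun _ k => k.2) ⟨ρ, h1, a⟩ (e ▸ om_bb)
    exact fun γ => (this ▸ mem_top γ : γ ∈ H)
  · exact (h.second hρ h1 hε e a).elim

end H18.BS
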