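import Cfsg.Agent.S1347
import Cfsg.Agent.Lib.Comp.Component

set_option autoImplicit false

namespace H18.BS

open Subgroup Cfsg

universe u

namespace Red

theorem map_ctr {A B : Type*} [Group A] [Group B] (e : A ≃* B) :
    (center A).map (e : A →* B) = center B := by
  ext y
  obtain ⟨x, rfl⟩ := e.surjective y
  refine (mem_map_iff_mem e.injective).trans ?_
  simp only [mem_center_iff]
  exact ⟨fun h b => by obtain ⟨a, rfl⟩ := e.surjective b; rw [← map_mul, h, map_mul],
    fun h a => e.injective (by rw [map_mul, h, map_mul])⟩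

theorem map_cj {G : Type*} [Group G] {E A : Subgroup G} (h : A ≤ E) (g : E) :
    ((A.subgroupOf E).map (MulAut.conj g).toMonoidHom).map E.subtype =
      A.map (MulAut.conj (g : G)).toMonoidHom := by
  conv_rhs => rw [← map_subgroupOf_eq_of_le h]
  rw [map_map, map_map]
  rfl

theorem std {G : Type*} [Group G] [Finite G] {E A : Subgroup G} (hA : IsStandardSubgroup A) (h : A ≤ E)
    {t : G} (ht : orderOf t = 2) (tE : t ∈ E) (tC : t ∈ centralizer (A : Set G)) :
    IsStandardSubgroup (A.subgroupOf E) := by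
  have eK : centralizer ((A.subgroupOf E : Subgroup E) : Set E) =
      (centralizer (A : Set G)).subgroupOf E := Subgroup.ext fun x =>
    ⟨fun hx a ha => congrArg Subtype.val (hx ⟨a, h ha⟩ ha), fun hx a ha => Subtype.ext (hx a ha)⟩
  have ev : ∀ {K : Subgroup G}, t ∈ K → ¬ Odd (Nat.card K) := fun hK =>
    Nat.not_odd_iff_even.2 (even_iff_two_dvd.2 (ht ▸ orderOf_dvd_natCard _ hK))
  have nm : ∀ {K : Subgroup G} {g : E}, (g : G) ∈ normalizer (K : Set G) →
      g ∈ normalizer ((K.subgroupOf E : Subgroup E) : Set E) := fun hg =>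
    mem_normalizer_iff.2 fun x => mem_normalizer_iff.1 hg x
  refine ⟨H23.IsQuasisimple.of_mulEquiv (subgroupOfEquivOfLe h).symm hA.1, ⟨?_, fun g hg => ?_⟩,
    fun g hg e => hA.2.2.1 g (fun e1 => hg ?_) ?_, le_antisymm (fun g hg => ?_) fun g hg => nm ?_⟩
  · rw [eK]
    exact even_iff_two_dvd.2 (((orderOf_coe (⟨t, tE⟩ : E)).symm.trans ht) ▸ orderOf_dvd_natCard _ tC)
  · rw [eK] at hg ⊢
    refine (hA.2.1.2 g (mt nm hg)).of_dvd_nat ?_
    rw [← card_map_of_injective E.subtype_injective]
    refine card_dvd_of_le ?_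
    rintro _ ⟨x, ⟨h1, y, h2, rfl⟩, rfl⟩
    exact ⟨h1, y, h2, rfl⟩
  · exact map_injective E.subtype_injective (by rw [map_cj h, e1, map_subgroupOf_eq_of_le h])
  · rw [← map_cj h]
    nth_rw 1 [← map_subgroupOf_eq_of_le h]
    rw [← map_commutator, e, Subgroup.map_bot]
  · exact mem_normalizer_fintype fun x hx a ha => by
      have := hx _ ((mem_normalizer_iff''.1 hg a).1 ha)
      calc a * (g * x * g⁻¹) = g * (g⁻¹ * a * g * x) * g⁻¹ := by group
        _ = _ := by rw [this]; group
  · rw [eK] at hg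
    rw [hA.2.2.2]
    by_contra hc
    refine ev ?_ (hA.2.1.2 g hc)
    refine ⟨tC, _, ((mem_normalizer_iff''.1 hg ⟨t, tE⟩).1 tC :), ?_⟩
    simp [mul_assoc]

end Red

/-- reduction to a simple group -/
theorem red_simple {T : Type*} [Group T] (C : ∀ (E : Type u) [Group E], Prop)
    (hC : ∀ (E E' : Type u) [Group E] [Group E'], (E ≃* E') → C E → C E')
    (h : ∀ (E : Type u) [Group E] [Finite E] [IsSimpleGroup E] (A : Subgroup E), IsStandardSubgroup A →
      Even (Nat.card (center A)) → ((A ⧸ center A) ≃* T) → C E)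
    {G : Type u} [Group G] [Finite G] (hO : oddCore G = ⊥) (A : Subgroup G) (hA : IsStandardSubgroup A)
    (hZ : Even (Nat.card (center A))) (e : (A ⧸ center A) ≃* T) :
    A.Normal ∨ C (normalClosure (A : Set G)) := by
  have := Fact.mk Nat.prime_two
  obtain ⟨z, hz⟩ := exists_prime_orderOf_dvd_card' 2 hZ.two_dvd
  have ht : orderOf ((z : A) : G) = 2 := by rw [orderOf_coe, orderOf_coe, hz]
  have z1 : (z : A) ≠ 1 := fun e => by simp [e] at ht
  have tC : ((z : A) : G) ∈ centralizer (A : Set G) := fun a ha =>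
    congrArg Subtype.val (mem_center_iff.1 z.2 ⟨a, ha⟩)
  rcases Cfsg.Agent.S1347.result A hA hO _ ht tC with h1 | ⟨X, hX, hX', ⟨e'⟩, -⟩ | ⟨h1, h2, -⟩
  · exact .inl h1
  · have := e'.symm.isSimpleGroup
    rcases this.eq_bot_or_eq_top_of_normal (center A) inferInstance with e1 | e1
    · exact (z1 (mem_bot.1 (e1 ▸ z.2))).elim
    · exact (hX' ⟨⟨fun a b => e'.injective (by
        rw [map_mul, map_mul]; exact mem_center_iff.1 (e1 ▸ mem_top _) _)⟩⟩).elim
  have e1 : normalClosure (A : Set G) = layer G := le_antisymm (normalClosure_le_normal h1)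
    (subgroupOf_eq_top.1 ((h2.eq_bot_or_eq_top_of_normal _ (normalClosure_normal.subgroupOf _)).resolve_left
      fun e1 => z1 (Subtype.ext (Subtype.ext_iff.1 (mem_bot.1 (e1.le
        (show (⟨_, h1 (z : A).2⟩ : layer G) ∈ _ from le_normalClosure (z : A).2))) :))))
  have f := subgroupOfEquivOfLe h1
  refine .inr (hC _ _ (MulEquiv.subgroupCongr e1.symm) (h _ _ (Red.std hA h1 ht (h1 (z : A).2) tC) ?_
    ((QuotientGroup.congr _ _ f (Red.map_ctr f)).trans e)))
  rwa [← Red.map_ctr f, card_map_of_injective f.injective] at hZ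

end H18.BS
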