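import Cfsg.Agent.Lib.BStd.VU

/-!
# The normaliser of the odd core of the centraliser of `t` (helper18)
-/

set_option autoImplicit false

namespace H18.BS

open Cfsg H16 H95 H48.BR Subgroup H75.WC

variable {G : Type*} [Group G]

/-- modulo the odd order group `O`, the centraliser of `τ` in the normaliser of `O` is `2^(1+22).Co2` -/
structure Bo (G : Type*) [Group G] where
  t : G
  τ : G
  O : Subgroup G
  Q : Subgroup G
  M : Subgroup G
  π : G → V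
  lf : Lf τ Q π
  onto : ∀ a, ∃ x ∈ Q, π x = a
  tQ : t ∈ Q
  πt : π t = tb
  odd : Odd (Nat.card O)
  ne : O ≠ ⊥
  QO : ∀ x ∈ Q, ∀ o ∈ O, x * o = o * x
  act : ∀ y ∈ normalizer (O : Set G), y * τ = τ * y → ∃ γ, Act Q π y γ
  ker : ∀ y ∈ normalizer (O : Set G), y * τ = τ * y → Act Q π y 1 → ∃ q ∈ Q, ∃ o ∈ O, y = q * o
  full : ∀ γ, ∃ y, (∀ o ∈ O, y * o = o * y) ∧ y * τ = τ * y ∧ Act Q π y γ
  inv : ∃ c, (∀ o ∈ O, c * o = o * c) ∧ c * c = 1 ∧ c * τ = τ * c ∧ ∃ γ, γ ≠ 1 ∧ Act Q π c γ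
  PM : ∀ x ∈ Q, be (π x) tb = 0 → x ∈ M
  idx : ∀ x y, x * t = t * x → y * t = t * y → x ∈ M ∨ y ∈ M ∨ x * y ∈ M
  lb : ∀ g, g * t * g⁻¹ ∈ M → g ∈ normalizer (O : Set G)

namespace Bo

variable (B : Bo G)

/-- the normaliser of `O` -/
abbrev H : Subgroup G := normalizer (B.O : Set G)

theorem mem_H {y : G} (h : ∀ o ∈ B.O, y * o = o * y) : y ∈ B.H :=
  centralizer_le_normalizer _ fun o ho => (h o ho).symm

theorem QH : B.Q ≤ B.H := fun x hx => B.mem_H (B.QO x hx)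

theorem OH : B.O ≤ B.H := le_normalizer

theorem tt : B.t * B.t = 1 := (B.lf.sq_iff B.tQ).2 (B.πt ▸ ta_tb.qq)

theorem tM : B.t ∈ B.M := B.PM _ B.tQ (B.πt ▸ be_self _)

theorem ct {x : G} (h : x * B.t = B.t * x) : x ∈ B.H := B.lb x (by rw [h, mul_inv_cancel_right]; exact B.tM)

theorem uniq (d : G) (γ γ' : C2) (h : Act B.Q B.π d γ) (h' : Act B.Q B.π d γ') : γ = γ' :=
  (inv_mul_eq_one.1 (faithful fun a => by
    obtain ⟨x, hx, rfl⟩ := B.onto a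
    rw [mul_smul, ← (h' x hx).2, (h x hx).2, inv_smul_smul]))

theorem actO {o : G} (ho : o ∈ B.O) : Act B.Q B.π o 1 := Act.of_comm fun x hx => (B.QO x hx o ho).symm

theorem card_Q : Nat.card B.Q = 2 ^ 23 := by
  rw [B.lf.card le_rfl B.lf.mem, (AddSubgroup.eq_top_iff' (B.lf.img B.Q le_rfl)).2 B.onto, AddSubgroup.card_top,
    card_V]; rfl

variable [Finite G]

theorem odd_ord {o : G} (ho : o ∈ B.O) : Odd (orderOf o) := B.odd.of_dvd_nat (orderOf_dvd_natCard _ ho)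

theorem eq_one {o : G} (ho : o ∈ B.O) {m : ℕ} (h : o ^ 2 ^ m = 1) : o = 1 :=
  orderOf_eq_one_iff.1 (Nat.Coprime.eq_one_of_dvd ((Nat.coprime_two_right.2 (B.odd_ord ho)).pow_right m)
    (orderOf_dvd_of_pow_eq_one h))

theorem dec {y : G} (hy : y ∈ B.H) (h : y * B.τ = B.τ * y) :
    ∃ c, (∀ o ∈ B.O, c * o = o * c) ∧ ∃ o ∈ B.O, y = c * o := by
  obtain ⟨γ, a⟩ := B.act y hy h
  obtain ⟨z, z1, z2, z3⟩ := B.full γ
  obtain ⟨q, hq, o, ho, e⟩ := B.ker _ (mul_mem (inv_mem (B.mem_H z1)) hy)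
    (Commute.mul_left (Commute.inv_left z2) h) (inv_mul_cancel γ ▸ z3.inv.mul a)
  exact ⟨z * q, fun p hp => Commute.mul_left (z1 p hp) (B.QO q hq p hp), o, ho, by rw [mul_assoc, ← e]; group⟩

/-- the 2-elements of the centraliser of `τ` in `H` centralise `O` -/
theorem cen {y : G} (hy : y ∈ B.H) (h : y * B.τ = B.τ * y) {m : ℕ} (e : y ^ 2 ^ m = 1) {o : G} (ho : o ∈ B.O) :
    y * o = o * y := by
  obtain ⟨c, c1, p, hp, rfl⟩ := B.dec hy h
  have k : (c * p) ^ orderOf p ∈ centralizer ({o} : Set G) := by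
    rw [Commute.mul_pow (c1 p hp), pow_orderOf_eq_one, mul_one]
    exact pow_mem (mem_centralizer_singleton_iff.2 (c1 o ho)) _
  obtain ⟨j, hj⟩ := exists_pow_eq_self_of_coprime (x := c * p) (n := orderOf p)
    (((Nat.coprime_two_right.2 (B.odd_ord hp)).pow_right m).coprime_dvd_right (orderOf_dvd_of_pow_eq_one e))
  exact mem_centralizer_singleton_iff.1 (hj ▸ pow_mem k j)

/-- a 2-element which acts trivially lies in `Q` -/
theorem kerQ {y : G} (hy : y ∈ B.H) (h : y * B.τ = B.τ * y) (a : Act B.Q B.π y 1) {m : ℕ} (e : y ^ 2 ^ m = 1) :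
    y ∈ B.Q := by
  obtain ⟨q, hq, o, ho, rfl⟩ := B.ker y hy h a
  obtain ⟨j, hj⟩ := B.lf.two ⟨q, hq⟩
  have : o ^ 2 ^ (m + j) = 1 := by
    have e1 : (q * o) ^ 2 ^ (m + j) = 1 := by rw [pow_add, pow_mul, e, one_pow]
    have e2 : q ^ 2 ^ (m + j) = 1 := by
      rw [add_comm, pow_add, pow_mul, show q ^ 2 ^ j = 1 from congrArg Subtype.val hj, one_pow]
    rwa [Commute.mul_pow (B.QO q hq o ho), e2, one_mul] at e1
  rwa [B.eq_one ho this, mul_one]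

end Bo

end H18.BS
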