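import Cfsg.Agent.Lib.BStd.Bo
import Cfsg.Agent.Lib.BStd.Fus

set_option autoImplicit false

namespace H18.BS

open Cfsg H16 H95 H48.BR Subgroup H75.WC

variable {G : Type*} [Group G] [Finite G]

namespace BoF

theorem sixteen {γ : C2} (h : γ * γ = 1) (h1 : γ ≠ 1) : ∃ R : AddSubgroup V, 16 ≤ Nat.card R ∧
    ∀ c ∈ R, qq c = 0 ∧ ∃ a, γ • a + a = c := by
  let R : AddSubgroup V :=
    { carrier := {c | qq c = 0 ∧ ∃ a, γ • a + a = c}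
      zero_mem' := ⟨qq_zero, 0, by simp⟩
      add_mem' := by
        rintro _ _ ⟨p, a, rfl⟩ ⟨q, c, rfl⟩
        exact ⟨by rw [qq_add, p, q, Fus.be_rg h, add_zero, add_zero], a + c, by rw [smul_add]; abel⟩
      neg_mem' := fun {a} h => by rwa [neg_eq_of_add_eq_zero_left (add_self a)] }
  have k := card_le_two (A := R) (B := rg γ) (by
    intro _ p _ q
    obtain ⟨a, rfl⟩ := mem_rg.1 p
    obtain ⟨c, rfl⟩ := mem_rg.1 q
    rcases z2 (qq (γ • a + a)) with e | e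
    · exact Or.inl ⟨e, a, rfl⟩
    rcases z2 (qq (γ • c + c)) with f | f
    · exact Or.inr (Or.inl ⟨f, c, rfl⟩)
    · exact Or.inr (Or.inr ⟨by rw [qq_add, e, f, Fus.be_rg h]; rfl, a + c, by rw [smul_add]; abel⟩))
  have := inv32 h h1
  exact ⟨R, by omega, fun _ hc => hc⟩

end BoF

/-- control of the conjugates of `t` in the centraliser of `τ` -/
theorem Bo.f1 (B : Bo G) {x : G} (hx : x * B.τ = B.τ * x) (h : x * B.t * x⁻¹ ∈ B.H) : x ∈ B.H := by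
  obtain ⟨u, hu⟩ : ∃ u, u = x * B.t * x⁻¹ := ⟨_, rfl⟩
  rw [← hu] at h
  have cτ : ∀ e, e * B.τ = B.τ * e → x⁻¹ * e * x * B.τ = B.τ * (x⁻¹ * e * x) := fun e he =>
    (Commute.mul_left (Commute.mul_left (Commute.inv_left hx) he) hx).eq
  have uτ : u * B.τ = B.τ * u :=
    hu ▸ (Commute.mul_left (Commute.mul_left hx (B.lf.cent B.tQ)) (Commute.inv_left hx)).eq
  have uu : u * u = 1 := by rw [hu, conj_mul, B.tt, mul_one, mul_inv_cancel]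
  have xτ : x⁻¹ * B.τ * x = B.τ := by rw [mul_assoc, ← hx, inv_mul_cancel_left]
  have τM : B.τ ∈ B.M := B.PM _ B.lf.mem (by rw [B.lf.τ0]; simp)
  obtain ⟨γ, a⟩ := B.act u h uτ
  have g2 : γ * γ = 1 := B.uniq 1 _ _ (uu ▸ a.mul a) Act.one
  by_cases g1 : γ = 1
  · subst g1
    have uQ := B.kerQ h uτ a (m := 1) (by rw [pow_one, pow_two, uu])
    obtain ⟨b, hb, e⟩ := exists_ta (B.π u)
    obtain ⟨δ, rfl⟩ := ta_trans ta_tb hb
    obtain ⟨y, y1, -, y3⟩ := B.full δ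
    obtain ⟨m1, m2⟩ := y3.inv u uQ
    have := B.lb (y⁻¹ * x) (by
      rw [show y⁻¹ * x * B.t * (y⁻¹ * x)⁻¹ = y⁻¹ * u * y⁻¹⁻¹ by rw [hu]; group]
      exact B.PM _ m1 (by rw [m2, be_smul_left, inv_inv, be_comm, e]))
    exact (B.H.mul_mem_cancel_left (inv_mem (B.mem_H y1))).1 this
  exfalso
  obtain ⟨R, cR, hR⟩ := BoF.sixteen g2 g1
  let f : G → G := fun q => q * (u * q⁻¹ * u⁻¹)
  have f1 : ∀ q ∈ B.Q, f q ∈ B.Q := fun q hq => mul_mem hq (a _ (inv_mem hq)).1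
  have f2 : ∀ q ∈ B.Q, B.π (f q) = γ • B.π q + B.π q := fun q hq => by
    rw [B.lf.add _ hq _ (a _ (inv_mem hq)).1, (a _ (inv_mem hq)).2, B.lf.inv hq, add_comm]
  have f3 : ∀ q, f q * u = q * u * q⁻¹ := fun q => by simp only [f]; group
  have f4 : ∀ q ∈ B.Q, B.π (f q) ∈ R → x⁻¹ * f q * x * B.t = B.t * (x⁻¹ * f q * x) := fun q hq m => by
    have e1 := (B.lf.sq_iff (f1 q hq)).2 (hR _ m).1
    have e2 : f q * u * (f q * u) = 1 := by rw [f3, conj_mul, uu, mul_one, mul_inv_cancel]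
    have e3 : f q * u = u * f q := by
      rw [← inv_eq_of_mul_eq_one_right e2, mul_inv_rev, inv_eq_of_mul_eq_one_right e1, inv_eq_of_mul_eq_one_right uu]
    calc x⁻¹ * f q * x * B.t = x⁻¹ * (f q * u) * x := by rw [hu]; group
      _ = _ := by rw [e3, hu]; group
  have l : ∀ c ∈ R, ∃ q ∈ B.Q, B.π (f q) = c := fun c hc => by
    obtain ⟨-, b, rfl⟩ := hR c hc
    obtain ⟨q, hq, rfl⟩ := B.onto b
    exact ⟨q, hq, f2 q hq⟩
  let A : AddSubgroup V := R ⊓ B.lf.img (B.Q ⊓ B.M.comap (MulAut.conj x).symm.toMonoidHom) inf_le_left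
  have cA := card_le_two (A := A) (B := R) fun c hc d hd => by
    obtain ⟨p, hp, rfl⟩ := l c hc
    obtain ⟨q, hq, rfl⟩ := l d hd
    rcases B.idx _ _ (f4 p hp hc) (f4 q hq hd) with m | m | m
    · exact Or.inl ⟨hc, _, ⟨f1 p hp, m⟩, rfl⟩
    · exact Or.inr (Or.inl ⟨hd, _, ⟨f1 q hq, m⟩, rfl⟩)
    · exact Or.inr (Or.inr ⟨add_mem hc hd, _, ⟨mul_mem (f1 p hp) (f1 q hq), by
        show x⁻¹ * (f p * f q) * x ∈ B.M
        simpa only [mul_assoc, mul_inv_cancel_left] using m⟩, B.lf.add _ (f1 p hp) _ (f1 q hq)⟩)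
  have z : ∀ e ∈ B.Q, x⁻¹ * e * x ∈ B.Q → B.π (x⁻¹ * e * x) = 0 → B.π e = 0 := fun e he m k => by
    refine (B.lf.ker e he).2 (((B.lf.ker _ m).1 k).imp (fun k => ?_) fun k => ?_)
    · rwa [show x⁻¹ * e * x = x⁻¹ * e * x⁻¹⁻¹ by rw [inv_inv], conj_eq_one_iff] at k
    · simpa using k.trans xτ.symm
  have key : ∀ e ∈ B.Q, B.π e ∈ A → B.π e ≠ 0 → x⁻¹ * e * x ∈ B.Q ∧ Om (B.π (x⁻¹ * e * x) + tb) := by
    rintro e he ⟨m, e0, ⟨h0, m0⟩, k0⟩ n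
    obtain ⟨q, hq, k⟩ := l _ m
    have m1 : x⁻¹ * f q * x ∈ B.M := by
      rcases (B.lf.eq_iff h0 (f1 q hq)).1 (k0.trans k.symm) with k1 | k1 <;> rw [k1]
      · exact m0
      · rw [show x⁻¹ * (e0 * B.τ) * x = x⁻¹ * e0 * x * (x⁻¹ * B.τ * x) by group, xτ]
        exact mul_mem m0 τM
    have e1 : x⁻¹ * q * x * B.t * (x⁻¹ * q * x)⁻¹ = x⁻¹ * f q * x * B.t := by
      simp only [f]; rw [hu]; group
    obtain ⟨δ, d⟩ := B.act _ (B.lb (x⁻¹ * q * x) (e1 ▸ mul_mem m1 B.tM)) (cτ q (B.lf.cent hq))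
    obtain ⟨d1, d2⟩ := d _ B.tQ
    rw [e1] at d1 d2
    have d3 := (B.Q.mul_mem_cancel_right B.tQ).1 d1
    rw [B.lf.add _ d3 _ B.tQ, B.πt] at d2
    have o : Om (B.π (x⁻¹ * f q * x) + tb) := ⟨d2 ▸ ta_tb.smul δ, by
      rw [be_add_left, be_self, add_zero, ← B.πt]; exact (B.lf.commute_iff d3 B.tQ).1 (f4 q hq (k ▸ m)),
      fun k1 => n (k ▸ z _ (f1 q hq) d3 (add_eq_right.1 k1))⟩
    rcases (B.lf.eq_iff (f1 q hq) he).1 k with k1 | k1 <;> rw [k1]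
    · exact ⟨d3, o⟩
    · rw [show x⁻¹ * (f q * B.τ) * x = x⁻¹ * f q * x * (x⁻¹ * B.τ * x) by group, xτ, B.lf.mulτ d3]
      exact ⟨mul_mem d3 B.lf.mem, o⟩
  obtain ⟨c1, m1, c2, m2, c3, m3, n1, n2, n3, n4, n5, n6, n7⟩ := three (A := A) (by omega)
  obtain ⟨p, hp, rfl⟩ := B.onto c1
  obtain ⟨q, hq, rfl⟩ := B.onto c2
  obtain ⟨r, hr, rfl⟩ := B.onto c3
  have ad : ∀ p q, x⁻¹ * (p * q) * x = x⁻¹ * p * x * (x⁻¹ * q * x) := fun p q => by group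
  have two : ∀ p ∈ B.Q, ∀ q ∈ B.Q, B.π p ∈ A → B.π q ∈ A → B.π p ≠ 0 → B.π q ≠ 0 → B.π p + B.π q ≠ 0 →
      Om (B.π (x⁻¹ * p * x) + B.π (x⁻¹ * q * x) + tb) := fun p hp q hq m1 m2 n1 n2 n => by
    rw [← B.lf.add _ (key p hp m1 n1).1 _ (key q hq m2 n2).1, ← ad]
    exact (key _ (mul_mem hp hq) (B.lf.add _ hp _ hq ▸ add_mem m1 m2) (B.lf.add _ hp _ hq ▸ n)).2
  obtain ⟨p1, p2⟩ := key p hp m1 n1
  obtain ⟨q1, q2⟩ := key q hq m2 n2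
  obtain ⟨r1, r2⟩ := key r hr m3 n3
  have := nopure p2 q2 r2 (two p hp q hq m1 m2 n1 n2 n4) (two p hp r hr m1 m3 n1 n3 n5)
    (two q hq r hr m2 m3 n2 n3 n6)
  rw [← B.lf.add _ p1 _ q1, ← B.lf.add _ (mul_mem p1 q1) _ r1, ← ad, ← ad] at this
  have := z _ (mul_mem (mul_mem hp hq) hr) (by rw [ad, ad]; exact mul_mem (mul_mem p1 q1) r1) this
  rw [B.lf.add _ (mul_mem hp hq) _ hr, B.lf.add _ hp _ hq] at this
  exact n7 this

end H18.BS
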