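import Cfsg.Agent.Lib.BStd.St
import Cfsg.Agent.Lib.BStd.VC

/-! Control of the conjugates of `t` in the centraliser of `τ` -/

set_option autoImplicit false

namespace H18.BS

open Cfsg H16 H95 H48.BR Subgroup H75.WC

variable {G : Type*} [Group G] [Finite G]

namespace F1

omit [Finite G] in
theorem ne0 (S : St2 G) {u : G} (hu : u ∈ S.Q) (c : IsConj S.t u) : S.π u ≠ 0 := fun e =>
  ((S.lfQ.ker u hu).1 e).elim (fun f => S.t_ne (isConj_one_right.1 (f ▸ c.symm))) fun f => S.nc (f ▸ c)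

/-- an element centralising `τ` and mapping a short involution of `Q` to another one -/
theorem memY {S : St2 G} (h : S.Full) {y a : G} (hy : y * S.τ = S.τ * y) (ha : a ∈ S.Q) (ta : TA (S.π a))
    (e : y * S.t * y⁻¹ = a) : y ∈ S.Y := by
  obtain ⟨γ, hγ⟩ := ta_trans ta_tb ta
  obtain ⟨k, k1, k2, k3⟩ := h.conj S.tQ ha ta.ne (S.πt.symm ▸ hγ)
  have := mul_mem (S.mem_Y.2 ⟨k1, γ, k2⟩) (S.DY (S.mem_D.2 ⟨mul_inv_eq_iff_eq_mul.1 (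
    calc k⁻¹ * y * S.t * (k⁻¹ * y)⁻¹ = k⁻¹ * (y * S.t * y⁻¹) * k := by group
      _ = S.t := by rw [e, ← k3]; group), Commute.mul_left (Commute.inv_left k1) hy⟩))
  rwa [mul_inv_cancel_left] at this

theorem t2 {S : St2 G} (h : S.Full) {u : G} (hu : u ∈ S.Q) (c : IsConj S.t u) {x : V} (hx : TA x)
    (b : be x (S.π u) = 0) : ∃ g, g * S.τ = S.τ * g ∧ g * S.t * g⁻¹ = u := by
  obtain ⟨g, e⟩ := isConj_iff.1 c
  obtain ⟨σ, ⟨d, hd, f⟩, k⟩ := (S.toSt.cj g).fix_sg (N := S.Q ⊓ centralizer {u}) (S.lfQ.two.to_inf_left)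
    fun x hx => by rw [St.cj_t, e]; exact mem_centralizer_singleton_iff.1 hx.2
  rw [St.cj_t, e] at hd
  have k' : ∀ y ∈ S.Q, be (S.π y) (S.π u) = 0 → σ * y = y * σ := fun y hy b =>
    k y ⟨hy, mem_centralizer_singleton_iff.2 ((S.lfQ.commute_iff hy hu).2 b)⟩
  have sτ := k' _ S.lfQ.mem (by rw [S.lfQ.τ0, map_zero]; rfl)
  obtain ⟨a, ha, rfl⟩ := S.ontoQ x
  obtain ⟨γ, hγ⟩ := ta_trans ta_tb hx
  obtain ⟨l, l1, l2, l3⟩ := h.conj S.tQ ha hx.ne (S.πt.symm ▸ hγ)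
  have lY : l ∈ S.Y := ⟨l1, γ, l2⟩
  have sY : σ ∈ S.Y := (S.Y.mul_mem_cancel_right lY).1 (memY h (Commute.mul_left sτ l1) ha hx (by
    rw [mul_inv_rev, mul_assoc σ, mul_assoc σ, ← mul_assoc _ l⁻¹, l3, ← mul_assoc, k' a ha b, mul_inv_cancel_right]))
  have sQ : σ ∈ S.Q := (S.ψ_ker (y := ⟨σ, sY⟩)).1 (siegel (be_self (S.π u)) fun c h1 _ => by
    obtain ⟨y, hy, rfl⟩ := S.ontoQ c
    rw [← (S.ψ_act _ y hy).2, k' y hy ((be_comm _ _).trans h1), mul_inv_cancel_right])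
  have cσ : IsConj S.τ σ := isConj_iff.2 ⟨d * g, by rw [← f, St.cj_τ]; group⟩
  rcases mem_one (x := S.π u) (a := S.π σ) fun c h1 => (by
    obtain ⟨y, hy, rfl⟩ := S.ontoQ c
    exact (S.lfQ.commute_iff hy sQ).1 (k' y hy ((be_comm _ _).trans h1)).symm) with z | z
  · rcases (S.lfQ.ker σ sQ).1 z with z | z
    · exact (S.lf.ne (isConj_one_right.1 (z ▸ cσ.symm))).elim
    · refine ⟨d * g, mul_inv_eq_iff_eq_mul.1 (Eq.trans (by rw [St.cj_τ]; group) (f.trans z)), ?_⟩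
      rw [← mul_inv_eq_iff_eq_mul.2 hd, ← e]; group
  · obtain ⟨q, -, r⟩ := S.conjQ hu (ne0 S hu c)
    rcases (S.lfQ.eq_iff hu sQ).1 z.symm with z | z
    · exact (S.nc (c.trans (z ▸ cσ.symm))).elim
    · exact (S.nc ((c.trans (isConj_iff.2 ⟨q, r⟩)).trans (z ▸ cσ.symm))).elim

omit [Finite G] in
theorem np (S : St2 G) (T : St G) (e : T.τ = S.τ) {b₁ b₂ b₃ : V} (h0 : b₁ + b₂ + b₃ ≠ 0)
    (h : ∀ c ∈ ({b₁, b₂, b₃, b₁ + b₂, b₁ + b₃, b₂ + b₃} : Set V), c ≠ 0 ∧ ∀ y ∈ S.Q, S.π y = c → Sg T.t T.τ y) :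
    False := by
  have k : ∀ y ∈ S.Q, S.π y ∈ ({b₁, b₂, b₃, b₁ + b₂, b₁ + b₃, b₂ + b₃} : Set V) → y ∈ T.P ∧ Om (T.π y + tb) :=
    fun y hy m => by
      have p := T.col y ((h _ m).2 y hy rfl) ((h _ m).2 _ (e ▸ mul_mem hy S.lfQ.mem) (e ▸ S.lfQ.mulτ hy))
      exact ⟨p, ((T.sig y p).1 ((h _ m).2 y hy rfl)).resolve_left fun f => (h _ m).1 (by rw [f, e, S.lfQ.τ0])⟩
  obtain ⟨x, hx, rfl⟩ := S.ontoQ b₁
  obtain ⟨y, hy, rfl⟩ := S.ontoQ b₂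
  obtain ⟨z, hz, rfl⟩ := S.ontoQ b₃
  have k1 := k x hx (by simp)
  have k2 := k y hy (by simp)
  have k3 := k z hz (by simp)
  have := nopure k1.2 k2.2 k3.2 (T.lf.add _ k1.1 _ k2.1 ▸ (k _ (mul_mem hx hy) (by simp [S.lfQ.add _ hx _ hy])).2)
    (T.lf.add _ k1.1 _ k3.1 ▸ (k _ (mul_mem hx hz) (by simp [S.lfQ.add _ hx _ hz])).2)
    (T.lf.add _ k2.1 _ k3.1 ▸ (k _ (mul_mem hy hz) (by simp [S.lfQ.add _ hy _ hz])).2)
  rw [← T.lf.add _ k1.1 _ k2.1, ← T.lf.add _ (mul_mem k1.1 k2.1) _ k3.1,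
    T.lf.ker _ (mul_mem (mul_mem k1.1 k2.1) k3.1), e, ← S.lfQ.ker _ (mul_mem (mul_mem hx hy) hz),
    S.lfQ.add _ (mul_mem hx hy) _ hz, S.lfQ.add _ hx _ hy] at this
  exact h0 this

omit [Finite G] in
/-- lifts of the classes in the standard frame -/
theorem memB (S : St2 G) {w : G} (hw : w ∈ S.Q) (h : S.π w = 0 ∨ (TA (S.π w) ∧ TA (S.π w + bb))) :
    w ∈ (S.cj S.c).P := by
  have k : ∀ w ∈ S.Q, ∀ i, Pt i → S.π w = xx i → w ∈ (S.cj S.c).P := fun w hw i hi e =>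
    S.inE w (S.QP w hw (e ▸ be_xx_tb i)) i hi e
  rcases h with h | h
  · simpa using mul_mem (inv_mem (k _ S.tQ _ pt_one (S.πt.trans xx_one.symm))) (k _ (mul_mem S.tQ hw) _ pt_one (by
      rw [S.lfQ.add _ S.tQ _ hw, h, add_zero, S.πt, xx_one]))
  · obtain ⟨i, hi, e | e⟩ := pair_xx h.1 h.2
    · exact k w hw i hi e
    · exact (mul_mem_cancel_right (S.cτ ▸ (S.cj S.c).lf.mem)).1 (k _ (mul_mem hw (S.PQ S.βP)) i hi (by
        rw [S.lfQ.add _ hw _ (S.PQ S.βP), e, S.πβ, add_assoc, add_self, add_zero]))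

theorem ic {S : St2 G} (h : S.Full) {u : G} (hu : u ∈ S.Q) (c : IsConj S.t u) : TA (S.π u) := by
  have uu : u * u = 1 := by
    obtain ⟨g, rfl⟩ := isConj_iff.1 c
    rw [conj_mul, S.tt, mul_one, mul_inv_cancel]
  have cβ : ∀ e ∈ S.Q, TB (S.π e) → ∃ k γ, k * S.τ = S.τ * k ∧ Act S.Q S.π k γ ∧ γ • bb = S.π e ∧
      k * S.β * k⁻¹ = e := fun e he t => by
    obtain ⟨γ, hγ⟩ := tb_trans tb_bb t
    obtain ⟨k, k1, k2, k3⟩ := h.conj (S.PQ S.βP) he t.ne (S.πβ.symm ▸ hγ)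
    exact ⟨k, γ, k1, k2, hγ, k3⟩
  rcases ta_or (ne0 S hu c) ((S.lfQ.sq_iff hu).1 uu) with t | t | ⟨b₁, b₂, b₃, h0, t⟩
  · exact t
  · obtain ⟨k, γ, -, -, -, e⟩ := cβ u hu t
    exact (S.nc (c.trans (S.sg_β.isConj.trans (isConj_iff.2 ⟨k, e⟩)).symm)).elim
  obtain ⟨-, x, -, -, -, b, tx, -⟩ := t b₁ (by simp)
  obtain ⟨g, g1, g2⟩ := t2 h hu c tx b
  have gτ : (S.toSt.cj g).τ = S.τ := mul_inv_eq_iff_eq_mul.2 g1
  refine (np S (S.toSt.cj g) gτ h0 fun b hb => ⟨(t b hb).1.ne, fun e he f => ?_⟩).elim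
  obtain ⟨tb', x, y, z, s, -, tx, ty, tz, tx', ty', tz'⟩ := t b hb
  obtain ⟨k, γ, k1, k2, k3, k4⟩ := cβ e he (f ▸ tb')
  have m : ∀ x, TA x → TA (x + b) → ∃ w ∈ S.Q, S.π w = γ⁻¹ • x ∧ w ∈ (S.cj S.c).P := fun x h1 h2 => by
    obtain ⟨w, hw, r⟩ := S.ontoQ (γ⁻¹ • x)
    refine ⟨w, hw, r, memB S hw (Or.inr ⟨r ▸ h1.smul _, ?_⟩)⟩
    have := h2.smul γ⁻¹
    rwa [smul_add, ← f, ← k3, inv_smul_smul, ← r] at this
  obtain ⟨x', x1, x2, x3⟩ := m x tx tx'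
  obtain ⟨y', y1, y2, y3⟩ := m y ty ty'
  obtain ⟨z', z1, z2, z3⟩ := m z tz tz'
  obtain ⟨u1, u2⟩ := k2.inv u hu
  have p := mul_mem (mul_mem x1 y1) z1
  have uP : k⁻¹ * u * k⁻¹⁻¹ ∈ (S.cj S.c).P := (mul_mem_cancel_left (mul_mem (mul_mem x3 y3) z3)).1
    (memB S (mul_mem p u1) (Or.inl (by
      rw [S.lfQ.add _ p _ u1, S.lfQ.add _ (mul_mem x1 y1) _ z1, S.lfQ.add _ x1 _ y1, u2, x2, y2, z2, s, smul_add,
        smul_add, add_self])))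
  have ct : (S.cj S.c).t = S.t := mul_inv_eq_iff_eq_mul.2 S.ct
  obtain ⟨l, l1, l2⟩ := t2 (h.cj S.c) ((S.cj S.c).PQ uP) (ct ▸ c.trans (isConj_iff.2 ⟨_, rfl⟩)) ta_tb
    ((be_comm _ _).trans ((S.cj S.c).perp _ uP))
  rw [ct] at l2
  have l3 : l * S.β * l⁻¹ = S.β := S.cτ ▸ mul_inv_eq_iff_eq_mul.2 l1
  refine ⟨k * l * S.c * g⁻¹, mul_inv_eq_iff_eq_mul.1 ?_, ?_⟩
  · calc _ = k * (l * (S.c * S.t * S.c⁻¹) * l⁻¹) * k⁻¹ := by rw [St.cj_t]; group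
      _ = _ := by rw [S.ct, mul_inv_cancel_right, l2, St.cj_t, g2]; group
  · calc _ = k * (l * (S.c * S.τ * S.c⁻¹) * l⁻¹) * k⁻¹ := by rw [St.cj_τ]; group
      _ = _ := by rw [S.cτ, l3, k4]

end F1

open F1 in
theorem St2.f1 (S : St2 G) (h : S.Full) {x : G} (hx : x * S.τ = S.τ * x) (m : x * S.t * x⁻¹ ∈ S.Y) : x ∈ S.Y := by
  have c : IsConj S.t (x * S.t * x⁻¹) := isConj_iff.2 ⟨x, rfl⟩
  by_cases q : x * S.t * x⁻¹ ∈ S.Q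
  · exact memY h hx q (ic h q c) rfl
  exfalso
  have hT := h.cj x
  have e1 : (S.cj x).t = x * S.t * x⁻¹ := rfl
  have e2 : (S.cj x).τ = S.τ := mul_inv_eq_iff_eq_mul.2 hx
  generalize S.cj x = T at hT e1 e2
  rw [← e1] at m q c
  have a := S.ψ_act ⟨_, m⟩
  have g1 : S.ψ ⟨_, m⟩ ≠ 1 := fun e => q (S.ψ_ker.1 e)
  have g2 : S.ψ ⟨_, m⟩ * S.ψ ⟨_, m⟩ = 1 := by rw [← map_mul, ← map_one S.ψ]; exact congrArg _ (Subtype.ext T.tt)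
  generalize S.ψ ⟨_, m⟩ = γ at a g1 g2
  have ti : T.t⁻¹ = T.t := inv_eq_of_mul_eq_one_right T.tt
  have iso : ∀ a ∈ rg γ, ∀ b ∈ rg γ, qq (a + b) = qq a + qq b := by
    rintro _ ⟨a, rfl⟩ _ ⟨b, rfl⟩
    change qq (γ • a + a + (γ • b + b)) = qq (γ • a + a) + qq (γ • b + b)
    rw [qq_add, be_add_left, be_add_right, be_add_right, be_smul, be_smul_left, inv_eq_of_mul_eq_one_right g2]
    generalize be a b = r, be a (γ • b) = s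
    rw [add_eq_left]; revert r s; decide
  -- lifts of the singular commutators
  have lift : ∀ e ∈ S.Q, S.π e ∈ rg γ → IsConj T.t (e * T.t) := by
    rintro e he ⟨b, hb⟩
    obtain ⟨y, hy, rfl⟩ := S.ontoQ b
    obtain ⟨a1, a2⟩ := a _ (inv_mem hy)
    obtain ⟨p, -, r⟩ := T.conjQ T.tQ (T.πt ▸ tb_ne)
    rcases (S.lfQ.eq_iff (mul_mem hy a1) he).1 (by
      rw [S.lfQ.add _ hy _ a1, a2, S.lfQ.inv hy, add_comm]; exact hb) with rfl | rfl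
    · exact isConj_iff.2 ⟨y, by group⟩
    · refine isConj_iff.2 ⟨y * p, ?_⟩
      calc _ = y * (p * T.t * p⁻¹) * y⁻¹ := by group
        _ = _ := by
          rw [r, e2, mul_assoc _ S.τ, ← m.1, ← mul_assoc y, mul_assoc _ S.τ, ← S.lfQ.cent (inv_mem hy)]; group
  have sq : ∀ e ∈ S.Q, S.π e ∈ rg γ → e * T.t * (e * T.t) = 1 := fun e he r => by
    obtain ⟨g, f⟩ := isConj_iff.1 (lift e he r)
    rw [← f, conj_mul, T.tt, mul_one, mul_inv_cancel]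
  have cm : ∀ e ∈ S.Q, S.π e ∈ rg γ → qq (S.π e) = 0 → e * T.t = T.t * e := fun e he r z => by
    rw [← inv_eq_of_mul_eq_one_right (sq e he r), mul_inv_rev, ti,
      inv_eq_of_mul_eq_one_right ((S.lfQ.sq_iff he).2 z)]
  let A : AddSubgroup V :=
    { carrier := {a | a ∈ rg γ ∧ qq a = 0}
      zero_mem' := ⟨zero_mem _, qq_zero⟩
      add_mem' := fun h1 h2 => ⟨add_mem h1.1 h2.1, by rw [iso _ h1.1 _ h2.1, h1.2, h2.2, add_zero]⟩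
      neg_mem' := fun {a} h => by rwa [neg_eq_of_add_eq_zero_left (add_self a)] }
  let B := A ⊓ S.lfQ.img (S.Q ⊓ T.M) inf_le_left
  have n1 := inv32 g2 g1
  have n2 := card_le_two (A := A) (B := rg γ) fun a ha b hb => by
    rcases z2 (qq a) with z | z
    · exact Or.inl ⟨ha, z⟩
    rcases z2 (qq b) with w | w
    · exact Or.inr (Or.inl ⟨hb, w⟩)
    exact Or.inr (Or.inr ⟨add_mem ha hb, by rw [iso a ha b hb, z, w]; rfl⟩)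
  have n3 := card_le_two (A := B) (B := A) fun a ha b hb => by
    obtain ⟨y, hy, rfl⟩ := S.ontoQ a
    obtain ⟨z, hz, rfl⟩ := S.ontoQ b
    exact (T.idx y z (cm y hy ha.1 ha.2) (cm z hz hb.1 hb.2)).imp (fun k => ⟨ha, y, ⟨hy, k⟩, rfl⟩)
      (Or.imp (fun k => ⟨hb, z, ⟨hz, k⟩, rfl⟩) fun k => ⟨add_mem ha hb, _, ⟨mul_mem hy hz, k⟩, S.lfQ.add _ hy _ hz⟩)
  have key : ∀ b ∈ B, b ≠ 0 → b ≠ 0 ∧ ∀ y ∈ S.Q, S.π y = b → Sg T.t T.τ y := by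
    rintro _ ⟨hb, z, hz, rfl⟩ b0
    refine ⟨b0, fun y hy f => ?_⟩
    have yM : y ∈ T.M := by
      rcases (S.lfQ.eq_iff hz.1 hy).1 f.symm with rfl | rfl
      exacts [hz.2, mul_mem hz.2 (e2 ▸ T.PM T.lf.mem)]
    rw [← f] at hb b0
    obtain ⟨d, d1, d2, -⟩ := T.cls _ (mul_mem yM (T.PM T.tP)) (sq y hy hb.1)
    have ta := ic hT (T.PQ d2) ((lift y hy hb.1).trans (isConj_iff.2 ⟨d, rfl⟩))
    have r : d * (y * T.t) * d⁻¹ = d * y * d⁻¹ * T.t := by rw [← conj_mul, d1, mul_inv_cancel_right]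
    rw [r] at d2 ta
    have p := (mul_mem_cancel_right T.tP).1 d2
    rw [T.lf.add _ p _ T.tP, T.πt] at ta
    have := ((T.sig _ p).2 (or_iff_not_imp_left.2 fun n => ⟨ta, by
      rw [be_add_left, T.perp _ p, be_self, add_zero], fun w => ((T.lf.ker _ p).1 (add_eq_right.1 w)).elim
        (fun o => b0 (by rw [conj_eq_one_iff.1 o, S.lfQ.one])) n⟩)).conj (Commute.inv_left d1).eq
    simpa [mul_assoc] using this
  obtain ⟨b₁, m₁, b₂, m₂, b₃, m₃, z₁, z₂, z₃, z₄, z₅, z₆, z₇⟩ := three (A := B) (by omega)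
  refine np S T.toSt e2 z₇ ?_
  rintro _ (rfl | rfl | rfl | rfl | rfl | rfl)
  exacts [key _ m₁ z₁, key _ m₂ z₂, key _ m₃ z₃, key _ (add_mem m₁ m₂) z₄, key _ (add_mem m₁ m₃) z₅,
    key _ (add_mem m₂ m₃) z₆]

end H18.BS
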