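import Cfsg.Agent.Lib.StdM.TyS
import Cfsg.Agent.Lib.Schur.Main
import Cfsg.Agent.S2109

/-!
# A double cover of ²E6(2) is a quotient of the centraliser of a pure four-group of the Monster (helper18)
-/

set_option autoImplicit false

namespace H18.BS

open Subgroup Cfsg H16 H95 H95.Gr H7.SM H18.E6N

theorem hom_uniq {K X : Type*} [Group K] [Group X] (hp : commutator K = ⊤) (α β : K →* X)
    (key : ∀ a, (β a)⁻¹ * α a ∈ center X) (a : K) : α a = β a := by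
  let ψ : K →* center X := MonoidHom.mk' (fun a => ⟨_, key a⟩) fun a b => Subtype.ext (by
    have := mem_center_iff.1 (key a) (β b)⁻¹
    simp only [map_mul, mul_inv_rev, coe_mul]
    calc _ = (β b)⁻¹ * ((β a)⁻¹ * α a) * α b := by group
      _ = _ := by rw [this]; group)
  have h1 : ψ a = 1 := (show commutator K ≤ ψ.ker from commutator_le.2 fun x _ y _ => by
    rw [MonoidHom.mem_ker, map_commutatorElement, commutatorElement_eq_one_iff_mul_comm]
    exact Subtype.ext (mem_center_iff.1 (key y) _)) (hp.ge (mem_top a))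
  exact (inv_mul_eq_one.1 (congrArg Subtype.val h1)).symm

theorem card_of_surj {X Y : Type*} [Group X] [Group Y] (f : X →* Y) (s : Function.Surjective f) :
    Nat.card X = Nat.card Y * Nat.card f.ker := by
  rw [card_eq_card_quotient_mul_card_subgroup f.ker,
    Nat.card_congr (QuotientGroup.quotientKerEquivOfSurjective f s).toEquiv]

/-- a perfect fourfold cover of ²E6(2) maps to every central extension by a 2-group -/
theorem lift4 {K X : Type*} [Group K] [Group X] (p : commutator K = ⊤) (ψ : K →* T) (s : Function.Surjective ψ)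
    (k : ψ.ker ≤ center K) (c : Nat.card ψ.ker = 4) (μ : X →* T) (s' : Function.Surjective μ)
    (k' : μ.ker ≤ center X) (h3 : ∀ x, μ x = 1 → x ^ 3 = 1 → x = 1) :
    ∃ θ : K →* X, (∀ a, μ (θ a) = ψ a) ∧ θ.range = commutator X := by
  have hA := Agent.S2109.result (K := H30.F4) rfl
  obtain ⟨Γ, _, _, σ, hσ, ⟨e⟩⟩ := hA.1
  have ce := Nat.card_congr e.toEquiv
  obtain ⟨η, h1, r1⟩ := H78.Schur.exists_hom_commutator hA hσ ce.ge ψ s k
  obtain ⟨ζ, h2, r2⟩ := H78.Schur.exists_hom_commutator hA hσ ce.ge μ s' k'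
  have sη : Function.Surjective η := MonoidHom.range_eq_top.1 (r1.trans p)
  have c1 := card_of_surj η sη
  have c2 := card_of_surj (σ.comp (commutator Γ).subtype) (h1 ▸ s.comp sη)
  rw [← MonoidHom.comap_ker, show σ.ker.comap (commutator Γ).subtype = σ.ker.subgroupOf _ from rfl,
    Nat.card_congr (subgroupOfEquivOfLe hσ.2.2).toEquiv, ce, c1, card_of_surj ψ s, c, card_T,
    Nat.card_congr Multiplicative.toAdd] at c2
  simp only [Nat.card_prod, Nat.card_zmod] at c2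
  have l : η.ker ≤ ζ.ker := fun x hx => h3 _ (by
    rw [show μ (ζ x) = ψ (η x) from (DFunLike.congr_fun h2 x).trans (DFunLike.congr_fun h1 x).symm,
      show η x = 1 from hx, map_one]) (by
    rw [← map_pow, show x ^ 3 = 1 from congrArg Subtype.val ((by omega : Nat.card η.ker = 3) ▸
      pow_card_eq_one' (x := (⟨x, hx⟩ : η.ker))), map_one])
  have q := fun x => η.liftOfRightInverse_comp_apply _ (Function.rightInverse_surjInv sη) ⟨ζ, l⟩ x
  refine ⟨η.liftOfRightInverse _ (Function.rightInverse_surjInv sη) ⟨ζ, l⟩, fun a => ?_, r2 ▸ Subgroup.ext fun x =>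
    ⟨fun ⟨a, f⟩ => ?_, fun ⟨a, f⟩ => ⟨η a, (q a).trans f⟩⟩⟩
  · obtain ⟨a, rfl⟩ := sη a
    rw [q]; exact (DFunLike.congr_fun h2 a).trans (DFunLike.congr_fun h1 a).symm
  · obtain ⟨a, rfl⟩ := sη a
    exact ⟨a, (q a).symm.trans f⟩

theorem ix_of_cls {v : Lam} {x : GG} (h : cls v x) (hv : sqNorm v.1 = 32) : IX x := by
  obtain ⟨c, -, e⟩ := mon.conj_of_norm32 cls_t0 h norm_U hv
  exact isConj_iff.2 ⟨c, e⟩

/-- the second generator of the pure four-group -/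
noncomputable def x1 : GG := (mon.ex_elt H16.vX).choose

theorem cls_x1 : cls H16.vX x1 := (mon.ex_elt H16.vX).choose_spec

theorem inD_x1 : InD t0 x1 :=
  ⟨ix_of_cls cls_x1 norm_X, ix_of_cls (v := H16.vU - H16.vX) (mon.congr (mon.add cls_t0 cls_x1) (cg_iff.2 ⟨H16.vX, by abel⟩)) (by
    rw [AddSubgroup.coe_sub, sqNorm_sub, norm_U, norm_X, dot_UX]; norm_num)⟩

/-- the group `2².²E6(2)` -/
noncomputable abbrev K0 : Subgroup GG := H7.SM.C2 t0 x1

theorem c01 : Commute t0 x1 := inD_x1.comm ix_t0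

theorem v4_mem {v : GG} (hv : V4 t0 x1 v) : v ∈ K0 := mem_C2.2 ⟨(hv.comm rfl c01).symm, (hv.comm c01.symm rfl).symm⟩

theorem t0K : t0 ∈ K0 := v4_mem (Or.inr (Or.inl rfl))

theorem x1K : x1 ∈ K0 := v4_mem (Or.inr (Or.inr (Or.inl rfl)))

theorem v4_inD {p q : GG} (hp : V4 t0 x1 p) (hq : V4 t0 x1 q) (p1 : p ≠ 1) (q1 : q ≠ 1) (n : p ≠ q) :
    IX p ∧ InD p q := by
  have d := inD_symm ix_t0 inD_x1
  have d' : InD x1 (t0 * x1) := c01.eq ▸ d.mul inD_x1.1
  rcases hp with rfl | rfl | rfl | rfl <;> rcases hq with rfl | rfl | rfl | rfl <;> try contradiction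
  exacts [⟨ix_t0, inD_x1⟩, ⟨ix_t0, inD_x1.mul ix_t0⟩, ⟨inD_x1.1, d⟩, ⟨inD_x1.1, d'⟩,
    ⟨inD_x1.2, inD_symm ix_t0 (inD_x1.mul ix_t0)⟩, ⟨inD_x1.2, inD_symm inD_x1.1 d'⟩]

theorem norm_K0 {g : GG} (h1 : V4 t0 x1 (cj g t0)) (h2 : V4 t0 x1 (cj g x1)) : g ∈ normalizer (K0 : Set GG) :=
  inv_mem_iff.1 (mem_normalizer_of_finite fun x hx => by
    have := fun {v} (hv : V4 t0 x1 (cj g v)) => (hv.comm (mem_C2.1 hx).1 (mem_C2.1 hx).2).map (cj g⁻¹)
    simp only [cj_cj] at this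
    exact mem_C2.2 ⟨this h1, this h2⟩)

/-- every surjective endomorphism is induced by conjugation in the Monster -/
theorem aut_K0 (β : K0 →* K0) (s : Function.Surjective β) : ∃ g : GG, ∀ k : K0, (β k).1 = cj g k := by
  obtain ⟨-, -, ψ, -, k, k'⟩ := exists_psi2 ix_t0 inD_x1
  let b : MulAut K0 := MulEquiv.ofBijective β (Finite.surjective_iff_bijective.1 s)
  have v : ∀ {x} (h : V4 t0 x1 x), V4 t0 x1 (b ⟨x, v4_mem h⟩).1 := fun h =>
    (k _).1 ((k' _).2 ((H78.Schur.map_center_equiv b).2 ((k' _).1 ((k _).2 h))))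
  have v1 := v (Or.inr (Or.inl rfl))
  have v2 := v (Or.inr (Or.inr (Or.inl rfl)))
  obtain ⟨i, j⟩ := v4_inD v1 v2
    (fun e => ix_t0.ne_one (congrArg Subtype.val (b.map_eq_one_iff.1 (Subtype.ext e))))
    (fun e => inD_x1.1.ne_one (congrArg Subtype.val (b.map_eq_one_iff.1 (Subtype.ext e))))
    fun e => inD_ne ix_t0 inD_x1 (congrArg Subtype.val (b.injective (Subtype.ext e)))
  obtain ⟨g, e1, e2⟩ := pair_trans ix_t0 inD_x1 i j
  have n := norm_K0 (e1 ▸ v1) (e2 ▸ v2)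
  obtain ⟨e, he⟩ := inner_s ix_t0 inD_x1 ((normalizerMonoidHom _ ⟨g, n⟩)⁻¹ * b)
    (fun m => (congrArg (cj g⁻¹) e1.symm).trans (cj_cj _ _)) fun m => (congrArg (cj g⁻¹) e2.symm).trans (cj_cj _ _)
  exact ⟨g * e, fun k => by
    rw [cj_mul]; exact (cj_cj' g _).symm.trans (congrArg (cj g) (congrArg Subtype.val (he k)))⟩

variable {G : Type*} [Group G]

/-- `c` acts on the image as `g` does -/
def Rl (ϑ : GG → G) (c : G) (g : GG) : Prop := g ∈ HH ∧ ∀ k ∈ K0, cj g k ∈ K0 ∧ ϑ (cj g k) = c * ϑ k * c⁻¹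

/-- the centraliser of `t` is described by the Monster -/
structure Th (ϑ : GG → G) (t : G) : Prop where
  mul : ∀ a ∈ K0, ∀ b ∈ K0, ϑ (a * b) = ϑ a * ϑ b
  ker : ∀ a ∈ K0, (ϑ a = 1 ↔ a = 1 ∨ a = t0)
  x : ϑ x1 = t
  ex1 : ∀ c, c * t = t * c → ∃ g, Rl ϑ c g
  out : ∃ c, c * t = t * c ∧ ¬ ∃ k ∈ K0, ϑ k = c
  idx : ∀ x y, x * t = t * x → y * t = t * y → (∃ k ∈ K0, ϑ k = x) ∨ (∃ k ∈ K0, ϑ k = y) ∨ ∃ k ∈ K0, ϑ k = x * y
  cent : ∀ c, c * t = t * c → (∀ k ∈ K0, c * ϑ k = ϑ k * c) → c = 1 ∨ c = t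

theorem card_v4 {ψ : K0 →* T} (s : Function.Surjective ψ) :
    Nat.card ψ.ker = 4 := by
  have := card_of_surj ψ s
  rw [H18.YG.card_cent2 inD_x1, card_T] at this
  omega

/-- the covering map onto a perfect double cover -/
theorem exists_cover {M : Type*} [Group M] [Finite M] (μ : M →* T) (s : Function.Surjective μ)
    (k : μ.ker = center M) (c : Nat.card (center M) = 2) (p : commutator M = ⊤) :
    ∃ θ : K0 →* M, Function.Surjective θ ∧ (∀ a, θ a = 1 ↔ a.1 = 1 ∨ a.1 = t0) ∧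
      ∀ β : MulAut M, ∃ g : GG, ∀ a : K0, ∃ m : cj g a ∈ K0, θ ⟨_, m⟩ = β (θ a) := by
  obtain ⟨pK, -, ψ, sψ, k1, k2⟩ := exists_psi2 ix_t0 inD_x1
  have sq : ∀ x, μ x = 1 → x ^ 2 = 1 := fun x hx =>
    congrArg Subtype.val (c ▸ pow_card_eq_one' (x := (⟨x, k ▸ hx⟩ : center M)))
  obtain ⟨θ, h1, h2⟩ := lift4 pK ψ sψ (fun x hx => (k2 x).1 hx) (card_v4 sψ) μ s k.le fun x hx h => by
    rwa [pow_succ, sq x hx, one_mul] at h
  have sθ := MonoidHom.range_eq_top.1 (h2.trans p)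
  have c2 : Nat.card θ.ker = 2 := by
    have := card_of_surj θ sθ
    rw [card_of_surj μ s, k, c, card_of_surj ψ sψ, card_v4 sψ, card_T] at this
    omega
  obtain ⟨v, v1, hv⟩ := (Nat.card_eq_two_iff' (1 : θ.ker)).1 c2
  have w1 : (v.1.1 : GG) ≠ 1 := fun e => v1 (Subtype.ext (Subtype.ext e))
  have vv : V4 t0 x1 v.1.1 := (k1 _).1 (by rw [← h1, show θ v = 1 from v.2, map_one])
  obtain ⟨w, hw, w2, w3⟩ : ∃ w, V4 t0 x1 w ∧ w ≠ 1 ∧ v.1.1 ≠ w := by
    by_cases e : v.1.1 = t0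
    · exact ⟨x1, Or.inr (Or.inr (Or.inl rfl)), inD_x1.1.ne_one, fun f => inD_ne ix_t0 inD_x1 (e.symm.trans f)⟩
    · exact ⟨t0, Or.inr (Or.inl rfl), ix_t0.ne_one, e⟩
  obtain ⟨i, j⟩ := v4_inD vv hw w1 w2 w3
  obtain ⟨g, e1, e2⟩ := pair_trans ix_t0 inD_x1 i j
  let γ : MulAut K0 := normalizerMonoidHom _ ⟨g, norm_K0 (e1 ▸ vv) (e2 ▸ hw)⟩
  have sγ : Function.Surjective (θ.comp γ.toMonoidHom) := sθ.comp γ.surjective
  have kc : ∀ a, μ (θ (γ a)) = 1 ↔ a ∈ center K0 := fun a => by rw [h1, k2, H78.Schur.map_center_equiv γ]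
  have k4 : ∀ a, μ (θ (γ a)) = 1 ↔ V4 t0 x1 a.1 := fun a => by rw [kc, ← k2, k1]
  refine ⟨θ.comp γ.toMonoidHom, sγ, fun a => ⟨fun e => ?_, ?_⟩, fun β => ?_⟩
  · by_cases f : a = 1
    · exact Or.inl (congrArg Subtype.val f)
    · exact Or.inr ((cj g).injective ((congrArg (fun x : θ.ker => (x.1.1 : GG))
        (hv ⟨γ a, e⟩ fun r => f (γ.map_eq_one_iff.1 (congrArg Subtype.val r)))).trans e1.symm))
  · rintro (e | e)
    · rw [show a = 1 from Subtype.ext e, map_one]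
    · exact (congrArg θ (Subtype.ext ((congrArg (cj g) e).trans e1))).trans v.2
  · have kb : ∀ a, μ (β (θ (γ a))) = 1 ↔ μ (θ (γ a)) = 1 := fun a => by
      rw [← MonoidHom.mem_ker, ← MonoidHom.mem_ker, k, H78.Schur.map_center_equiv β]
    have sb : Function.Surjective (μ.comp (β.toMonoidHom.comp (θ.comp γ.toMonoidHom))) :=
      s.comp (β.surjective.comp sγ)
    obtain ⟨b, b1, b2⟩ := lift4 pK _ sb (fun a ha => (kc a).1 ((kb a).1 ha))
      (card_v4 sb) (μ.comp (θ.comp γ.toMonoidHom)) (s.comp sγ)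
      (fun a ha => (kc a).1 ha) fun a ha h => by
        rwa [pow_succ, pow_two, show a * a = 1 from Subtype.ext (((k4 a).1 ha).sq ix_t0.sq inD_x1.1.sq c01),
          one_mul] at h
    obtain ⟨d, hd⟩ := aut_K0 b (MonoidHom.range_eq_top.1 (b2.trans pK))
    refine ⟨d, fun a => ⟨hd a ▸ (b a).2, ?_⟩⟩
    rw [show (⟨cj d a, _⟩ : K0) = b a from Subtype.ext (hd a).symm]
    exact hom_uniq pK ((θ.comp γ.toMonoidHom).comp b) (β.toMonoidHom.comp (θ.comp γ.toMonoidHom))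
      (fun a => k ▸ (by rw [MonoidHom.mem_ker, map_mul, map_inv, inv_mul_eq_one]; exact (b1 a).symm)) a

theorem exists_Th [Finite G] {t : G} (ht : orderOf t = 2) (M : Subgroup (centralizer ({t} : Set G))) [M.Normal]
    (hM : M.index = 2) (K : Type) [Field K] [Fintype K] (hK : Fintype.card K = 4)
    (hout : centralizer (M : Set (centralizer ({t} : Set G))) ≤ M)
    (hcov : IsNonsplitDoubleCover M (Lie.twistedE6 K 2)) : ∃ ϑ : GG → G, Th ϑ t := by
  obtain ⟨c, ⟨e⟩, ns⟩ := hcov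
  obtain ⟨f⟩ := H30.F4.nonempty_ringEquiv hK
  let e' : M ⧸ center M ≃* T := e.trans ((((H10.glCongr f).subgroupMap _).trans (MulEquiv.subgroupCongr
    ((Agent.S2109.map_gen H37.tabE6 f _).trans (congrArg _ (Agent.S2109.words_map f 2))))))
  let μ : M →* T := e'.toMonoidHom.comp (QuotientGroup.mk' _)
  have s : Function.Surjective μ := e'.surjective.comp (QuotientGroup.mk'_surjective _)
  have k : μ.ker = center M := by rw [MonoidHom.ker_comp_of_injective _ _ e'.injective, QuotientGroup.ker_mk']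
  have p : commutator M = ⊤ := by
    obtain ⟨pK, -, ψ, sψ, -⟩ := exists_psi2 ix_t0 inD_x1
    have h1 : center M ⊔ commutator M = ⊤ := by
      rw [← k, sup_comm, ← comap_map_eq, H78.Schur.map_commutator_of_surjective μ s,
        ← H78.Schur.map_commutator_of_surjective ψ sψ, pK, map_top_of_surjective _ sψ, comap_top]
    have : Fact (Nat.card (center M)).Prime := ⟨c ▸ Nat.prime_two⟩
    rcases ((commutator M).subgroupOf (center M)).eq_bot_or_eq_top_of_prime_card with h | h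
    · exact (ns _ (isComplement'_of_disjoint_and_mul_eq_univ (subgroupOf_eq_bot.1 h).symm (by
        rw [← mul_normal, h1, coe_top]))).elim
    · rwa [sup_eq_right.2 (subgroupOf_eq_top.1 h)] at h1
  obtain ⟨θ, sθ, kθ, hβ⟩ := exists_cover μ s k c p
  have mc : ∀ {x}, x * t = t * x → x ∈ centralizer ({t} : Set G) := mem_centralizer_singleton_iff.2
  have tM : (⟨t, mc rfl⟩ : centralizer ({t} : Set G)) ∈ M :=
    hout fun x _ => Subtype.ext (mem_centralizer_singleton_iff.1 x.2)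
  have zc : ∀ x ∈ center M, x = 1 ∨ x = ⟨_, tM⟩ := fun x hx => by
    obtain ⟨v, -, hv⟩ := (Nat.card_eq_two_iff' (1 : center M)).1 c
    refine or_iff_not_imp_left.2 fun n => congrArg Subtype.val ((hv ⟨x, hx⟩ fun r => n (congrArg Subtype.val r)).trans
      (hv ⟨_, mem_center_iff.2 fun y => Subtype.ext (Subtype.ext (mem_centralizer_singleton_iff.1 y.1.2))⟩
        fun r => ?_).symm)
    rw [show t = 1 from congrArg (fun x : center M => (x.1.1 : G)) r, orderOf_one] at ht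
    omega
  classical
  let ϑ : GG → G := fun x => if h : x ∈ K0 then θ ⟨x, h⟩ else 1
  have d : ∀ {x} (h : x ∈ K0), ϑ x = θ ⟨x, h⟩ := fun h => dif_pos h
  have r : ∀ x : centralizer ({t} : Set G), (∃ k ∈ K0, ϑ k = x) ↔ x ∈ M := fun x =>
    ⟨fun ⟨k, hk, e⟩ => (Subtype.ext ((d hk).symm.trans e) : (θ ⟨k, hk⟩).1 = x) ▸ (θ _).2, fun h => by
      obtain ⟨k, e⟩ := sθ ⟨x, h⟩
      exact ⟨k, k.2, by rw [d k.2, e]⟩⟩
  have kk : ∀ a ∈ K0, (ϑ a = 1 ↔ a = 1 ∨ a = t0) := fun a ha => by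
    rw [d ha, ← kθ ⟨a, ha⟩, OneMemClass.coe_eq_one, OneMemClass.coe_eq_one]
  refine ⟨ϑ, fun a ha b hb => ?_, kk, ?_, fun c hc => ?_, ?_, fun x y hx hy => ?_, fun c hc h => ?_⟩
  · rw [d ha, d hb, d (mul_mem ha hb)]; exact congrArg (fun x : M => (x.1 : G)) (map_mul θ ⟨a, ha⟩ ⟨b, hb⟩)
  · rw [d x1K, (zc (θ ⟨x1, x1K⟩) (mem_center_iff.2 fun y => by
      obtain ⟨y, rfl⟩ := sθ y
      rw [← map_mul, ← map_mul]; exact congrArg θ (Subtype.ext (mem_C2.1 y.2).2))).resolve_left fun e =>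
        ((kθ _).1 e).elim inD_x1.1.ne_one (inD_ne ix_t0 inD_x1).symm]
  · obtain ⟨g, hg⟩ := hβ (MulAut.conjNormal ⟨c, mc hc⟩)
    have q : ∀ k ∈ K0, cj g k ∈ K0 ∧ ϑ (cj g k) = c * ϑ k * c⁻¹ := fun k hk => by
      obtain ⟨m, e⟩ := hg ⟨k, hk⟩
      exact ⟨m, by rw [d m, d hk, e]; rfl⟩
    refine ⟨g, mem_HH.2 (((kk _ (q _ t0K).1).1 ?_).resolve_left (ix_t0.conj g).ne_one), q⟩
    rw [(q _ t0K).2, (kk _ t0K).2 (Or.inr rfl), mul_one, mul_inv_cancel]
  · obtain ⟨x, -, hx⟩ := SetLike.exists_of_lt (show M < ⊤ from lt_top_iff_ne_top.2 fun e => by simp [e] at hM)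
    exact ⟨x, mem_centralizer_singleton_iff.1 x.2, fun h => hx ((r x).1 h)⟩
  · have := (r (⟨x, mc hx⟩ * ⟨y, mc hy⟩)).trans (mul_mem_iff_of_index_two hM)
    rw [← r, ← r] at this
    by_contra n
    rw [not_or, not_or] at n
    exact n.2.2 (this.2 (iff_of_false n.1 n.2.1))
  · have m : (⟨c, mc hc⟩ : centralizer ({t} : Set G)) ∈ centralizer (M : Set (centralizer ({t} : Set G))) :=
      fun y hy => by
        obtain ⟨k, hk, e⟩ := (r y).2 hy
        exact Subtype.ext (by rw [coe_mul, coe_mul, ← e]; exact (h k hk).symm)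
    exact (zc ⟨_, hout m⟩ (mem_center_iff.2 fun y => Subtype.ext (m y y.2))).imp
      (congrArg fun x : M => (x.1 : G)) (congrArg fun x : M => (x.1 : G))

end H18.BS
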