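import Cfsg.Agent.Lib.BStd.ModA
import Cfsg.Agent.Lib.BStd.St
import Cfsg.Agent.S2182

/-!
# The structure `St` from the Monster (helper18)
-/

set_option autoImplicit false

namespace H18.BS

open Subgroup Cfsg H16 H95 H95.Gr H7.SM H48.BR H75.WC

namespace Md

/-- long involutions whose extraspecial group contains the four-group -/
def W (w : GG) : Prop := IZ w ∧ InQ w t0 ∧ InQ w x1

theorem W.mem {w : GG} (h : W w) : w ∈ K0 := mem_C2.2 ⟨h.2.1.comm.symm, h.2.2.comm.symm⟩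

theorem W_z : W zA := ⟨iz_z, inQ_z.2 t0_mem, inQ_z.2 (mon.mem cls_x1)⟩

theorem zK : zA ∈ K0 := W_z.mem

theorem W.ex {w : GG} (h : W w) : ∃ g ∈ K0, cj g zA = w := by
  obtain ⟨c, h1, h2⟩ := trans_Z ix_t0 h.2.1 W_z.2.1
  obtain ⟨s, u, e⟩ := (inD_x1.1.conj c).eq_qa (inQ_z.1 (h2 ▸ h.2.2.conj c))
  obtain ⟨s', u', e'⟩ := inD_x1.1.eq_qa (mon.mem cls_x1)
  obtain ⟨d, h3, h4, h5⟩ := trans_Q (e ▸ inD_x1.conj' (mem_HH.2 h1)) (e' ▸ inD_x1)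
  refine ⟨(d * c)⁻¹, inv_mem (mem_C2.2 ⟨mem_cent_iff.1 (mul_mem h3 (mem_HH.2 h1)), mul_inv_eq_iff_eq_mul.1 ?_⟩), ?_⟩
  · rw [← cj_apply, cj_mul, e, h5, ← e']
  · rw [← cj_cj (d * c) w, cj_mul d c w, h2, cj_apply d, h4, mul_inv_cancel_right]

theorem card_W : {w | W w}.ncard = 3968055 :=
  (sys_top.nn_zero ix_t0 inD_x1).symm.trans (sys_top.count_B ix_t0 inD_x1).2.1

theorem inQ_cls {v m m' : Lam} {w q : GG} (hw : cls v w) (nv : sqNorm v.1 = 64) (hq : cls m q)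
    (nm : sqNorm m.1 = 32) (e : Cg (m + v) m') (nm' : sqNorm m'.1 = 32) : InQ w q :=
  inQ_of_mul' (ix_of_cls hq nm) (iz_of_cls hw nv) (ix_of_cls (mon.congr (mon.add hq hw) e) nm')

theorem mem_K0 {v : Lam} {q : GG} (h : cls v q) : q ∈ K0 ↔ Pp v ∧ d8 v H16.vX = 0 :=
  mem_C2.trans (and_congr (mon.commute_iff h cls_t0) ((mon.commute_iff h cls_x1).trans d8_eq_zero.symm))

theorem cu_iff {v w : Lam} {a b : GG} (ha : cls v a) (hb : cls w b) :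
    Cu v w ↔ (b = a ∨ b = a * t0) ∨ b = a * zA ∨ b = a * zA * t0 := by
  rw [Cu, mon.eq_iff ha hb, mon.eq_iff (mon.add ha cls_t0) hb, mul_assoc a t0, es_QQ.central _ t0_mem, ← mul_assoc]
  tauto

theorem min_of_ix {v : Lam} {x : GG} (h : cls v x) (i : IX x) : ∃ m : Lam, Cg v m ∧ sqNorm m.1 = 32 := by
  obtain ⟨m, h1, h2 | h2⟩ := mon.type_of_invol (mon.mem h) i.ne_one (fun e => not_iz i (e ▸ iz_z)) i.sq
  · exact ⟨m, (mon.eq_iff h h1).2 (Or.inl rfl), h2⟩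
  · exact (not_iz i (iz_of_cls h1 h2)).elim

theorem ta_of_inD {v : Lam} {x : GG} (h : cls v x) (i : InD t0 x) : TA (mk v) := by
  obtain ⟨m, e, n⟩ := min_of_ix h i.1
  obtain ⟨m', e', n'⟩ := min_of_ix (mon.add cls_t0 h) i.2
  have p : Pp m := (mon.commute_iff (mon.congr h e) cls_t0).1 (i.comm ix_t0).symm
  have c := ((Cg.refl H16.vU).add e).symm.trans e'
  have c' := (cg_iff.2 ⟨-m, by abel⟩ : Cg (H16.vU - m) (H16.vU + m)).trans c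
  have d := c.norm_eq
  have d' := c'.norm_eq
  have r := sqNorm_nonneg (H16.vU + m : Lam).1
  have r' := sqNorm_nonneg (H16.vU - m : Lam).1
  rw [AddSubgroup.coe_add, sqNorm_add, norm_U, n] at d r
  rw [AddSubgroup.coe_sub, sqNorm_sub, norm_U, n] at d' r'
  rw [Pp, dotInt_comm] at p
  rw [Cg.mk e]
  rcases (by omega : dotInt (H16.vU : GolayPt → ℤ) m.1 = 16 ∨ dotInt (H16.vU : GolayPt → ℤ) m.1 = -16) with f | f
  · exact ⟨m, n, f, rfl⟩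
  · exact ⟨-m, (sqNorm_neg _).trans n, by rw [AddSubgroup.coe_neg, dotInt_neg_right, f]; rfl, mk_neg m⟩

/-- a minimal vector of an `Om` class orthogonal to `vX` -/
theorem om_rep {a : V} (h : Om a) : ∃ m : Lam, sqNorm m.1 = 32 ∧ dotInt (H16.vU : GolayPt → ℤ) m.1 = 16 ∧
    dotInt (H16.vX : GolayPt → ℤ) m.1 = 0 ∧ mk m = a := by
  obtain ⟨⟨m, n, d, rfl⟩, h1, h2⟩ := h
  have n' : sqNorm (H16.vU - m : Lam).1 = 32 := by rw [AddSubgroup.coe_sub, sqNorm_sub, norm_U, mem_Min.1 n, d]; rfl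
  have e : mk (H16.vU - m) = mk m := by rw [mk_sub, mk_U, zero_add]
  have k : ∀ w : Lam, sqNorm w.1 = 32 → mk w = mk m → dotInt (H16.vX : GolayPt → ℤ) w.1 < 32 := fun w n e => by
    have r := sqNorm_nonneg (H16.vX - w : Lam).1
    have : sqNorm (H16.vX - w : Lam).1 ≠ 0 := fun z => h2 (by
      rw [← e, tb, ← sub_eq_zero.1 (Subtype.ext ((sqNorm_eq_zero_iff _).1 z) : H16.vX - w = 0)])
    rw [AddSubgroup.coe_sub, sqNorm_sub, norm_X, n] at r this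
    omega
  have k1 := k m n rfl
  have k2 := k _ n' e
  rw [tb, be_mk (pp_of_dot (k := 1) d) pp_X, d8_eq_zero, dotInt_comm] at h1
  have q : dotInt (H16.vX : GolayPt → ℤ) (H16.vU - m : Lam).1 = 16 - dotInt (H16.vX : GolayPt → ℤ) m.1 := by
    rw [AddSubgroup.coe_sub, dotInt_sub_right, dotInt_comm _ (H16.vU : GolayPt → ℤ), dot_UX]
  by_cases z : dotInt (H16.vX : GolayPt → ℤ) m.1 = 0
  · exact ⟨m, n, d, z, rfl⟩
  · exact ⟨_, n', by rw [AddSubgroup.coe_sub, dotInt_sub_right, dotInt_self, norm_U, d]; rfl, by omega, e⟩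

theorem W_of {m : Lam} {q : GG} (n : sqNorm m.1 = 32) (d : dotInt (H16.vU : GolayPt → ℤ) m.1 = 16)
    (z : dotInt (H16.vX : GolayPt → ℤ) m.1 = 0) (h : cls (H16.vX + m) q) : W q := by
  have n1 : sqNorm (H16.vX + m : Lam).1 = 64 := by rw [AddSubgroup.coe_add, sqNorm_add, norm_X, n, z]; rfl
  refine ⟨iz_of_cls h n1, inQ_cls h n1 cls_t0 norm_U (m' := H16.vX + m - H16.vU) (cg_iff.2 ⟨H16.vU, by abel⟩) ?_,
    inQ_cls h n1 cls_x1 norm_X (cg_iff.2 ⟨H16.vX, by abel⟩) n⟩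
  rw [AddSubgroup.coe_sub, sqNorm_sub, n1, norm_U, dotInt_comm, AddSubgroup.coe_add, dotInt_add_right, dot_UX, d]; rfl

theorem exists_lift {g : GG} (h : g ∈ HH) (z : g * zA = zA * g) :
    ∃ δ : C2, (QuotientGroup.mk (δ : Co0) : Spor.Co1) = phi ⟨g, mem_cent_iff.2 z⟩ := by
  obtain ⟨θ, -, e⟩ := mon.exists_theta cls_t0
  exact ⟨_, e ⟨g, mem_cent_iff.2 z, h⟩⟩

theorem exists_lift' (δ : C2) : ∃ g ∈ HH, ∃ z : g * zA = zA * g,
    (QuotientGroup.mk (δ : Co0) : Spor.Co1) = phi ⟨g, mem_cent_iff.2 z⟩ := by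
  obtain ⟨θ, s, e⟩ := mon.exists_theta cls_t0
  obtain ⟨g, rfl⟩ := s δ
  exact ⟨g, g.2.2, mem_cent_iff.1 g.2.1, e g⟩

theorem eq_of_two {g t w : GG} (h1 : cj g t = t ∨ cj g t = t * zA) (h2 : cj g t = t ∨ cj g t = t * w)
    (n : w ≠ zA) : Commute g t :=
  mul_inv_eq_iff_eq_mul.1 (h1.elim id fun a => h2.resolve_right fun b => n (mul_left_cancel (b.symm.trans a)))

/-- some element of the coset is short -/
def I1 (k : GG) : Prop := ∃ v, V4 t0 x1 v ∧ IX (k * v)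

/-- two elements of the coset are short -/
def I2 (k : GG) : Prop := ∃ v w, V4 t0 x1 v ∧ V4 t0 x1 w ∧ v ≠ w ∧ IX (k * v) ∧ IX (k * w)

theorem v4_mul {v w : GG} (hv : V4 t0 x1 v) (hw : V4 t0 x1 w) : V4 t0 x1 (v * w) := by
  obtain ⟨-, -, ψ, -, k, -⟩ := exists_psi2 ix_t0 inD_x1
  exact (k (⟨v, v4_mem hv⟩ * ⟨w, v4_mem hw⟩)).1 (by rw [map_mul, (k _).2 hv, (k _).2 hw, one_mul])

theorem ix_tr {g k v w : GG} (hg : g ∈ K0) (hv : V4 t0 x1 v) (hw : V4 t0 x1 w) (h : IX (cj g k * v * w)) :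
    IX (k * (v * w)) := by
  rw [← ix_cj (g := g), map_mul, cj_apply g (v * w),
    ((v4_mul hv hw).comm (mem_C2.1 hg).1 (mem_C2.1 hg).2).eq, mul_inv_cancel_right, ← mul_assoc]
  exact h

theorem not_ix {v : Lam} {q : GG} (h : cls v q) {m : Lam} (e : Cg v m) (n : sqNorm m.1 = 64) : ¬ IX q :=
  fun i => not_iz i (iz_of_cls (mon.congr h e) n)

theorem cg_c : Cg (pp none (some 2) + pp (some 3) (some 4) + (H16.vU + H16.vX))
    (pp (some 4) (some 5) + pp (some 14) (some 17)) := cg_iff.2 ⟨vOct - pp (some 5) (some 14) + pm none (some 17),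
  Subtype.ext (by rw [X_eq]; decide +kernel)⟩

theorem classes : ∃ qb qc : GG, cls (pp (some 2) (some 3)) qb ∧ cls (pp none (some 2) + pp (some 3) (some 4)) qc ∧
    qb ∈ K0 ∧ qc ∈ K0 ∧ ∀ k ∈ K0, V4 t0 x1 (k * k) →
      ∃ g ∈ K0, ∃ v, V4 t0 x1 v ∧ (cj g k = v ∨ cj g k = zA * v ∨ cj g k = qb * v ∨ cj g k = qc * v) := by
  obtain ⟨qb, hb⟩ := mon.ex_elt (pp (some 2) (some 3))
  obtain ⟨qc, hc⟩ := mon.ex_elt (pp none (some 2) + pp (some 3) (some 4))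
  have bK : qb ∈ K0 := (mem_K0 hb).2 ⟨pp_pp _ _, d8_eq_zero.2 (by rw [X_eq]; decide +kernel)⟩
  have cK : qc ∈ K0 := (mem_K0 hc).2 ⟨(pp_pp _ _).add (pp_pp _ _), d8_eq_zero.2 (by rw [X_eq]; decide +kernel)⟩
  have UX := mon.add cls_t0 cls_x1
  have b1 : ¬ IX (qb * t0) := not_ix (mon.add hb cls_t0) (Cg.refl _) (by decide +kernel)
  have b2 : ¬ IX (qb * x1) := not_ix (mon.add hb cls_x1) (Cg.refl _) (by rw [X_eq]; decide +kernel)
  have b3 : ¬ IX (qb * (t0 * x1)) := not_ix (mon.add hb UX) (m := pp (some 2) (some 3) + (H16.vU - H16.vX))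
    (cg_iff.2 ⟨H16.vX, by abel⟩) (by rw [X_eq]; decide +kernel)
  have ib : IX qb := ix_of_cls hb (norm_pp (by decide))
  have nb : ¬ I2 qb := by
    rintro ⟨v, w, rfl | rfl | rfl | rfl, rfl | rfl | rfl | rfl, n, h1, h2⟩ <;> contradiction
  have zc : IZ qc := iz_of_cls hc (by decide +kernel)
  have nc : ¬ I1 qc := by
    rintro ⟨v, rfl | rfl | rfl | rfl, h⟩
    · exact not_iz h ((mul_one qc).symm ▸ zc)
    · exact not_ix (mon.add hc cls_t0) (m := pp none (some 2) + pp (some 3) (some 4) - H16.vU)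
        (cg_iff.2 ⟨H16.vU, by abel⟩) (by decide +kernel) h
    · exact not_ix (mon.add hc cls_x1) (m := pp none (some 2) + pp (some 3) (some 4) - H16.vX)
        (cg_iff.2 ⟨H16.vX, by abel⟩) (by rw [X_eq]; decide +kernel) h
    · exact not_ix (mon.add hc UX) cg_c (by decide +kernel) h
  have v1 : V4 t0 x1 t0 := Or.inr (Or.inl rfl)
  have v2 : V4 t0 x1 x1 := Or.inr (Or.inr (Or.inl rfl))
  have iz2 : I2 zA := ⟨_, _, v1, v2, inD_ne ix_t0 inD_x1, W_z.2.1.comm ▸ ix_t0.mul_of_inQ W_z.2.1,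
    W_z.2.2.comm ▸ inD_x1.1.mul_of_inQ W_z.2.2⟩
  obtain ⟨-, -, ψ, s, k, -⟩ := exists_psi2 ix_t0 inD_x1
  have cv : ∀ {a b : K0}, ConjClasses.mk (ψ a) = ConjClasses.mk (ψ b) →
      ∃ g ∈ K0, ∃ v, V4 t0 x1 v ∧ cj g a = b * v := fun {a b} h => by
    obtain ⟨g, e⟩ := isConj_iff.1 (ConjClasses.mk_eq_mk_iff_isConj.1 h)
    obtain ⟨g, rfl⟩ := s g
    exact ⟨g, g.2, _, (k (b⁻¹ * (g * a * g⁻¹))).1 (by simp [e]), by simp⟩
  have tr : ∀ {g a b v w : GG}, g ∈ K0 → V4 t0 x1 v → V4 t0 x1 w → cj g a = b * v → IX (b * w) → IX (a * (v * w)) :=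
    fun {g a b v w} hg hv hw e h => ix_tr hg hv hw (by
      rwa [e, mul_assoc b, hv.sq ix_t0.sq inD_x1.1.sq c01, mul_one])
  have n1 : ∀ {a b : K0}, I1 b → ¬ I1 a → ConjClasses.mk (ψ a) ≠ ConjClasses.mk (ψ b) := fun ⟨w, hw, h⟩ n e => by
    obtain ⟨g, hg, v, hv, e⟩ := cv e
    exact n ⟨_, v4_mul hv hw, tr hg hv hw e h⟩
  have n2 : ConjClasses.mk (ψ ⟨qb, bK⟩) ≠ ConjClasses.mk (ψ ⟨zA, zK⟩) := fun e => by
    obtain ⟨g, hg, v, hv, e⟩ := cv e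
    obtain ⟨w, w', hw, hw', n, h, h'⟩ := iz2
    exact nb ⟨_, _, v4_mul hv hw, v4_mul hv hw', fun r => n (mul_left_cancel r), tr hg hv hw e h, tr hg hv hw' e h'⟩
  have o2 : ∀ a : K0, V4 t0 x1 (a * a) → ¬ V4 t0 x1 a → orderOf (ψ a) = 2 := fun a h n =>
    orderOf_eq_prime (by rw [pow_two, ← map_mul]; exact (k _).2 h) fun e => n ((k _).1 e)
  have nz : ∀ {a : GG}, IZ a → ¬ V4 t0 x1 a := by
    rintro _ h (rfl | rfl | rfl | rfl)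
    exacts [h.ne_one rfl, not_iz ix_t0 h, not_iz inD_x1.1 h, not_iz inD_x1.2 h]
  have all := Set.eq_of_subset_of_ncard_le (s := {ConjClasses.mk (ψ ⟨zA, zK⟩), ConjClasses.mk (ψ ⟨qb, bK⟩),
    ConjClasses.mk (ψ ⟨qc, cK⟩)}) (t := ConjClasses.mk '' {g | orderOf g = 2}) (by
      rintro _ (rfl | rfl | rfl)
      · exact ⟨_, o2 _ (Or.inl iz_z.sq) (nz iz_z), rfl⟩
      · refine ⟨_, o2 _ (Or.inl ib.sq) fun h => nb ⟨t0, x1, v1, v2, inD_ne ix_t0 inD_x1, ?_⟩, rfl⟩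
        rcases (h : V4 t0 x1 qb) with h | h | h | h
        exacts [(ib.ne_one h).elim, (b2 (by rw [show qb = t0 from h]; exact inD_x1.2)).elim,
          (b1 (by rw [show qb = x1 from h, ← c01.eq]; exact inD_x1.2)).elim,
          (b2 (by rw [show qb = t0 * x1 from h, mul_assoc, inD_x1.1.sq, mul_one]; exact ix_t0)).elim]
      · exact ⟨_, o2 _ (Or.inl zc.sq) (nz zc), rfl⟩)
    ((Agent.S2182.result (K := H30.F4) 2 rfl).trans_le (Set.ncard_eq_three.2 ⟨_, _, _, n2.symm,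
      (n1 ⟨_, v1, W_z.2.1.comm ▸ ix_t0.mul_of_inQ W_z.2.1⟩ nc).symm,
      (n1 ⟨1, Or.inl rfl, (mul_one qb).symm ▸ ib⟩ nc).symm, rfl⟩).ge) (Set.toFinite _)
  refine ⟨qb, qc, hb, hc, bK, cK, fun a ha h => ?_⟩
  by_cases n : V4 t0 x1 a
  · exact ⟨1, one_mem _, a, n, Or.inl (by simp)⟩
  · rcases all.ge ⟨_, o2 ⟨a, ha⟩ h n, rfl⟩ with e | e | e <;> obtain ⟨g, hg, v, hv, e⟩ := cv e <;>
      exact ⟨g, hg, v, hv, by tauto⟩

variable {G : Type*} [Group G] {ϑ : GG → G} {t : G}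

theorem act_tb {γ : C2} {g : GG} (h : ∀ {v x}, cls v x → cls ((γ : Co0) • v) (cj g x))
    (e : cj g x1 = x1 ∨ cj g x1 = x1 * t0) : γ • tb = tb := by
  rw [tb, smul_mk _ pp_X]
  exact Cu.mk ((cu_iff cls_x1 (h cls_x1)).2 (Or.inl e)).symm

end Md

open Md

namespace Th

variable {G : Type*} [Group G] {ϑ : GG → G} {t : G} (H : Th ϑ t)
include H

theorem one : ϑ 1 = 1 := (H.ker 1 (one_mem _)).2 (Or.inl rfl)

theorem t0' : ϑ t0 = 1 := (H.ker _ t0K).2 (Or.inr rfl)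

theorem inv {a : GG} (h : a ∈ K0) : ϑ a⁻¹ = (ϑ a)⁻¹ :=
  eq_inv_of_mul_eq_one_left (by rw [← H.mul _ (inv_mem h) _ h, inv_mul_cancel, H.one])

theorem eq_iff {a b : GG} (ha : a ∈ K0) (hb : b ∈ K0) : ϑ b = ϑ a ↔ b = a ∨ b = a * t0 := by
  rw [eq_comm, ← inv_mul_eq_one, ← H.inv ha, ← H.mul _ (inv_mem ha) _ hb, H.ker _ (mul_mem (inv_mem ha) hb),
    inv_mul_eq_one, inv_mul_eq_iff_eq_mul, eq_comm]

theorem rl {k : GG} (h : k ∈ K0) : Rl ϑ (ϑ k) k := ⟨h.1, fun a ha =>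
  ⟨mul_mem (mul_mem h ha) (inv_mem h), by
    rw [cj_apply, H.mul _ (mul_mem h ha) _ (inv_mem h), H.mul _ h _ ha, H.inv h]⟩⟩

theorem comm_t {k : GG} (h : k ∈ K0) : ϑ k * t = t * ϑ k := by
  rw [← H.x, ← H.mul _ h _ x1K, ← H.mul _ x1K _ h, (mem_C2.1 h).2.eq]

theorem rl_x {c : G} {g : GG} (h : Rl ϑ c g) (hc : c * t = t * c) : cj g x1 = x1 ∨ cj g x1 = x1 * t0 :=
  (H.eq_iff x1K (h.2 _ x1K).1).1 (by rw [(h.2 _ x1K).2, H.x, hc, mul_inv_cancel_right])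

theorem rl_z {c : G} {g : GG} (h : Rl ϑ c g) (hc : c * ϑ zA = ϑ zA * c) : g * zA = zA * g :=
  mul_inv_eq_iff_eq_mul.1 (((H.eq_iff zK (h.2 _ zK).1).1 (by rw [(h.2 _ zK).2, hc, mul_inv_cancel_right])).resolve_right
    fun e => not_iz (W_z.2.1.comm ▸ ix_t0.mul_of_inQ W_z.2.1) (e ▸ iz_z.conj g))

theorem rl_cent {c d : G} {g : GG} (h : Rl ϑ c g) (h' : Rl ϑ d g) (hc : c * t = t * c) (hd : d * t = t * d) :
    c = d ∨ c = d * t := by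
  have := H.cent (d⁻¹ * c) (Commute.mul_left (Commute.inv_left hd) hc) fun k hk => by
    have e := (h.2 k hk).2.symm.trans (h'.2 k hk).2
    calc _ = d⁻¹ * (c * ϑ k * c⁻¹) * c := by group
      _ = _ := by rw [e]; group
  rwa [inv_mul_eq_one, inv_mul_eq_iff_eq_mul, eq_comm] at this

theorem ex2 {g : GG} (hg : g ∈ HH) (e : cj g x1 = x1 ∨ cj g x1 = x1 * t0) : ∃ c, c * t = t * c ∧ Rl ϑ c g := by
  rcases e with e | e
  · have m : g ∈ K0 := mem_C2.2 ⟨mem_cent_iff.1 hg, mul_inv_eq_iff_eq_mul.1 e⟩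
    exact ⟨_, H.comm_t m, H.rl m⟩
  · obtain ⟨c, hc, n⟩ := H.out
    obtain ⟨d, hd⟩ := H.ex1 c hc
    rcases H.rl_x hd hc with f | f
    · have m : d ∈ K0 := mem_C2.2 ⟨mem_cent_iff.1 hd.1, mul_inv_eq_iff_eq_mul.1 f⟩
      rcases H.rl_cent hd (H.rl m) hc (H.comm_t m) with r | r
      · exact (n ⟨d, m, r.symm⟩).elim
      · exact (n ⟨_, mul_mem m x1K, by rw [H.mul _ m _ x1K, H.x, r]⟩).elim
    · have m : d⁻¹ * g ∈ K0 := mem_C2.2 ⟨mem_cent_iff.1 (mul_mem (inv_mem hd.1) hg), mul_inv_eq_iff_eq_mul.1 (by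
        rw [← cj_apply, cj_mul, e, ← f, cj_cj])⟩
      refine ⟨c * ϑ (d⁻¹ * g), Commute.mul_left hc (H.comm_t m), hg, fun k hk => ?_⟩
      have a := (H.rl m).2 k hk
      have b := hd.2 _ a.1
      rw [← cj_mul, mul_inv_cancel_left, a.2] at b
      exact ⟨b.1, b.2.trans (by group)⟩

theorem sg_iff {y : G} : Sg t (ϑ zA) y ↔ ∃ w, W w ∧ ϑ w = y := by
  constructor
  · rintro ⟨c, hc, rfl⟩
    obtain ⟨g, hg⟩ := H.ex1 c hc
    have a : InQ (cj g zA) t0 := mem_HH.1 hg.1 ▸ W_z.2.1.conj g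
    refine ⟨_, ⟨iz_z.conj g, a, ?_⟩, (hg.2 _ zK).2⟩
    rcases H.rl_x hg hc with e | e
    · exact e ▸ W_z.2.2.conj g
    · simpa [mul_assoc, t0_sq] using (e ▸ W_z.2.2.conj g : InQ _ (x1 * t0)).mul a
  · rintro ⟨w, hw, rfl⟩
    obtain ⟨g, hg, rfl⟩ := hw.ex
    exact ⟨_, H.comm_t hg, ((H.rl hg).2 _ zK).2.symm⟩

/-- the image of a subgroup -/
def im (Q : Subgroup GG) : Subgroup G where
  carrier := {y | ∃ q ∈ Q, q ∈ K0 ∧ ϑ q = y}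
  one_mem' := ⟨1, one_mem _, one_mem _, H.one⟩
  mul_mem' := by
    rintro _ _ ⟨a, h1, h2, rfl⟩ ⟨b, h3, h4, rfl⟩
    exact ⟨_, mul_mem h1 h3, mul_mem h2 h4, H.mul _ h2 _ h4⟩
  inv_mem' := by
    rintro _ ⟨a, h1, h2, rfl⟩
    exact ⟨_, inv_mem h1, inv_mem h2, H.inv h2⟩

theorem exists_π : ∃ π : G → V, ∀ {v q}, q ∈ K0 → cls v q → π (ϑ q) = BS.mk v := by
  classical
  refine ⟨fun y => if h : ∃ p : Lam × GG, p.2 ∈ K0 ∧ cls p.1 p.2 ∧ ϑ p.2 = y then BS.mk h.choose.1 else 0,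
    fun {v q} h1 h2 => ?_⟩
  have e : ∃ p : Lam × GG, p.2 ∈ K0 ∧ cls p.1 p.2 ∧ ϑ p.2 = ϑ q := ⟨(v, q), h1, h2, rfl⟩
  refine (dif_pos e).trans ?_
  exact (Cu.mk ((cu_iff h2 e.choose_spec.2.1).2 (Or.inl ((H.eq_iff h1 e.choose_spec.1).1 e.choose_spec.2.2)))).symm

theorem ex_P {y : G} (h : y ∈ H.im (QQ ℝ)) : ∃ q v, q ∈ K0 ∧ cls v q ∧ ϑ q = y := by
  obtain ⟨q, h1, h2, e⟩ := h
  obtain ⟨v, hv⟩ := mon.ex_cls q h1
  exact ⟨q, v, h2, hv, e⟩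

variable {π : G → V} (hπ : ∀ {v q}, q ∈ K0 → cls v q → π (ϑ q) = BS.mk v)
include hπ

theorem lf : Lf (ϑ zA) (H.im (QQ ℝ)) π := by
  have zp' : ∀ a, ϑ (zp zA a) = zp (ϑ zA) a := fun a => by
    rcases z2 a with rfl | rfl
    exacts [H.one, rfl]
  have zm : ∀ a, zp zA a ∈ K0 := fun a => (zp_cases zA a).elim (fun e => e.symm ▸ one_mem _) fun e => e.symm ▸ zK
  refine ⟨fun e => ((H.ker _ zK).1 e).elim iz_z.ne_one fun f => not_iz ix_t0 (f ▸ iz_z),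
    by rw [← H.mul _ zK _ zK, iz_z.sq, H.one], ⟨_, es_QQ.mem, zK, rfl⟩, fun x hx y hy => ?_, fun x hx => ?_,
    fun x hx y hy => ?_, fun x hx => ?_⟩ <;> obtain ⟨a, v, ha, hv, rfl⟩ := H.ex_P hx
  · obtain ⟨b, w, hb, hw, rfl⟩ := H.ex_P hy
    rw [← H.mul _ ha _ hb, hπ (mul_mem ha hb) (mon.add hv hw), hπ ha hv, hπ hb hw, map_add]
  · rw [hπ ha hv, ← map_zero BS.mk, eq_comm, mk_eq_iff pp_zero ((mem_K0 hv).1 ha).1, cu_iff mon.cls_zero hv,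
      H.ker _ ha, H.eq_iff zK ha, one_mul, one_mul]
  · obtain ⟨b, w, hb, hw, rfl⟩ := H.ex_P hy
    rw [hπ ha hv, hπ hb hw, be_mk ((mem_K0 hv).1 ha).1 ((mem_K0 hw).1 hb).1, ← zp', ← H.mul _ ha _ hb,
      ← H.mul _ hb _ ha, ← H.mul _ (mul_mem hb ha) _ (zm _)]
    congr 1
    rcases z2 (d8 v w) with e | e <;> rw [e]
    · exact ((mon.commute_iff hv hw).2 (d8_eq_zero.1 e)).trans (mul_one _).symm
    · exact (es_QQ.comm _ (mon.mem hv) _ (mon.mem hw)).resolve_left fun f =>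
        d8_eq_one.1 e ((mon.commute_iff hv hw).1 f)
  · rw [hπ ha hv, ← zp', ← H.mul _ ha _ ha]
    congr 1
    have := (mon.sq_iff hv).trans (qq_mk_eq_zero ((mem_K0 hv).1 ha).1).symm
    rcases z2 (qq (BS.mk v)) with e | e <;> rw [e] at this ⊢
    · exact this.2 rfl
    · exact (es_QQ.sq_mem (mon.mem hv)).resolve_left fun f => absurd (this.1 f) (by decide)

theorem act {c : G} {g : GG} (h : Rl ϑ c g) {z : g ∈ centralizer {zA}} {δ : C2}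
    (e : (QuotientGroup.mk (δ : Co0) : Spor.Co1) = phi ⟨g, z⟩) : Act (H.im (QQ ℝ)) π c δ := fun x hx => by
  obtain ⟨a, v, ha, hv, rfl⟩ := H.ex_P hx
  have := mon.smul _ _ e hv
  rw [← (h.2 a ha).2]
  exact ⟨⟨_, mon.mem this, (h.2 a ha).1, rfl⟩, by
    rw [hπ ha hv, smul_mk _ ((mem_K0 hv).1 ha).1]; exact hπ (h.2 a ha).1 this⟩

theorem onto (a : V) (h : be a tb = 0) : ∃ x ∈ H.im (QQ ℝ), π x = a := by
  obtain ⟨v, hv, rfl⟩ := mk_surj a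
  obtain ⟨q, hq⟩ := mon.ex_elt v
  have m := (mem_K0 hq).2 ⟨hv, (be_mk hv pp_X).symm.trans h⟩
  exact ⟨_, ⟨q, mon.mem hq, m, rfl⟩, hπ m hq⟩

theorem uniq {d : G} {γ γ' : C2} (h : Act (H.im (QQ ℝ)) π d γ) (h' : Act (H.im (QQ ℝ)) π d γ') : γ = γ' :=
  (inv_mul_eq_one.1 (siegel (be_self tb) fun a ha _ => by
    obtain ⟨x, hx, rfl⟩ := H.onto hπ a ((be_comm _ _).trans ha)
    rw [mul_smul, ← (h' x hx).2, (h x hx).2, inv_smul_smul]))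

theorem sig {x : G} (hx : x ∈ H.im (QQ ℝ)) : Sg t (ϑ zA) x ↔ x = ϑ zA ∨ Om (π x + tb) := by
  refine ⟨fun h => ?_, ?_⟩
  · obtain ⟨w, hw, rfl⟩ := H.sg_iff.1 h
    obtain ⟨q, h1, h2, e⟩ := hx
    obtain ⟨v, hv⟩ := mon.ex_cls w (((H.eq_iff h2 hw.mem).1 e.symm).elim (fun f => f ▸ h1)
      fun f => f ▸ mul_mem h1 t0_mem)
    have p := (mem_K0 hv).1 hw.mem
    rw [hπ hw.mem hv, or_iff_not_imp_left]
    refine fun n => ⟨?_, by rw [be_add_left, be_self, add_zero, tb, be_mk p.1 pp_X, p.2], fun f => ?_⟩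
    · rw [add_comm, tb, ← map_add]
      exact ta_of_inD (mon.add cls_x1 hv) ⟨inD_x1.1.mul_of_inQ hw.2.2,
        mul_assoc t0 x1 w ▸ inD_x1.2.mul_of_inQ (hw.2.1.mul hw.2.2)⟩
    · rw [add_eq_right, ← hπ hw.mem hv, (H.lf hπ).ker _ ⟨q, h1, h2, e⟩, H.ker _ hw.mem] at f
      exact f.elim (fun f => f.elim hw.1.ne_one fun f => not_iz ix_t0 (f ▸ hw.1)) n
  · rintro (rfl | h)
    · exact Sg.self _ _
    · obtain ⟨m, n, d, z, e⟩ := om_rep h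
      obtain ⟨q, hq⟩ := mon.ex_elt (H16.vX + m)
      have a := W_of n d z hq
      have b := W_of n d z (mon.mul_z hq)
      rcases ((H.lf hπ).eq_iff ⟨q, mon.mem hq, a.mem, rfl⟩ hx).1 (by
        rw [hπ a.mem hq, map_add, e, add_left_comm, ← tb, add_self, add_zero]) with f | f
      exacts [H.sg_iff.2 ⟨q, a, f.symm⟩, H.sg_iff.2 ⟨_, b, by rw [f, H.mul _ a.mem _ zK]⟩]

end Th

theorem Th.exists_St {G : Type*} [Group G] {ϑ : GG → G} {t : G} (H : Th ϑ t) : Nonempty (St G) := by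
  obtain ⟨π, hπ⟩ := H.exists_π
  obtain ⟨zb, hb⟩ := mon.ex_elt (e8 none)
  have wb : W zb := ⟨iz_of_cls hb (sqNorm_e8 _), inQ_cls hb (sqNorm_e8 _) cls_t0 norm_U
    (cg_iff.2 ⟨H16.vU, by rw [← U_add_UP]; abel⟩) norm_UP, inQ_cls hb (sqNorm_e8 _) cls_x1 norm_X (m' := pm none (some 1))
    (cg_iff.2 ⟨H16.vX, by rw [X_eq, ← pp_add_pm none (some 1)]; abel⟩) (norm_pm (by decide))⟩
  obtain ⟨g, hg, rfl⟩ := wb.ex
  have nz : cj g zA ≠ zA := fun e => Mon.not_cg_zero (Or.inr (sqNorm_e8 _)) ((mon.cg_zero_iff hb).2 (Or.inr e))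
  have pr := mon.pair (mon.mem hb) nz
  have gi : ∀ {k}, k ∈ K0 → cj g⁻¹ k ∈ K0 ∧ ϑ (cj g⁻¹ k) = (ϑ g)⁻¹ * ϑ k * ϑ g := fun hk => by
    simpa [H.inv hg] using (H.rl (inv_mem hg)).2 _ hk
  have iq : ∀ {k}, InQ (cj g zA) k ↔ cj g⁻¹ k ∈ QQ ℝ := fun {k} => by rw [← inQ_z, ← inQ_cj (g := g) (w := zA), cj_cj']
  have tP : t ∈ H.im (QQ ℝ) := ⟨_, mon.mem cls_x1, x1K, H.x⟩
  refine ⟨{
    t := t
    τ := ϑ zA
    β := ϑ (cj g zA)
    c := ϑ g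
    M := H.im ⊤
    P := H.im (QQ ℝ)
    π := π
    lf := H.lf hπ
    tP := tP
    πt := H.x ▸ hπ x1K cls_x1
    perp := fun x hx => ?_
    onto := H.onto hπ
    PM := fun _ ⟨q, _, h⟩ => ⟨q, trivial, h⟩
    Mt := fun _ ⟨q, _, h, e⟩ => e ▸ H.comm_t h
    idx := fun x y hx hy => (H.idx x y hx hy).imp (fun ⟨k, h⟩ => ⟨k, trivial, h⟩)
      (Or.imp (fun ⟨k, h⟩ => ⟨k, trivial, h⟩) fun ⟨k, h⟩ => ⟨k, trivial, h⟩)
    act := fun d h1 h2 => ?_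
    ker := fun d h1 h2 h3 => ?_
    surj := fun γ h => ?_
    odd := ?_
    col := fun x h1 h2 => ?_
    sig := fun x => H.sig hπ
    cls := ?_
    ct := H.comm_t hg
    cτ := ((H.rl hg).2 _ zK).2.symm
    βP := ⟨_, mon.mem hb, wb.mem, rfl⟩
    πβ := hπ wb.mem hb
    inE := fun x hx i hi h => ?_
    img := fun y γ h1 h2 h3 => ?_
    img' := fun γ h h' => ?_ }⟩
  · obtain ⟨a, v, ha, hv, rfl⟩ := H.ex_P hx
    rw [hπ ha hv, tb, be_mk ((mem_K0 hv).1 ha).1 pp_X, ((mem_K0 hv).1 ha).2]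
  · obtain ⟨k, hk⟩ := H.ex1 d h1
    obtain ⟨δ, e⟩ := exists_lift hk.1 (H.rl_z hk h2)
    exact ⟨δ, H.act hπ hk e⟩
  · obtain ⟨k, hk⟩ := H.ex1 d h1
    obtain ⟨δ, e⟩ := exists_lift hk.1 (H.rl_z hk h2)
    obtain rfl := H.uniq hπ h3 (H.act hπ hk e)
    have q : k ∈ QQ ℝ := (mon.ker _).1 e.symm
    have m : k ∈ K0 := mem_C2.2 ⟨mem_cent_iff.1 hk.1, eq_of_two (es_QQ.conj (mon.mem cls_x1) q) (H.rl_x hk h1)
      fun f => not_iz ix_t0 (f ▸ iz_z)⟩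
    rcases H.rl_cent hk (H.rl m) h1 (H.comm_t m) with r | r <;> rw [r]
    exacts [⟨k, q, m, rfl⟩, mul_mem ⟨k, q, m, rfl⟩ tP]
  · obtain ⟨k, h1, h2, e⟩ := exists_lift' γ
    have c1 := mon.smul _ _ e cls_x1
    have k1 : ∀ k ∈ HH, ∀ z : k ∈ centralizer {zA}, (QuotientGroup.mk (γ : Co0) : Spor.Co1) = phi ⟨k, z⟩ →
        cj k x1 = x1 ∨ cj k x1 = x1 * t0 → ∃ d, d * t = t * d ∧ d * ϑ zA = ϑ zA * d ∧ Act (H.im (QQ ℝ)) π d γ :=
      fun k hk z e f => by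
        obtain ⟨c, h1, h2⟩ := H.ex2 hk f
        exact ⟨c, h1, mul_inv_eq_iff_eq_mul.1 (by
          rw [← (h2.2 _ zK).2, cj_apply, mem_cent_iff.1 z, mul_inv_cancel_right]), H.act hπ h2 e⟩
    rcases (cu_iff cls_x1 c1).1 ((mk_eq_iff pp_X (pp_X.smul γ)).1 (h.symm.trans (smul_mk γ pp_X))) with f | f
    · exact k1 k h1 _ e f
    · obtain ⟨a, a1, a2⟩ := exists_be (x := 0) tb_ne tb_ne
      obtain ⟨v, hv, rfl⟩ := mk_surj a
      obtain ⟨q, hq⟩ := mon.ex_elt v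
      have q1 : q ∈ HH := mem_cent_iff.2 ((mon.commute_iff hq cls_t0).2 hv)
      have q2 : cj q x1 = x1 * zA := es_QQ.conj_of_ne (mon.mem cls_x1) (mon.mem hq) fun r =>
        d8_eq_one.1 ((be_mk hv pp_X).symm.trans a2) ((mon.commute_iff hq cls_x1).1 r)
      have q3 : q ∈ centralizer {zA} := mem_cent_iff.2 (es_QQ.central _ (mon.mem hq))
      have q4 : cj q zA = zA := mul_inv_eq_iff_eq_mul.2 (mem_cent_iff.1 q3)
      refine k1 (q * k) (mul_mem q1 h1) (mul_mem q3 (mem_cent_iff.2 h2)) (by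
        rw [e]; exact ((map_mul phi ⟨q, q3⟩ ⟨k, _⟩).trans (by rw [(mon.ker _).2 (mon.mem hq), one_mul])).symm) ?_
      rw [cj_mul]
      refine f.imp (fun f => ?_) fun f => ?_ <;> rw [show cj k x1 = _ from f]
      · rw [map_mul, q2, q4, mul_assoc, iz_z.sq, mul_one]
      · rw [map_mul, map_mul, q2, q4, mem_HH.1 q1, mul_assoc x1, iz_z.sq, mul_one]
  · rw [show {x | Sg t (ϑ zA) x} = ϑ '' {w | W w} from Set.ext fun _ => H.sg_iff, Set.InjOn.ncard_image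
      fun a ha b hb e => ((H.eq_iff hb.mem ha.mem).1 e).resolve_right fun f =>
        not_iz (hb.2.1.comm ▸ ix_t0.mul_of_inQ hb.2.1) (f ▸ ha.1), card_W]
    decide
  · obtain ⟨w, hw, rfl⟩ := H.sg_iff.1 h1
    obtain ⟨w', hw', e⟩ := H.sg_iff.1 h2
    have i : IX (x1 * w * zA) := by
      rcases (H.eq_iff (mul_mem hw.mem zK) hw'.mem).1 (e.trans (H.mul _ hw.mem _ zK).symm) with f | f
      · rw [mul_assoc, ← f]; exact inD_x1.1.mul_of_inQ hw'.2.2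
      · have := inD_x1.2.mul_of_inQ (hw'.2.1.mul hw'.2.2)
        rwa [f, c01.eq, ← (mem_C2.1 (mul_mem hw.mem zK)).1.eq.symm, mul_assoc, ← mul_assoc t0, t0_sq, one_mul,
          ← mul_assoc] at this
    refine ⟨w, ?_, hw.mem, rfl⟩
    exact (mul_mem_cancel_left (mon.mem cls_x1)).1 (inQ_z.1 (inQ_of_mul' (inD_x1.1.mul_of_inQ hw.2.2) iz_z i))
  · rintro _ ⟨k, -, hk, rfl⟩ h
    obtain ⟨qb, qc, h1, h2, h3, h4, cl⟩ := Md.classes
    obtain ⟨d, hd, v, hv, e⟩ := cl k hk (((H.ker _ (mul_mem hk hk)).1 ((H.mul _ hk _ hk).trans h)).imp_right Or.inl)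
    obtain ⟨u, hu, f⟩ : ∃ u, cls u v ∧ (BS.mk u = 0 ∨ BS.mk u = tb) := by
      rcases hv with rfl | rfl | rfl | rfl
      exacts [⟨_, mon.cls_zero, Or.inl (map_zero _)⟩, ⟨_, cls_t0, Or.inl mk_U⟩, ⟨_, cls_x1, Or.inr rfl⟩,
        ⟨_, mon.add cls_t0 cls_x1, Or.inr (by rw [map_add, mk_U, zero_add, tb])⟩]
    obtain ⟨w, hw, r⟩ : ∃ w, cls (w + u) (cj d k) ∧ (BS.mk w = 0 ∨ BS.mk w = vb ∨ BS.mk w = vc) := by
      rcases e with e | e | e | e <;> rw [e]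
      exacts [⟨0, by rwa [zero_add], Or.inl (map_zero _)⟩,
        ⟨0, mon.add (by simpa using mon.mul_z mon.cls_zero) hu, Or.inl (map_zero _)⟩,
        ⟨_, mon.add h1 hu, Or.inr (Or.inl rfl)⟩, ⟨_, mon.add h2 hu, Or.inr (Or.inr rfl)⟩]
    have a := (H.rl hd).2 k hk
    refine ⟨ϑ d, H.comm_t hd, ⟨_, mon.mem hw, a⟩, ?_⟩
    rw [← a.2, hπ a.1 hw, map_add]
    rcases r with r | r | r <;> rcases f with f | f <;> simp [r, f]
  · obtain ⟨a, v, ha, hv, rfl⟩ := H.ex_P hx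
    have k : ∀ {q}, cls (pp none i) q → InQ (cj g zA) q := fun hq =>
      inQ_cls hb (sqNorm_e8 _) hq (norm_pp hi.1.symm) (m' := pm none i)
        (cg_iff.2 ⟨pp none i, by rw [← pp_add_pm none i]; abel⟩) (norm_pm hi.1.symm)
    refine ⟨_, iq.1 ?_, gi ha⟩
    rcases (mk_eq_iff ((mem_K0 hv).1 ha).1 (pp_pp _ _)).1 ((hπ ha hv).symm.trans h) with e | e
    · exact k (mon.congr hv e)
    · simpa [mul_assoc, t0_sq] using (k (mon.congr (mon.add hv cls_t0) e)).mul wb.2.1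
  · obtain ⟨q, q1, q2, e⟩ := h1
    have a := (H.rl hg).2 q q2
    have f : ϑ (cj g q) = y := by rw [a.2, e]; group
    have r := f ▸ H.rl a.1
    obtain ⟨δ, e⟩ := exists_lift r.1 (H.rl_z r h2)
    rw [H.uniq hπ h3 (H.act hπ r e)]
    exact mon.imgN_le pr hb (mem_imgN.2 ⟨_, mem_map_of_mem _ q1, e⟩)
  · obtain ⟨b, b1, e⟩ : QuotientGroup.mk' (center Co0) (γ : Co0) ∈ (((QQ ℝ).map (MulAut.conj g).toMonoidHom ⊓
        centralizer {zA}).subgroupOf (centralizer {zA})).map phi := by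
      rw [(mon.card_E pr (mon.card_conj g) hb).2]; exact mem_map_of_mem _ h
    have k : ∀ {v x}, cls v x → (γ : Co0) • v = v → InQ (cj g zA) x → Commute b.1 x := fun hv f i =>
      eq_of_two ((mon.eq_iff hv (mon.smul b _ e.symm hv)).1 (f.symm ▸ Cg.refl _))
        (pr.h'.conj (inQ_iff.1 i) b1.1) nz
    have m : b.1 ∈ K0 := mem_C2.2 ⟨k cls_t0 γ.2 wb.2.1, k cls_x1 (eps_X h h') wb.2.2⟩
    exact ⟨ϑ b, ⟨_, iq.1 (inQ_iff.2 b1.1), gi m⟩, by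
      rw [← H.mul _ m _ zK, ← H.mul _ zK _ m, mem_cent_iff.1 b.2], H.act hπ (H.rl m) e.symm⟩

end H18.BS
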