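import Cfsg.Agent.Lib.BStd.Thk

/-!
# Existence of the description by the Monster (helper18)
-/

set_option autoImplicit false

namespace H18.BS

open Subgroup Cfsg H16 H95 H95.Gr H7.SM H18.E6N

/-- automorphisms lift to the Monster -/
theorem lift_aut {M : Type*} [Group M] (μ : M →* T) (s : Function.Surjective μ) (k : μ.ker = center M)
    (θ : K0 →* M) (sθ : Function.Surjective θ) (kc : ∀ a, μ (θ a) = 1 ↔ a ∈ center K0) (β : MulAut M) :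
    ∃ g : GG, ∀ a : K0, ∃ m : cj g a ∈ K0, θ ⟨_, m⟩ = β (θ a) := by
  obtain ⟨pK, -, ψ, sψ, k1, k2⟩ := exists_psi2 ix_t0 inD_x1
  have kb : ∀ a, μ (β (θ a)) = 1 ↔ μ (θ a) = 1 := fun a => by
    rw [← MonoidHom.mem_ker, ← MonoidHom.mem_ker, k, H78.Schur.map_center_equiv β]
  have sb : Function.Surjective (μ.comp (β.toMonoidHom.comp θ)) := s.comp (β.surjective.comp sθ)
  obtain ⟨b, b1, b2⟩ := lift4 pK _ sb (fun a ha => (kc a).1 ((kb a).1 ha))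
    (card_v4 sb) (μ.comp θ) (s.comp sθ) (fun a ha => (kc a).1 ha) fun a ha h => by
      rwa [pow_succ, pow_two, show a * a = 1 from Subtype.ext (((k1 a).1 ((k2 a).2 ((kc a).1 ha))).sq ix_t0.sq
        inD_x1.1.sq c01), one_mul] at h
  obtain ⟨d, hd⟩ := aut_K0 b (MonoidHom.range_eq_top.1 (b2.trans pK))
  refine ⟨d, fun a => ⟨hd a ▸ (b a).2, ?_⟩⟩
  rw [show (⟨cj d a, _⟩ : K0) = b a from Subtype.ext (hd a).symm]
  exact hom_uniq pK (θ.comp b) (β.toMonoidHom.comp θ)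
    (fun a => k ▸ (by rw [MonoidHom.mem_ker, map_mul, map_inv, inv_mul_eq_one]; exact (b1 a).symm)) a

theorem exists_cover' {M : Type*} [Group M] (μ : M →* T) (s : Function.Surjective μ) (k : μ.ker = center M)
    (p : commutator M = ⊤) (h3 : ∀ x, μ x = 1 → x ^ 3 = 1 → x = 1) {n t : M} (hn : μ n = 1) (ht : μ t = 1)
    (t1 : t ≠ 1) (tn : t ≠ n) (h1 : n = 1 → ∀ z, μ z = 1 → z = 1 ∨ z = t) :
    ∃ θ : K0 →* M, Function.Surjective θ ∧ (∀ a, μ (θ a) = 1 ↔ a ∈ center K0) ∧ θ ⟨t0, t0K⟩ = n ∧ θ ⟨x1, x1K⟩ = t := by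
  obtain ⟨pK, -, ψ, sψ, k1, k2⟩ := exists_psi2 ix_t0 inD_x1
  obtain ⟨θ, e1, e2⟩ := lift4 pK ψ sψ (fun x hx => (k2 x).1 hx) (card_v4 sψ) μ s k.le h3
  have sθ := MonoidHom.range_eq_top.1 (e2.trans p)
  obtain ⟨w, rfl⟩ := sθ t
  obtain ⟨v, v1, rfl⟩ : ∃ v, v ≠ 1 ∧ θ v = n := by
    by_cases e : n = 1
    · have a : ∀ {x} (h : V4 t0 x1 x), θ ⟨x, v4_mem h⟩ = 1 ∨ θ ⟨x, v4_mem h⟩ = θ w := fun h =>
        h1 e _ ((e1 _).trans ((k1 _).2 h))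
      have ne : ∀ {x} (h : x ∈ K0), IX x → (⟨x, h⟩ : K0) ≠ 1 := fun h i e => i.ne_one (congrArg Subtype.val e)
      rcases a (Or.inr (Or.inl rfl)) with f | f
      · exact ⟨_, ne _ ix_t0, f.trans e.symm⟩
      rcases a (Or.inr (Or.inr (Or.inl rfl))) with f' | f'
      · exact ⟨_, ne _ inD_x1.1, f'.trans e.symm⟩
      · refine ⟨⟨t0, t0K⟩ * ⟨x1, x1K⟩, ne _ inD_x1.2, ?_⟩
        rw [map_mul, f, ← f', ← map_mul, show (⟨x1, _⟩ * ⟨x1, _⟩ : K0) = 1 from Subtype.ext inD_x1.1.sq, map_one, e]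
    · obtain ⟨v, rfl⟩ := sθ n
      exact ⟨v, fun f => e (by rw [f, map_one]), rfl⟩
  have vv := (k1 v).1 ((e1 v).symm.trans hn)
  have hw := (k1 w).1 ((e1 w).symm.trans ht)
  obtain ⟨i, j⟩ := v4_inD vv hw (fun e => v1 (Subtype.ext e)) (fun e => t1 (by rw [show w = 1 from Subtype.ext e, map_one]))
    fun e => tn (by rw [Subtype.ext e])
  obtain ⟨g, f1, f2⟩ := pair_trans ix_t0 inD_x1 i j
  let γ : MulAut K0 := normalizerMonoidHom _ ⟨g, norm_K0 (f1 ▸ vv) (f2 ▸ hw)⟩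
  exact ⟨θ.comp γ.toMonoidHom, sθ.comp γ.surjective, fun a => by
    rw [← H78.Schur.map_center_equiv γ, ← k2, ← e1]; rfl, congrArg θ (Subtype.ext f1), congrArg θ (Subtype.ext f2)⟩

theorem exists_Thk {X : Type*} [Group X] [Finite X] {A K N : Subgroup X} (AN : A ≤ N)
    (NA : ∀ d ∈ N, ∀ a ∈ A, d * a * d⁻¹ ∈ A) (hK : ∀ k, k ∈ K ↔ k ∈ N ∧ ∀ a ∈ A, a * k = k * a)
    (ti : ∀ k ∈ K, k ≠ 1 → k * k = 1 → ∀ g, g * k * g⁻¹ ∈ K → g ∈ N) (μ : A →* T) (s : Function.Surjective μ)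
    (k : μ.ker = center A) (p : commutator A = ⊤) (h3 : ∀ x, μ x = 1 → x ^ 3 = 1 → x = 1) {n t : A} (hn : μ n = 1)
    (ht : μ t = 1) (t1 : t ≠ 1) (tn : t ≠ n) (h1 : n = 1 → ∀ z, μ z = 1 → z = 1 ∨ z = t) :
    ∃ ϑ : GG → X, Thk ϑ n t A K N := by
  obtain ⟨θ, sθ, kc, e1, e2⟩ := exists_cover' μ s k p h3 hn ht t1 tn h1
  obtain ⟨-, -, ψ, -, k1, k2⟩ := exists_psi2 ix_t0 inD_x1
  classical
  let ϑ : GG → X := fun x => if h : x ∈ K0 then θ ⟨x, h⟩ else 1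
  have d : ∀ {x} (h : x ∈ K0), ϑ x = θ ⟨x, h⟩ := fun h => dif_pos h
  refine ⟨ϑ, fun a ha b hb => ?_, fun a ha e => ?_, by rw [d t0K, e1], by rw [d x1K, e2], fun a => ?_, AN, hK,
    fun c hc => ?_, ti⟩
  · rw [d ha, d hb, d (mul_mem ha hb)]; exact congrArg (fun x : A => (x : X)) (map_mul θ ⟨a, ha⟩ ⟨b, hb⟩)
  · rw [d ha, OneMemClass.coe_eq_one] at e
    rcases (k1 ⟨a, ha⟩).1 ((k2 _).2 ((kc _).1 (by rw [e, map_one]))) with f | f | f | f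
    · exact Or.inl f
    · exact Or.inr f
    · exact (t1 (by rw [← e2, ← e]; exact congrArg θ (Subtype.ext f.symm))).elim
    · have : n * t = n * n := by
        rw [← e1, ← e2, ← map_mul, ← map_mul, show (⟨t0, _⟩ * ⟨t0, _⟩ : K0) = 1 from Subtype.ext t0_sq, map_one, ← e]
        exact congrArg θ (Subtype.ext f.symm)
      exact (tn (mul_left_cancel this)).elim
  · refine ⟨fun h => ?_, fun ⟨k, hk, e⟩ => e ▸ d hk ▸ (θ _).2⟩
    obtain ⟨k, e⟩ := sθ ⟨a, h⟩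
    exact ⟨k, k.2, by rw [d k.2, e]⟩
  · obtain ⟨g, hg⟩ := lift_aut μ s k θ sθ kc (normalizerMonoidHom A ⟨c, mem_normalizer_of_finite (NA c hc)⟩)
    refine ⟨g, fun k hk => ?_⟩
    obtain ⟨m, e⟩ := hg ⟨k, hk⟩
    exact ⟨m, by rw [d m, d hk, e]; rfl⟩

/-- the description of the image of a standard subgroup in a quotient -/
theorem exists_Thk_hom {G X : Type*} [Group G] [Group X] [Finite X] {A K N : Subgroup G} (AN : A ≤ N)
    (NA : ∀ d ∈ N, ∀ a ∈ A, d * a * d⁻¹ ∈ A) (hK : ∀ k, k ∈ K ↔ k ∈ N ∧ ∀ a ∈ A, a * k = k * a) (μ : A →* T)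
    (s : Function.Surjective μ) (k : μ.ker = center A) (p : commutator A = ⊤) (f : N →* X)
    (fK : ∀ a : N, f a = 1 → (a : G) ∈ K) (h3 : ∀ x : N, (x : G) ∈ A → (x : G) ∈ K → f x ^ 3 = 1 → f x = 1)
    (ti : ∀ k ∈ (K.subgroupOf N).map f, k ≠ 1 → k * k = 1 → ∀ g, g * k * g⁻¹ ∈ (K.subgroupOf N).map f → g ∈ f.range)
    {n t : N} (nA : (n : G) ∈ A) (nK : (n : G) ∈ K) (tA : (t : G) ∈ A) (tK : (t : G) ∈ K) (t1 : f t ≠ 1)
    (tn : f t ≠ f n) (h1 : f n = 1 → ∀ z : N, (z : G) ∈ A → (z : G) ∈ K → f z = 1 ∨ f z = f t) :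
    ∃ ϑ : GG → X, Thk ϑ (f n) (f t) ((A.subgroupOf N).map f) ((K.subgroupOf N).map f) f.range := by
  have cK : ∀ a : A, μ a = 1 ↔ (a : G) ∈ K := fun a => by
    rw [← MonoidHom.mem_ker, k, hK, Subgroup.mem_center_iff, and_iff_right (AN a.2)]
    exact ⟨fun h b hb => congrArg Subtype.val (h ⟨b, hb⟩), fun h b => Subtype.ext (h b b.2)⟩
  let fA : A →* (A.subgroupOf N).map f := (f.comp (inclusion AN)).codRestrict _ fun a => ⟨inclusion AN a, a.2, rfl⟩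
  have sA : Function.Surjective fA := fun ⟨_, a, ha, rfl⟩ => ⟨⟨a, ha⟩, rfl⟩
  have l : fA.ker ≤ μ.ker := fun a ha => (cK a).2 (fK (inclusion AN a) (congrArg Subtype.val ha))
  have q := fA.liftOfRightInverse_comp_apply _ (Function.rightInverse_surjInv sA) ⟨μ, l⟩
  generalize fA.liftOfRightInverse _ (Function.rightInverse_surjInv sA) ⟨μ, l⟩ = ν at q
  have key : ∀ d : N, (∀ a : N, (a : G) ∈ A → f a * f d = f d * f a) → (d : G) ∈ K := fun d h =>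
    (hK d).2 ⟨d.2, fun a ha => by
      let c : A →* A := ((MulAut.conj (d : G)).toMonoidHom.comp A.subtype).codRestrict _ fun a => NA d d.2 a a.2
      have := hom_uniq p c (MonoidHom.id A) (fun a => k ▸ (cK _).2 (fK ((inclusion AN a)⁻¹ * (d * inclusion AN a * d⁻¹))
        (by rw [map_mul, map_mul, map_mul, ← h (inclusion AN a) a.2]; simp))) ⟨a, ha⟩
      exact (mul_inv_eq_iff_eq_mul.1 (congrArg Subtype.val this)).symm⟩
  have kc : ∀ d : N, (d : G) ∈ K → ∀ a : N, (a : G) ∈ A → f a * f d = f d * f a := fun d hd a ha => by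
    rw [← map_mul, ← map_mul, show a * d = d * a from Subtype.ext (((hK d).1 hd).2 a ha)]
  refine exists_Thk (n := fA ⟨n, nA⟩) (t := fA ⟨t, tA⟩) (map_le_range f _) ?_ (fun x => ⟨?_, ?_⟩) ti ν
    (fun y => ?_) (Subgroup.ext fun x => ?_) ?_ (fun x => ?_) ((q _).trans ((cK _).2 nK)) ((q _).trans ((cK _).2 tK))
    (fun e => t1 (congrArg Subtype.val e)) (fun e => tn (congrArg Subtype.val e)) fun e z => ?_
  · rintro _ ⟨d, rfl⟩ _ ⟨a, ha, rfl⟩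
    exact ⟨d * a * d⁻¹, NA d d.2 a ha, by simp⟩
  · rintro ⟨d, hd, rfl⟩
    exact ⟨⟨d, rfl⟩, by rintro _ ⟨a, ha, rfl⟩; exact kc d hd a ha⟩
  · rintro ⟨⟨d, rfl⟩, h⟩
    exact ⟨d, key d fun a ha => h _ ⟨a, ha, rfl⟩, rfl⟩
  · obtain ⟨a, rfl⟩ := s y
    exact ⟨fA a, q a⟩
  · obtain ⟨a, rfl⟩ := sA x
    rw [MonoidHom.mem_ker, q, Subgroup.mem_center_iff]
    refine (cK a).trans ⟨fun h b => ?_, fun h => key (inclusion AN a) fun b hb => congrArg Subtype.val (h (fA ⟨b, hb⟩))⟩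
    obtain ⟨b, rfl⟩ := sA b
    exact Subtype.ext (kc (inclusion AN a) h (inclusion AN b) b.2)
  · rw [← H78.Schur.map_commutator_of_surjective fA sA, p, map_top_of_surjective _ sA]
  · obtain ⟨a, rfl⟩ := sA x
    exact fun h e => Subtype.ext (h3 (inclusion AN a) a.2 ((cK a).1 ((q a).symm.trans h)) (congrArg Subtype.val e))
  · obtain ⟨a, rfl⟩ := sA z
    exact fun h => (h1 (congrArg Subtype.val e) (inclusion AN a) a.2 ((cK a).1 ((q a).symm.trans h))).imp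
      Subtype.ext Subtype.ext

end H18.BS
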