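import Cfsg.Agent.Lib.BStd.VU
import Cfsg.Agent.Lib.BStd.St

set_option autoImplicit false

namespace H18.BS

open Cfsg H16 H95 H48.BR Subgroup H75.WC

namespace VW

theorem be_of {f : V →+ V} (h : ∀ a, qq (f a) = qq a) (a c : V) : be (f a) (f c) = be a c := by
  have := h (a + c)
  rw [map_add, qq_add, qq_add, h, h] at this
  exact add_left_cancel this

theorem uniq {f g : V →+ V} (hf : ∀ a, qq (f a) = qq a) (hg : ∀ a, qq (g a) = qq a) (ht : f tb = tb)
    (e : ∀ a, be a tb = 0 → f a = g a) (s : ∀ w, be w tb = 0 → ∃ a, be a tb = 0 ∧ f a = w) (v : V) : f v = g v := by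
  rcases z2 (be v tb) with h | h
  · exact e v h
  rcases mem_one (x := tb) (a := f v + g v) fun c hc => by
    obtain ⟨a, ha, rfl⟩ := s c (be_comm _ _ ▸ hc)
    rw [be_add_right, be_of hf, e a ha, be_of hg, CharTwo.add_self_eq_zero] with k | k
  · exact add_eq_zero.1 k
  · have := hg v
    rw [show g v = f v + tb by rw [← k, ← add_assoc, add_self, zero_add], qq_add, hf, ta_tb.qq, ← ht, be_of hf, h]
      at this
    simp at this

/-- extension of an isometry of the hyperplane -/
theorem ext (κ : V → V) (ha : ∀ a c, be a tb = 0 → be c tb = 0 → κ (a + c) = κ a + κ c)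
    (hW : ∀ a, be a tb = 0 → be (κ a) tb = 0) (hq : ∀ a, be a tb = 0 → qq (κ a) = qq a) (ht : κ tb = tb) :
    ∃ f : V →+ V, (∀ a, qq (f a) = qq a) ∧ (∀ a, be a tb = 0 → f a = κ a) ∧
      ∀ w, be w tb = 0 → ∃ a, be a tb = 0 ∧ κ a = w := by
  have hb : ∀ a c, be a tb = 0 → be c tb = 0 → be (κ a) (κ c) = be a c := fun a c h1 h2 => by
    have := hq (a + c) (by rw [be_add_left, h1, h2, add_zero])
    rw [ha a c h1 h2, qq_add, qq_add, hq a h1, hq c h2] at this
    exact add_left_cancel this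
  let W : AddSubgroup V :=
    { carrier := {a | be a tb = 0}
      add_mem' := fun {a c} (h1 : be a tb = 0) (h2 : be c tb = 0) =>
        show be (a + c) tb = 0 by rw [be_add_left, h1, h2, add_zero]
      zero_mem' := show be 0 tb = 0 by rw [map_zero, LinearMap.zero_apply]
      neg_mem' := fun {a} (h : be a tb = 0) => show be (-a) tb = 0 by rw [map_neg, LinearMap.neg_apply, h, neg_zero] }
  let k : W →+ W := AddMonoidHom.mk' (fun a => ⟨κ a, hW a a.2⟩) fun a c => Subtype.ext (ha a c a.2 c.2)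
  have inj : Function.Injective k := (injective_iff_map_eq_zero k).2 fun a e => Subtype.ext <| by
    have e' : κ a = 0 := congrArg Subtype.val e
    refine (mem_one (x := tb) fun c hc => ?_).resolve_right fun e1 => tb_ne (by rw [← ht, ← e1, e'])
    rw [← hb c a (be_comm _ _ ▸ hc) a.2, e', map_zero]
  let e := AddEquiv.ofBijective k (Finite.injective_iff_bijective.1 inj)
  obtain ⟨v0, -, h1⟩ := exists_be (x := 0) tb_ne tb_ne
  obtain ⟨v, hv⟩ := exists_dual W (((be v0).toAddMonoidHom.comp W.subtype).comp e.symm.toAddMonoidHom)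
  have hv' : ∀ a, be a tb = 0 → be v (κ a) = be v0 a := fun a h => by
    have k := hv (e ⟨a, h⟩)
    rw [AddMonoidHom.comp_apply, AddEquiv.coe_toAddMonoidHom, e.symm_apply_apply] at k
    exact k.symm
  obtain ⟨v1, h2, h3⟩ : ∃ v1, qq v1 = qq v0 ∧ ∀ a, be a tb = 0 → be v1 (κ a) = be v0 a := by
    by_cases q : qq v = qq v0
    · exact ⟨v, q, hv'⟩
    refine ⟨v + tb, ?_, fun a h => by rw [be_add_left, hv' a h, be_comm tb, hW a h, add_zero]⟩
    rw [qq_add, ta_tb.qq, ← ht, hv' tb (be_self _), h1]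
    exact (by decide : ∀ b e : ZMod 2, b ≠ e → b + 0 + 1 = e) _ _ q
  have m : ∀ a, be (a + be a tb • v0) tb = 0 := fun a => by
    rw [be_add_left, map_smul, LinearMap.smul_apply, h1, smul_eq_mul, mul_one, CharTwo.add_self_eq_zero]
  refine ⟨AddMonoidHom.mk' (fun a => κ (a + be a tb • v0) + be a tb • v1) fun a c => ?_, fun a => ?_, fun a h => ?_,
    fun w h => ?_⟩
  · rw [be_add_left, add_smul, add_smul, add_add_add_comm, ha _ _ (m a) (m c), add_add_add_comm]
  · have := m a
    show qq (κ (a + be a tb • v0) + be a tb • v1) = _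
    rcases z2 (be a tb) with h | h <;> rw [h] at this ⊢
    · simp [hq a h]
    · rw [one_smul] at this
      rw [one_smul, one_smul, qq_add, hq _ this, h2, be_comm, h3 _ this, be_comm, ← qq_add, add_assoc, add_self,
        add_zero]
  · simp [h]
  · obtain ⟨a, e⟩ := e.surjective ⟨w, h⟩
    exact ⟨a, a.2, congrArg Subtype.val e⟩

end VW

open VW

/-- an isometry of `tb^⊥` which fixes the frame space pointwise and normalises `U6(2)` is trivial -/
theorem sw_lin (κ : V → V) (ha : ∀ a c, be a tb = 0 → be c tb = 0 → κ (a + c) = κ a + κ c)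
    (hW : ∀ a, be a tb = 0 → be (κ a) tb = 0) (hq : ∀ a, be a tb = 0 → qq (κ a) = qq a)
    (hx : ∀ i, κ (xx i) = xx i)
    (hn : ∀ γ : C2, Ux γ → ∃ γ' : C2, γ' • tb = tb ∧ ∀ a, be a tb = 0 → γ • κ a = κ (γ' • a))
    {a : V} (h : be a tb = 0) : κ a = a := by
  obtain ⟨f, fq, fk, fs⟩ := ext κ ha hW hq (xx_one ▸ hx _)
  rw [← fk a h]
  have fx : ∀ i, f (xx i) = xx i := fun i => (fk _ (be_xx_tb i)).trans (hx i)
  have fb : f bb = bb := VC.xx_none ▸ fx none
  have inj : Function.Injective f := fun a c e => be_ext fun x => by rw [← be_of fq, e, be_of fq]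
  have fn : ∀ γ : C2, Ux γ → ∃ γ' : C2, ∀ a, γ • f a = f (γ' • a) := fun γ hγ => by
    obtain ⟨γ', e1, e2⟩ := hn γ hγ
    refine ⟨γ', uniq (f := (DistribSMul.toAddMonoidHom V γ).comp f) (g := f.comp (DistribSMul.toAddMonoidHom V γ'))
      (fun a => (qq_smul γ _).trans (fq a)) (fun a => (fq _).trans (qq_smul γ' a))
      (show γ • f tb = tb by rw [← xx_one, fx, xx_one, hγ.tb]) (fun a h => ?_) fun w hw => ?_⟩
    · show γ • f a = f (γ' • a)
      rw [fk a h, fk _ (by rw [← e1, be_smul, h]), e2 a h]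
    · obtain ⟨a, h1, h2⟩ := fs (γ⁻¹ • w) (by rw [← hγ.inv.tb, be_smul, hw])
      exact ⟨a, h1, show γ • f a = w by rw [fk a h1, h2, smul_inv_smul]⟩
  have fp : ∀ {x i}, x = xx i ∨ x = xx i + bb → f x = x := by
    rintro _ i (rfl | rfl)
    exacts [fx i, by rw [map_add, fx, fb]]
  obtain ⟨ε, hε, k⟩ := rho_U f fq fb (fun i _ => Or.inl (fx i)) (fun r h1 h2 a => by
      obtain ⟨r', e⟩ := fn r (h1.ux h2)
      have k : ∀ i, (r⁻¹ * r') • xx i = xx i := fun i => by
        rw [mul_smul, inv_smul_eq_iff]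
        exact inj (by rw [← e, fx, fp (eps_xx h1 i)])
      rw [e, ← inv_mul_eq_one.1 (VB.eps_one (fix_pairs (VC.xx_none ▸ k none) fun i _ => Or.inl (k i)) k)])
    fun σ h1 h2 => by
      obtain ⟨σ', e⟩ := fn σ h1
      have b : σ⁻¹ • bb = bb := inv_smul_eq_iff.2 h2.symm
      refine ⟨σ' * σ⁻¹, fix_pairs ?_ fun j hj => Or.inl ?_, fun a => by rw [e, mul_smul, inv_smul_smul]⟩
      · rw [mul_smul, b]
        exact inj (by rw [← e, fb, h2])
      · obtain ⟨i, -, k⟩ := pair_xx ((ta_xx hj).1.smul σ⁻¹) (by rw [← b, ← smul_add]; exact (ta_xx hj).2.smul σ⁻¹)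
        rw [mul_smul]
        exact inj (by rw [← e, fp k, smul_inv_smul, fx])
  obtain rfl : ε = 1 := VB.eps_one hε fun i => by
    rcases k with k | k
    · rw [← k, fx]
    · simpa [sg, be_xx_bb, be_xx_tb, fx] using (k (xx i)).symm
  simp only [one_smul] at k
  refine (k.resolve_right fun k => ?_) a
  have p2 : Pt (some 2) := ⟨by decide, by decide⟩
  obtain ⟨o1, o2⟩ := om_xx p2 (by decide)
  obtain ⟨δ, h1, h2⟩ := om_U o1
  obtain ⟨δ', e⟩ := fn δ h1
  have dt : δ' • tb = tb := inj (by rw [← e, ← xx_one, fx, xx_one, h1.tb])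
  have db : δ⁻¹ • bb = xx (some 2) + tb := by
    rw [inv_smul_eq_iff, smul_add, h2, h1.tb, add_right_comm, add_self, zero_add]
  have key : ∀ a, be tb a = 0 → (δ⁻¹ * δ') • a = a + be (xx (some 2) + tb + bb) a • tb := fun a h => by
    rw [be_comm] at h
    have e1 := e a
    have h' : be (δ' • a) tb = 0 := by rw [← dt, be_smul, h]
    rw [k, k, sg, sg, h, h', zero_smul, add_zero, add_zero, smul_add, smul_z2, h1.tb] at e1
    have e2 := congrArg (be · bb) e1
    simp only [be_add_left, map_smul, LinearMap.smul_apply, be_tb_bb, smul_zero, add_zero] at e2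
    rw [mul_smul, inv_smul_eq_iff, smul_add, smul_z2, h1.tb, ← db, be_add_left, add_smul, add_comm (_ • tb),
      ← add_assoc, be_comm bb, e1, be_comm _ a, ← be_smul_left, e2, add_assoc, add_self, add_zero]
  have one := siegel (x := tb) (y := xx (some 2) + tb + bb) (γ := δ⁻¹ * δ')
    (by rw [be_add_right, be_add_right, be_comm, be_xx_tb, be_self, be_tb_bb, add_zero, add_zero])
    fun a h1 h2 => by rw [key a h1, h2, zero_smul, add_zero]
  rcases mem_one (x := tb) (a := xx (some 2) + tb + bb) fun c hc => by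
    have := key c hc
    rw [one, one_smul, left_eq_add, smul_eq_zero] at this
    exact be_comm _ _ ▸ this.resolve_right tb_ne with k | k
  · exact o2.2.2 (by rwa [add_right_comm, add_eq_zero] at k)
  · exact o2.1.ne (by rwa [add_right_comm, add_eq_right] at k)

end H18.BS
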