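import Cfsg.Agent.Lib.BStd.QUa
import Cfsg.Agent.Lib.BStd.VW

set_option autoImplicit false

namespace H18.BS.QOne

open Cfsg H16 H95 H48.BR Subgroup H75.WC QU

variable {G : Type*} [Group G] {S : Su G} {g x y p : G} {κ : V → V}

/-- `g` acts on the classes as `κ` -/
def Ka (S : Su G) (g : G) (κ : V → V) : Prop := ∀ x ∈ S.P, S.π (g * x * g⁻¹) = κ (S.π x)

theorem wd (h : Sw S g) (hx : x ∈ S.P) (hy : y ∈ S.P) :
    S.π (g * x * g⁻¹) = S.π (g * y * g⁻¹) ↔ S.π x = S.π y := by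
  rw [S.lf.eq_iff (h.P hx) (h.P hy), S.lf.eq_iff hx hy, ← cjτ' h.2]
  simp only [mul_left_inj, mul_right_inj]

theorem exκ (h : Sw S g) : ∃ κ, Ka S g κ := by
  choose! s hs e using S.onto
  exact ⟨fun a => S.π (g * s a * g⁻¹), fun x hx => (wd h hx (hs _ (S.perp x hx))).2 (e _ (S.perp x hx)).symm⟩

theorem cm (h : Sw S g) (k : Ka S g κ) (d d' : S.D) (e : (d' : G) = g * d * g⁻¹) {a : V} (ha : be a tb = 0) :
    κ (S.φ d • a) = S.φ d' • κ a := by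
  obtain ⟨x, hx, rfl⟩ := S.onto a ha
  rw [← (S.φ_act d x hx).2, ← k _ (S.φ_act d x hx).1, ← k x hx, ← (S.φ_act d' _ (h.P hx)).2, e]
  congr 1; group

theorem hn (h : Sw S g) (k : Ka S g κ) (γ : C2) (u : Ux γ) :
    ∃ γ' : C2, γ' • tb = tb ∧ ∀ a, be a tb = 0 → γ • κ a = κ (γ' • a) := by
  obtain ⟨d, rfl⟩ := S.φ_surj u
  exact ⟨_, S.φ_tb ⟨_, h.inv.D d.2⟩, fun a ha => (cm h k _ d (by simp [mul_assoc]) ha).symm⟩

theorem πβ' (hx : x ∈ S.P) : S.π (x * S.β) = S.π x + bb := by rw [S.lf.add _ hx _ S.βP, S.πβ]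

theorem πtβ : S.π (S.t * S.β) = tb + bb := by rw [πβ' S.tP, S.πt]

theorem cβ (S : Su G) : ∃ p ∈ S.P, p * S.β * p⁻¹ = S.β * S.τ :=
  S.conj_τ S.βP (S.πβ ▸ tb_bb.ne) (S.πβ ▸ fun e => ta_tb.not_tb (e ▸ tb_bb))

theorem fixβ (hx : x ∈ S.P) (e : S.π x = bb) : ∃ p ∈ S.P, p * x * p⁻¹ = S.β := by
  rcases (S.lf.eq_iff S.βP hx).1 (S.πβ.trans e.symm) with rfl | rfl
  · exact ⟨1, one_mem _, by simp⟩
  · obtain ⟨p, hp, e⟩ := cβ S
    exact ⟨p⁻¹, inv_mem hp, by rw [← e]; group⟩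

theorem cls (h : Sw S g) (hx : x ∈ S.P) (c : IsConj S.τ x) (n : x ≠ S.τ)
    (f : ∀ ε : C2, Eps ε → ε • tb = tb → ε • S.π x = S.π x) : S.π x = bb := by
  have c1 : IsConj S.t (S.t * S.τ) := isConj_iff.2 ⟨g, h.1⟩
  have c2 : IsConj S.t (S.t * S.β) := c1.trans (isConj_iff.2 ⟨S.c, by
    rw [← conj_mul, S.ct, mul_inv_cancel_right, S.cτ]⟩)
  have c3 : ¬ IsConj S.t x := fun e => S.nc (e.trans c.symm)
  have tβ := S.P.mul_mem S.tP S.βP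
  rcases fix_R0 f with r | r | r | r
  · exact (((S.lf.ker _ hx).1 r).elim (fun e => S.lf.ne (isConj_one_left.1 (e ▸ c))) n).elim
  · exact (c3 (((S.eq_tb hx).1 r).elim (fun e => e ▸ IsConj.refl _) fun e => e ▸ c1)).elim
  · exact r
  · obtain ⟨p, -, e⟩ := S.conj_τ tβ (πtβ (S := S) ▸ om_bb.1.ne) (πtβ (S := S) ▸ om_bb.2.2)
    exact (c3 (((S.lf.eq_iff tβ hx).1 (πtβ.trans r.symm)).elim (fun e => e ▸ c2)
      fun f => f ▸ c2.trans (isConj_iff.2 ⟨p, e⟩))).elim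

/-- the interchanging element may be taken to centralise `β` -/
theorem exβ (h : Sw S g) : ∃ g, Sw S g ∧ g * S.β = S.β * g := by
  obtain ⟨κ, k⟩ := exκ h
  have w : ∀ {a}, Om a → be (a + tb) tb = 0 := fun h => by rw [be_add_left, h.2.1, be_self, add_zero]
  let X : SubMulAction VB.R0 V :=
    { carrier := (fun a => κ (a + tb)) '' {a | Om a}
      smul_mem' := by
        rintro r _ ⟨a, ha, rfl⟩
        obtain ⟨γ, e1, e2⟩ := hn h k r (r.2.1.ux r.2.2)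
        exact ⟨γ • a, ha.smul e1, show κ (γ • a + tb) = (r : C2) • κ (a + tb) by rw [e2 _ (w ha), smul_add, e1]⟩ }
  let _ : MulAction VB.R0 X := SubMulAction.mulAction X
  obtain ⟨⟨_, a, ha, rfl⟩, f⟩ := VB.R0_two.nonempty_fixed_point_of_prime_not_dvd_card X (by
    rw [show Nat.card X = {a | Om a}.ncard from (Nat.card_coe_set_eq _).trans (Set.InjOn.ncard_image
      fun a ha c hc (e : κ (a + tb) = κ (c + tb)) => by
        obtain ⟨x, hx, e1⟩ := S.onto _ (w ha)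
        obtain ⟨y, hy, e2⟩ := S.onto _ (w hc)
        rw [← e1, ← e2, ← k x hx, ← k y hy, wd h hx hy, e1, e2] at e
        exact add_right_cancel e)]
    exact om_odd.not_two_dvd_nat)
  obtain ⟨x, hx, e⟩ := S.onto _ (w ha)
  have o : Om (S.π x + tb) := by rwa [e, add_assoc, add_self, add_zero]
  obtain ⟨q, hq, e4⟩ := fixβ (h.P hx) (cls h (h.P hx)
    (((S.sig x hx).2 (.inr o)).isConj.trans (isConj_iff.2 ⟨g, rfl⟩))
    (fun r => o.2.2 (by rw [mul_left_cancel ((mul_inv_eq_iff_eq_mul.1 r).trans h.2.symm), S.lf.τ0, zero_add]))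
    fun ε h1 h2 => by rw [k x hx, e]; exact congrArg Subtype.val (f ⟨ε, h1, h2⟩))
  obtain ⟨γ, u, e2⟩ := om_U ha
  obtain ⟨d, rfl⟩ := S.φ_surj u
  obtain ⟨p, hp, e3⟩ := fixβ (S.φ_act d x hx).1 (by
    rw [(S.φ_act d x hx).2, e, smul_add, e2, u.tb, add_right_comm, add_self, zero_add])
  refine ⟨_, h.mul (mul_mem (S.PD hq) (h.D (inv_mem (mul_mem (S.PD hp) d.2)))), mul_inv_eq_iff_eq_mul.1 ?_⟩
  conv_lhs => rw [← e3]
  rw [← e4]; group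

/-- the lifts of the frame -/
def F (S : Su G) (x : G) : Prop := x ∈ S.P ∧ TA (S.π x) ∧ TA (S.π x + bb)

theorem ta (h : Sw S g) (b : g * S.β = S.β * g) (hx : x ∈ S.P) (a : TA (S.π x)) : TA (S.π (g * x * g⁻¹)) := by
  obtain ⟨κ, k⟩ := exκ h
  by_cases e : S.π x = tb
  · rw [(wd h hx S.tP).2 (e.trans S.πt.symm), h.1, S.lf.mulτ S.tP, S.πt]; exact ta_tb
  obtain ⟨γ, u, e2⟩ := om_U ⟨a, S.perp x hx, e⟩
  obtain ⟨d, rfl⟩ := S.φ_surj u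
  have := cm h k d ⟨_, h.D d.2⟩ rfl (S.perp x hx)
  rw [e2, ← πtβ (S := S), ← k _ (mul_mem S.tP S.βP), ← k x hx, ← conj_mul, h.1, b, mul_inv_cancel_right,
    πβ' (mul_mem S.tP S.lf.mem), S.lf.mulτ S.tP, S.πt, ← inv_smul_eq_iff] at this
  exact this ▸ om_bb.1.smul _

theorem F.sw (hx : F S x) (h : Sw S g) (b : g * S.β = S.β * g) : F S (g * x * g⁻¹) :=
  ⟨h.P hx.1, ta h b hx.1 hx.2.1, by
    have := ta h b (mul_mem hx.1 S.βP) (πβ' hx.1 ▸ hx.2.2)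
    rwa [← conj_mul, b, mul_inv_cancel_right, πβ' (h.P hx.1)] at this⟩

theorem F.cP (hx : F S x) (hp : p ∈ S.P) : F S (p * x * p⁻¹) :=
  ⟨(S.lf.act hp x hx.1).1, by rw [(S.lf.act hp x hx.1).2, one_smul]; exact hx.2⟩

theorem F.β (hx : F S x) : F S (x * S.β) :=
  ⟨mul_mem hx.1 S.βP, by rw [πβ' hx.1, add_assoc, add_self, add_zero]; exact hx.2.symm⟩

theorem Bt : (S.cj S.c).t = S.t := mul_inv_eq_iff_eq_mul.2 S.ct

theorem Bτ : (S.cj S.c).τ = S.β := S.cτ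

theorem F.B (hx : F S x) : x ∈ (S.cj S.c).P := by
  obtain ⟨i, hi, e | e⟩ := pair_xx hx.2.1 hx.2.2
  · exact S.inE x hx.1 i hi e
  · exact ((S.cj S.c).P.mul_mem_cancel_right (Bτ (S := S) ▸ (S.cj S.c).lf.mem : S.β ∈ _)).1
      (S.inE _ hx.β.1 i hi (by rw [πβ' hx.1, e, add_assoc, add_self, add_zero]))

theorem F.cB (hx : F S x) (hp : p ∈ (S.cj S.c).P) : F S (p * x * p⁻¹) := by
  rw [(S.cj S.c).lf.conj hp hx.B, Bτ]
  rcases zp_cases S.β (be ((S.cj S.c).π p) ((S.cj S.c).π x)) with e | e <;> rw [e]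
  exacts [by rwa [mul_one], hx.β]

theorem cτ (S : Su G) : ∃ p ∈ (S.cj S.c).P, p * S.τ * p⁻¹ = S.τ * S.β := by
  have m : S.τ ∈ (S.cj S.c).P := ((S.cj S.c).P.mul_mem_cancel_left (Bt (S := S) ▸ (S.cj S.c).tP : S.t ∈ _)).1
    (S.inE _ (mul_mem S.tP S.lf.mem) _ pt_one (by rw [S.lf.mulτ S.tP, S.πt, xx_one]))
  refine Bτ (S := S) ▸ (S.cj S.c).conj_τ m (fun e => ?_) fun e => ?_
  · rcases ((S.cj S.c).lf.ker _ m).1 e with f | f
    · exact S.lf.ne f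
    · exact tb_bb.ne (by rw [← S.πβ, ← Bτ, ← f, S.lf.τ0])
  · rcases ((S.cj S.c).eq_tb m).1 e with f | f
    · exact S.t_ne_τ (Bt.symm.trans f.symm)
    · rw [Bt, Bτ] at f
      exact om_bb.1.ne (by rw [← πtβ (S := S), ← f, S.lf.τ0])

/-- an element interchanging `t` and `tβ` -/
theorem exρ (h : Sw S g) (b : g * S.β = S.β * g) (hp : p ∈ S.P) (e : p * S.β * p⁻¹ = S.β * S.τ) :
    ∃ ρ, ρ * S.τ = S.τ * ρ ∧ ρ * S.β = S.β * ρ ∧ ρ * S.t * ρ⁻¹ = S.t * S.β ∧ ∀ x, F S x → ρ⁻¹ * x * ρ ∈ S.P := by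
  obtain ⟨q, hq, f⟩ := cτ S
  have qβ : q * S.β = S.β * q := Bτ (S := S) ▸ (S.cj S.c).Pτ hq
  have qt : q * S.t = S.t * q := Bt (S := S) ▸ (S.cj S.c).Pt hq
  have e1 : p * q * S.τ * (p * q)⁻¹ = S.β := by
    rw [show p * q * S.τ * (p * q)⁻¹ = p * (q * S.τ * q⁻¹) * p⁻¹ by group, f, ← S.Pτ S.βP, cjτ' (S.Pτ hp), e,
      mul_assoc, S.lf.sq, mul_one]
  have e2 : p * q * S.β * (p * q)⁻¹ = S.β * S.τ := by
    rw [show p * q * S.β * (p * q)⁻¹ = p * (q * S.β * q⁻¹) * p⁻¹ by group, qβ, mul_inv_cancel_right, e]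
  have e3 : p * q * S.t = S.t * (p * q) := Commute.mul_left (S.Pt hp) qt
  have k : ∀ x, F S x → (p * q * g * (p * q)⁻¹)⁻¹ * x * (p * q * g * (p * q)⁻¹) ∈ S.P := fun x hx => by
    simpa [mul_assoc] using
      (((((hx.cP (inv_mem hp)).cB (inv_mem hq)).sw h.inv (Commute.inv_left b)).cB hq).cP hp).1
  generalize p * q = c at e1 e2 e3 k
  have c1 : Commute (c * g * c⁻¹) S.β := e1 ▸ Commute.map h.2 (MulAut.conj c)
  have c2 : Commute (c * g * c⁻¹) (S.β * S.τ) := e2 ▸ Commute.map b (MulAut.conj c)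
  refine ⟨_, by simpa using (c1.inv_right.mul_right c2).eq, c1, ?_, k⟩
  calc c * g * c⁻¹ * S.t * (c * g * c⁻¹)⁻¹ = c * (g * (c⁻¹ * S.t * c) * g⁻¹) * c⁻¹ := by group
    _ = _ := by rw [mul_assoc c⁻¹, ← e3, inv_mul_cancel_left, h.1, ← conj_mul, e1, e3, mul_inv_cancel_right]

/-- an interchanging element which fixes the frame -/
theorem exh (h : Sw S g) (b : g * S.β = S.β * g) :
    ∃ h, Sw S h ∧ ∀ x ∈ S.P, ∀ i, S.π x = xx i → S.π (h * x * h⁻¹) = S.π x := by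
  obtain ⟨p, hp, e⟩ := cβ S
  obtain ⟨ρ, r1, r2, r3, r4⟩ := exρ h b hp e
  have ββ : S.β * S.β = 1 := (S.lf.sq_iff S.βP).2 (S.πβ ▸ tb_bb.qq)
  have r5 : ρ * (S.t * S.β) * ρ⁻¹ = S.t := by rw [← conj_mul, r3, r2, mul_inv_cancel_right, mul_assoc, ββ, mul_one]
  have sw : Sw S (ρ * p * ρ⁻¹ * p⁻¹) := ⟨by
    calc ρ * p * ρ⁻¹ * p⁻¹ * S.t * (ρ * p * ρ⁻¹ * p⁻¹)⁻¹ = ρ * (p * (ρ⁻¹ * (p⁻¹ * S.t * p) * ρ) * p⁻¹) * ρ⁻¹ := by group
      _ = ρ * (p * (S.t * S.β) * p⁻¹) * ρ⁻¹ := by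
        rw [mul_assoc p⁻¹, ← S.Pt hp, inv_mul_cancel_left]
        conv_lhs => rw [← r5]
        group
      _ = _ := by rw [← conj_mul (b := p), S.Pt hp, mul_inv_cancel_right, e, ← mul_assoc S.t, cjτ' r1, r5],
    ((Commute.mul_left r1 (S.Pτ hp)).mul_left (Commute.inv_left r1)).mul_left (Commute.inv_left (S.Pτ hp))⟩
  refine ⟨_, sw, fun x hx i hi => ?_⟩
  have a := S.lf.act (inv_mem hp) x hx
  rw [one_smul, inv_inv] at a
  have m : ρ⁻¹ * (p⁻¹ * x * p) * ρ ∈ S.P := by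
    by_cases n : Pt i
    · exact r4 _ ⟨a.1, by rw [a.2, hi]; exact ta_xx n⟩
    have : ρ * (p⁻¹ * x * p) = p⁻¹ * x * p * ρ := by
      rcases not_and_or.1 n with n | n <;> rw [not_not] at n <;> subst n
      · rcases (S.lf.eq_iff S.βP a.1).1 (by rw [a.2, hi, VC.xx_none, S.πβ]) with f | f <;> rw [f]
        exacts [r2, Commute.mul_right r2 r1]
      · rcases (S.lf.ker _ a.1).1 (by rw [a.2, hi, VC.xx_zero]) with f | f <;> rw [f]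
        exacts [by simp, r1]
    rw [mul_assoc, ← this, inv_mul_cancel_left]; exact a.1
  rw [show ρ * p * ρ⁻¹ * p⁻¹ * x * (ρ * p * ρ⁻¹ * p⁻¹)⁻¹ = ρ * (p * (ρ⁻¹ * (p⁻¹ * x * p) * ρ) * p⁻¹) * ρ⁻¹ by group,
    S.lf.conj hp m, cjτ r1, show ρ * (ρ⁻¹ * (p⁻¹ * x * p) * ρ) * ρ⁻¹ = p⁻¹ * x * p by group, ← a.2]
  rcases zp_cases S.τ (be (S.π p) (S.π (ρ⁻¹ * (p⁻¹ * x * p) * ρ))) with f | f <;> rw [f]
  exacts [by rw [mul_one], S.lf.mulτ a.1]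

end H18.BS.QOne

namespace H18.BS.QU

open Cfsg H16 H95 H48.BR Subgroup H75.WC QOne

variable {G : Type*} [Group G] [Finite G] {S : Su G}

set_option linter.unusedSectionVars false in
/-- an element interchanging `t` and `tτ` which acts trivially on the classes -/
theorem exists_one (h : IsConj S.t (S.t * S.τ)) : ∃ g, Sw S g ∧ Act S.P S.π g 1 := by
  obtain ⟨g, h⟩ := exists_sw h
  obtain ⟨g, h, b⟩ := exβ h
  obtain ⟨g, h, f⟩ := exh h b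
  obtain ⟨κ, k⟩ := exκ h
  refine ⟨g, h, fun x hx => ⟨h.P hx, ?_⟩⟩
  rw [one_smul, k x hx]
  refine sw_lin κ (fun a c ha hc => ?_) (fun a ha => ?_) (fun a ha => ?_) (fun i => ?_) (hn h k) (S.perp x hx)
  · obtain ⟨x, hx, rfl⟩ := S.onto a ha
    obtain ⟨y, hy, rfl⟩ := S.onto c hc
    rw [← S.lf.add _ hx _ hy, ← k _ (mul_mem hx hy), ← conj_mul, S.lf.add _ (h.P hx) _ (h.P hy), k x hx, k y hy]
  · obtain ⟨x, hx, rfl⟩ := S.onto a ha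
    exact k x hx ▸ S.perp _ (h.P hx)
  · obtain ⟨x, hx, rfl⟩ := S.onto a ha
    have : qq (κ (S.π x)) = 0 ↔ qq (S.π x) = 0 := by
      rw [← k x hx, ← S.lf.sq_iff (h.P hx), ← S.lf.sq_iff hx, conj_mul, conj_eq_one_iff]
    generalize qq (κ (S.π x)) = u, qq (S.π x) = v at this
    revert u v; decide
  · obtain ⟨x, hx, e⟩ := S.onto _ (be_xx_tb i)
    rw [← e, ← k x hx, f x hx i e]

end H18.BS.QU
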