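import Cfsg.Agent.Lib.BStd.Su
import Cfsg.Agent.Lib.LocStruct.SylowIn

/-!
# An element interchanging `t` and `tτ` which acts on `P` as a transvection
-/

set_option autoImplicit false

namespace H18.BS.QU

open Cfsg H16 H95 H48.BR Subgroup H75.WC

variable {G : Type*} [Group G] [Finite G] {S : Su G} {g h d x : G}

/-- `g` interchanges `t` and `tτ` -/
def Sw (S : Su G) (g : G) : Prop := g * S.t * g⁻¹ = S.t * S.τ ∧ g * S.τ = S.τ * g

omit [Finite G] in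
theorem exists_sw (h : IsConj S.t (S.t * S.τ)) : ∃ g, Sw S g := by
  obtain ⟨g, e⟩ := isConj_iff.1 h
  obtain ⟨σ, ⟨c, hc, rfl⟩, f⟩ := (S.cj g).fix_sg S.lf.two fun x hx => by
    rw [Su.cj_t, e, ← mul_assoc, S.Pt hx, mul_assoc, S.Pτ hx, mul_assoc]
  rw [Su.cj_t, e] at hc
  have k : IsConj S.τ (c * (S.cj g).τ * c⁻¹) := isConj_iff.2 ⟨c * g, by simp [mul_assoc]⟩
  refine ⟨c * g, ?_, ?_⟩
  · rw [← mul_inv_cancel_right (S.t * S.τ) c, ← hc, ← e]; group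
  rcases S.centP f with r | r | r | r <;> rw [r] at k
  · exact (S.lf.ne (isConj_one_left.1 k)).elim
  · exact mul_inv_eq_iff_eq_mul.1 (Eq.trans (by simp [mul_assoc]) r)
  · exact (S.nc k.symm).elim
  · exact (S.nc (h.trans k.symm)).elim

omit [Finite G] in
theorem cjτ (e : g * S.τ = S.τ * g) (x : G) (a : ZMod 2) :
    g * (x * zp S.τ a) * g⁻¹ = g * x * g⁻¹ * zp S.τ a := by
  rw [← mul_assoc, mul_assoc _ _ g⁻¹, ← zp_comm (Commute.inv_left e).eq, mul_assoc _ g⁻¹]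

omit [Finite G] in
theorem cjτ' (e : g * S.τ = S.τ * g) (x : G) : g * (x * S.τ) * g⁻¹ = g * x * g⁻¹ * S.τ := by
  simpa only [zp_one] using cjτ e x 1

namespace Sw

omit [Finite G]

theorem inv (h : Sw S g) : Sw S g⁻¹ :=
  ⟨by
    have : g * (S.t * S.τ) * g⁻¹ = S.t := by rw [cjτ' h.2, h.1, mul_assoc, S.lf.sq, mul_one]
    calc g⁻¹ * S.t * g⁻¹⁻¹ = g⁻¹ * (g * (S.t * S.τ) * g⁻¹) * g⁻¹⁻¹ := by rw [this]
      _ = _ := by group, (Commute.inv_left h.2).eq⟩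

theorem mul (h : Sw S g) (hd : d ∈ S.D) : Sw S (d * g) :=
  ⟨by
    obtain ⟨a, b⟩ := S.mem_D.1 hd
    rw [show d * g * S.t * (d * g)⁻¹ = d * (g * S.t * g⁻¹) * d⁻¹ by group, h.1, cjτ' b, a,
      mul_inv_cancel_right], Commute.mul_left (S.mem_D.1 hd).2 h.2⟩

theorem mul' (h : Sw S g) (k : Sw S x) : g * x ∈ S.D :=
  S.mem_D.2 ⟨mul_inv_eq_iff_eq_mul.1 (by
    rw [show g * x * S.t * (g * x)⁻¹ = g * (x * S.t * x⁻¹) * g⁻¹ by group, k.1, cjτ' h.2, h.1,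
      mul_assoc, S.lf.sq, mul_one]), Commute.mul_left h.2 k.2⟩

theorem D (h : Sw S g) (hd : d ∈ S.D) : g * d * g⁻¹ ∈ S.D := by
  rw [mul_assoc]; exact h.mul' (h.inv.mul hd)

theorem P (h : Sw S g) (hx : x ∈ S.P) : g * x * g⁻¹ ∈ S.P :=
  S.le_P (N := (S.cj g).P) (S.cj g).lf.two
    (fun y hy => by simpa [mul_assoc] using h.D (S.PD (S.cj_P.1 hy)))
    (fun d hd y hy => S.cj_P.2 (by
      simpa [mul_assoc] using (S.φ_act ⟨_, h.inv.D hd⟩ _ (S.cj_P.1 hy)).1))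
    (S.cj_P.2 (by simpa [mul_assoc] using hx))

end Sw

end H18.BS.QU
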