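import Cfsg.Agent.Lib.BStd.VU

/-!
# A standard subgroup of type ²E6(2) with centre of even order, elementwise (helper18)
-/

set_option autoImplicit false

namespace H18.BS

open Cfsg H16 H95 H48.BR Subgroup H75.WC

variable {G : Type*} [Group G]

/-- coordinates with a kernel of order two or four -/
structure Lk (τ n : G) (P : Subgroup G) (π : G → V) : Prop where
  ne : τ ≠ 1
  sq : τ * τ = 1
  nn : n * n = 1
  mem : τ ∈ P
  nP : n ∈ P
  add : ∀ x ∈ P, ∀ y ∈ P, π (x * y) = π x + π y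
  ker : ∀ x ∈ P, (π x = 0 ↔ (x = 1 ∨ x = τ) ∨ x = n ∨ x = n * τ)
  comm : ∀ x ∈ P, ∀ y ∈ P, x * y = y * x * zp τ (be (π x) (π y))
  sqr : ∀ x ∈ P, x * x = zp τ (qq (π x))

namespace Lk

variable {τ n : G} {P : Subgroup G} {π : G → V} (L : Lk τ n P π)
include L

theorem one : π 1 = 0 := (L.ker 1 P.one_mem).2 (Or.inl (Or.inl rfl))

theorem τ0 : π τ = 0 := (L.ker τ L.mem).2 (Or.inl (Or.inr rfl))

theorem n0 : π n = 0 := (L.ker n L.nP).2 (Or.inr (Or.inl rfl))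

theorem inv {x : G} (hx : x ∈ P) : π x⁻¹ = π x :=
  add_eq_zero.1 (by rw [← L.add _ (P.inv_mem hx) _ hx, inv_mul_cancel, L.one])

theorem commute_iff {x y : G} (hx : x ∈ P) (hy : y ∈ P) : x * y = y * x ↔ be (π x) (π y) = 0 := by
  rw [L.comm x hx y hy, mul_eq_left, zp_eq_one_iff L.ne]

theorem cent {x : G} (hx : x ∈ P) : x * τ = τ * x := (L.commute_iff hx L.mem).2 (by rw [L.τ0, map_zero])

theorem mulτ {x : G} (hx : x ∈ P) : π (x * τ) = π x := by rw [L.add x hx τ L.mem, L.τ0, add_zero]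

theorem eq_iff {x y : G} (hx : x ∈ P) (hy : y ∈ P) :
    π x = π y ↔ (y = x ∨ y = x * τ) ∨ y = x * n ∨ y = x * (n * τ) := by
  rw [← add_eq_zero, ← L.inv hx, ← L.add _ (P.inv_mem hx) _ hy, L.ker _ (P.mul_mem (P.inv_mem hx) hy),
    inv_mul_eq_one, inv_mul_eq_iff_eq_mul, inv_mul_eq_iff_eq_mul, inv_mul_eq_iff_eq_mul, eq_comm]

theorem sq_iff {x : G} (hx : x ∈ P) : x * x = 1 ↔ qq (π x) = 0 := by rw [L.sqr x hx, zp_eq_one_iff L.ne]

theorem conj {x y : G} (hx : x ∈ P) (hy : y ∈ P) : x * y * x⁻¹ = y * zp τ (be (π x) (π y)) := by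
  rw [L.comm x hx y hy, mul_assoc y, zp_comm (L.cent hx)]; group

theorem conj_or {x y : G} (hx : x ∈ P) (hy : y ∈ P) : x * y * x⁻¹ = y ∨ x * y * x⁻¹ = y * τ := by
  rw [L.conj hx hy]
  exact (zp_cases _ _).imp (fun e => by rw [e, mul_one]) fun e => by rw [e]

theorem act {x : G} (hx : x ∈ P) : Act P π x 1 := fun y hy =>
  ⟨P.mul_mem (P.mul_mem hx hy) (P.inv_mem hx), by
    rw [L.add _ (P.mul_mem hx hy) _ (P.inv_mem hx), L.add _ hx _ hy, L.inv hx, one_smul, add_right_comm, add_self,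
      zero_add]⟩

/-- the coordinates of a subgroup -/
def img (N : Subgroup G) (h : N ≤ P) : AddSubgroup V where
  carrier := {a | ∃ x ∈ N, π x = a}
  zero_mem' := ⟨1, N.one_mem, L.one⟩
  add_mem' := by
    rintro _ _ ⟨x, hx, rfl⟩ ⟨y, hy, rfl⟩
    exact ⟨_, N.mul_mem hx hy, L.add _ (h hx) _ (h hy)⟩
  neg_mem' := fun {a} h => by rwa [neg_eq_of_add_eq_zero_left (add_self a)]

theorem four {x : G} (hx : x ∈ P) : x ^ 4 = 1 := by
  rw [show 4 = 2 * 2 from rfl, pow_mul, pow_two x, L.sqr _ hx, pow_two, ← zp_add L.sq, CharTwo.add_self_eq_zero,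
    zp_zero]

theorem two : IsPGroup 2 P := fun x => ⟨2, Subtype.ext (L.four x.2)⟩

theorem map {H : Type*} [Group H] (e : G ≃* H) :
    Lk (e τ) (e n) (P.comap e.symm.toMonoidHom) (fun x => π (e.symm x)) where
  ne := by simpa using L.ne
  sq := by rw [← map_mul, L.sq, map_one]
  nn := by rw [← map_mul, L.nn, map_one]
  mem := by simpa using L.mem
  nP := by simpa using L.nP
  add x hx y hy := by simpa using L.add _ hx _ hy
  ker x hx := by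
    rw [L.ker (e.symm x) hx, e.symm_apply_eq, e.symm_apply_eq, e.symm_apply_eq, e.symm_apply_eq, map_one, map_mul]
  comm x hx y hy := e.symm.injective (by
    simpa [← map_zp e.toMonoidHom] using (L.comm _ hx _ hy).trans (by
      rw [← e.symm_apply_apply (zp τ _)]; exact congrArg _ (congrArg _ (map_zp e.toMonoidHom _))))
  sqr x hx := e.symm.injective (by
    rw [map_mul, L.sqr (e.symm x) hx, ← e.symm_apply_apply (zp τ _)]; exact congrArg _ (map_zp e.toMonoidHom _))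

end Lk

theorem Lf.lk {τ : G} {P : Subgroup G} {π : G → V} (L : Lf τ P π) : Lk τ 1 P π :=
  ⟨L.ne, L.sq, one_mul 1, L.mem, one_mem _, L.add, fun x hx => by rw [L.ker x hx, one_mul, or_self], L.comm, L.sqr⟩

theorem Lk.lf {τ : G} {P : Subgroup G} {π : G → V} (L : Lk τ 1 P π) : Lf τ P π :=
  ⟨L.ne, L.sq, L.mem, L.add, fun x hx => by rw [L.ker x hx, one_mul, or_self], L.comm, L.sqr⟩

theorem mem_sup_comm {A K : Subgroup G} (h : ∀ a ∈ A, ∀ k ∈ K, a * k = k * a) {x : G} :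
    x ∈ A ⊔ K ↔ ∃ a ∈ A, ∃ k ∈ K, x = a * k := by
  refine ⟨fun hx => ?_, fun ⟨a, ha, k, hk, e⟩ => e ▸ mul_mem_sup ha hk⟩
  let M : Subgroup G :=
    { carrier := {x | ∃ a ∈ A, ∃ k ∈ K, x = a * k}
      one_mem' := ⟨1, one_mem _, 1, one_mem _, by simp⟩
      mul_mem' := by
        rintro _ _ ⟨a, ha, k, hk, rfl⟩ ⟨b, hb, l, hl, rfl⟩
        exact ⟨_, mul_mem ha hb, _, mul_mem hk hl, Commute.mul_mul_mul_comm (h b hb k hk).symm a l⟩
      inv_mem' := by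
        rintro _ ⟨a, ha, k, hk, rfl⟩
        exact ⟨_, inv_mem ha, _, inv_mem hk, by rw [h _ (inv_mem ha) _ (inv_mem hk), mul_inv_rev]⟩ }
  exact (show A ⊔ K ≤ M from sup_le (fun a ha => ⟨a, ha, 1, one_mem _, by simp⟩)
    fun k hk => ⟨1, one_mem _, k, hk, by simp⟩) hx

/-- `A` is a standard subgroup of type ²E6(2) with centraliser `K` and normaliser `N`; the involutions in the centre
of `A` are `n, t, nt` (or just `t` if `n = 1`) -/
structure Sk (G : Type*) [Group G] where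
  n : G
  t : G
  τ : G
  β : G
  c : G
  A : Subgroup G
  K : Subgroup G
  N : Subgroup G
  P : Subgroup G
  π : G → V
  lk : Lk τ n P π
  tP : t ∈ P
  πt : π t = tb
  perp : ∀ x ∈ P, be (π x) tb = 0
  onto : ∀ a, be a tb = 0 → ∃ x ∈ P, π x = a
  PA : P ≤ A
  AN : A ≤ N
  KN : K ≤ N
  nK : n ∈ K
  tK : t ∈ K
  τK : τ ∉ K
  AK : ∀ a ∈ A, ∀ k ∈ K, a * k = k * a
  NA : ∀ d ∈ N, ∀ a ∈ A, d * a * d⁻¹ ∈ A
  NK : ∀ d ∈ N, ∀ k ∈ K, d * k * d⁻¹ ∈ K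
  ZA : ∀ z ∈ A, z ∈ K → z * z = 1 → z = 1 ∨ z = n ∨ z = t ∨ z = n * t
  ti : ∀ k ∈ K, k ≠ 1 → k * k = 1 → ∀ g, g * k * g⁻¹ ∈ K → g ∈ N
  idx : ∀ z ∈ A, z ∈ K → z ≠ 1 → z * z = 1 → ∀ x ∈ N, ∀ y ∈ N, x * z = z * x → y * z = z * y →
    x ∈ A ⊔ K ∨ y ∈ A ⊔ K ∨ x * y ∈ A ⊔ K
  act : ∀ d ∈ N, d * n = n * d → d * τ = τ * d → ∃ γ, Act P π d γ
  ker : ∀ d ∈ N, d * n = n * d → d * τ = τ * d → Act P π d 1 → ∃ p ∈ P, ∃ k ∈ K, d = p * k
  surj : ∀ γ, Ux γ → ∃ d ∈ A, d * τ = τ * d ∧ Act P π d γ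
  odd : Odd {x | ∃ a ∈ A, a * τ * a⁻¹ = x}.ncard
  sN : ∀ d ∈ N, ∃ a ∈ A, a * τ * a⁻¹ = d * τ * d⁻¹
  cls : ∀ u ∈ A ⊔ K, u * u ∈ K → ∃ d ∈ A, ∃ p ∈ P, ∃ k ∈ K, d * u * d⁻¹ = p * k ∧ (π p = 0 ∨ π p = vb ∨ π p = vc)
  cA : c ∈ A
  cτ : c * τ * c⁻¹ = β
  βP : β ∈ P
  πβ : π β = bb
  inE : ∀ x ∈ P, ∀ i, Pt i → π x = xx i → c⁻¹ * x * c ∈ P

theorem sup_map {H : Type*} [Group H] (e : G ≃* H) {A K : Subgroup G} {x : H} :
    x ∈ A.comap e.symm.toMonoidHom ⊔ K.comap e.symm.toMonoidHom ↔ e.symm x ∈ A ⊔ K := by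
  rw [comap_sup_eq _ _ _ e.symm.surjective]; rfl

/-- transport along an isomorphism -/
def Sk.map {H : Type*} [Group H] (S : Sk G) (e : G ≃* H) : Sk H where
  n := e S.n
  t := e S.t
  τ := e S.τ
  β := e S.β
  c := e S.c
  A := S.A.comap e.symm.toMonoidHom
  K := S.K.comap e.symm.toMonoidHom
  N := S.N.comap e.symm.toMonoidHom
  P := S.P.comap e.symm.toMonoidHom
  π x := S.π (e.symm x)
  lk := S.lk.map e
  tP := by simpa using S.tP
  πt := by simpa using S.πt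
  perp _ hx := S.perp _ hx
  onto a h := by
    obtain ⟨x, hx, rfl⟩ := S.onto a h
    exact ⟨e x, by simpa using hx, by simp⟩
  PA _ hx := S.PA hx
  AN _ hx := S.AN hx
  KN _ hx := S.KN hx
  nK := by simpa using S.nK
  tK := by simpa using S.tK
  τK := by simpa using S.τK
  AK a ha k hk := e.symm.injective (by simpa using S.AK _ ha _ hk)
  NA d hd a ha := by simpa using S.NA _ hd _ ha
  NK d hd a ha := by simpa using S.NK _ hd _ ha
  ZA z h1 h2 h3 := by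
    simpa [e.symm_apply_eq] using S.ZA _ h1 h2 (by simpa using congrArg e.symm h3)
  ti k h1 h2 h3 g h4 := S.ti _ h1 (by simpa using h2) (by simpa using congrArg e.symm h3) _ (by simpa using h4)
  idx z h1 h2 h3 h4 x hx y hy e1 e2 := by
    rw [sup_map, sup_map, sup_map, map_mul]
    exact S.idx _ h1 h2 (by simpa using h3) (by simpa using congrArg e.symm h4) _ hx _ hy
      (by simpa using congrArg e.symm e1) (by simpa using congrArg e.symm e2)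
  act d hd h1 h2 := (S.act _ hd ((comm_map e).1 h1) ((comm_map e).1 h2)).imp fun _ => (Act.map e).2
  ker d hd h1 h2 h3 := by
    obtain ⟨p, hp, k, hk, f⟩ := S.ker _ hd ((comm_map e).1 h1) ((comm_map e).1 h2) ((Act.map e).1 h3)
    exact ⟨e p, by simpa using hp, e k, by simpa using hk, by simpa using congrArg e f⟩
  surj γ h := by
    obtain ⟨d, h1, h2, h3⟩ := S.surj γ h
    exact ⟨e d, by simpa using h1, (comm_map e).2 (by simpa using h2), (Act.map e).2 (by simpa using h3)⟩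
  odd := by
    rw [show {x | ∃ a ∈ S.A.comap e.symm.toMonoidHom, a * e S.τ * a⁻¹ = x} = e '' {x | ∃ a ∈ S.A, a * S.τ * a⁻¹ = x}
      from Set.ext fun x => ⟨fun ⟨a, h, f⟩ => ⟨_, ⟨_, h, rfl⟩, by simpa using f⟩, fun ⟨_, ⟨a, h, rfl⟩, f⟩ =>
        ⟨e a, by simpa using h, by simpa using f⟩⟩, Set.ncard_image_of_injective _ e.injective]
    exact S.odd
  sN d hd := by
    obtain ⟨a, ha, f⟩ := S.sN _ hd
    exact ⟨e a, by simpa using ha, by simpa using congrArg e f⟩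
  cls u hu h := by
    obtain ⟨d, h1, p, h2, k, h3, h4, h5⟩ := S.cls _ ((sup_map e).1 hu) (by simpa using h)
    exact ⟨e d, by simpa using h1, e p, by simpa using h2, e k, by simpa using h3, by simpa using congrArg e h4,
      by simpa using h5⟩
  cA := by simpa using S.cA
  cτ := by simp [← S.cτ]
  βP := by simpa using S.βP
  πβ := by simpa using S.πβ
  inE x hx i hi h := by simpa using S.inE _ hx i hi h

theorem vb_eq : vb = xx (some 2) + xx (some 3) + bb := mk_pp _ _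

theorem vc_eq : vc = xx (some 2) + (xx (some 3) + xx (some 4) + bb) := by rw [vc, map_add, mk_pp (some 3)]; rfl

theorem qq_cls {a : V} (h : a = 0 ∨ a = vb ∨ a = vc) : qq a = 0 := by
  have p : ∀ i : ZMod 23, i ≠ 0 → qq (xx (some i)) = 0 := fun i hi => (ta_xx ⟨by simp, by simpa using hi⟩).1.qq
  rcases h with rfl | rfl | rfl
  · exact qq_zero
  · simp [vb_eq, qq_add, be_xx, be_xx_bb, tb_bb.qq, p 2 (by decide), p 3 (by decide)]
  · simp [vc_eq, qq_add, be_xx, be_xx_bb, tb_bb.qq, p 2 (by decide), p 3 (by decide), p 4 (by decide)]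

namespace Sk

variable (S : Sk G)

/-- the conjugate structure -/
def cj (g : G) : Sk G := S.map (MulAut.conj g)

/-- the product of `A` and its centraliser -/
abbrev M : Subgroup G := S.A ⊔ S.K

/-- the involutions in the centre of `A` -/
def Z : Subgroup G where
  carrier := {z | z ∈ S.A ∧ z ∈ S.K ∧ z * z = 1}
  one_mem' := ⟨one_mem _, one_mem _, one_mul 1⟩
  mul_mem' := fun {a b} ha hb => ⟨mul_mem ha.1 hb.1, mul_mem ha.2.1 hb.2.1, by
    rw [Commute.mul_mul_mul_comm (S.AK b hb.1 a ha.2.1), ha.2.2, hb.2.2, one_mul]⟩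
  inv_mem' := fun {a} ha => by rwa [inv_eq_of_mul_eq_one_left ha.2.2]

@[simp] theorem cj_n (g : G) : (S.cj g).n = g * S.n * g⁻¹ := rfl
@[simp] theorem cj_t (g : G) : (S.cj g).t = g * S.t * g⁻¹ := rfl
@[simp] theorem cj_τ (g : G) : (S.cj g).τ = g * S.τ * g⁻¹ := rfl
@[simp] theorem cj_β (g : G) : (S.cj g).β = g * S.β * g⁻¹ := rfl
theorem cj_P {g x : G} : x ∈ (S.cj g).P ↔ g⁻¹ * x * g ∈ S.P := Iff.rfl
theorem cj_A {g x : G} : x ∈ (S.cj g).A ↔ g⁻¹ * x * g ∈ S.A := Iff.rfl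
theorem cj_K {g x : G} : x ∈ (S.cj g).K ↔ g⁻¹ * x * g ∈ S.K := Iff.rfl
theorem cj_N {g x : G} : x ∈ (S.cj g).N ↔ g⁻¹ * x * g ∈ S.N := Iff.rfl
theorem cj_M {g x : G} : x ∈ (S.cj g).M ↔ g⁻¹ * x * g ∈ S.M := sup_map _
theorem cj_π (g x : G) : (S.cj g).π x = S.π (g⁻¹ * x * g) := rfl
theorem mem_Z {z : G} : z ∈ S.Z ↔ z ∈ S.A ∧ z ∈ S.K ∧ z * z = 1 := Iff.rfl
theorem mem_M {x : G} : x ∈ S.M ↔ ∃ a ∈ S.A, ∃ k ∈ S.K, x = a * k := mem_sup_comm S.AK

theorem cj_Z {g x : G} : x ∈ (S.cj g).Z ↔ g⁻¹ * x * g ∈ S.Z :=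
  and_congr_right fun _ => and_congr_right fun _ => by
    rw [show g⁻¹ * x * g * (g⁻¹ * x * g) = g⁻¹ * (x * x) * g⁻¹⁻¹ by group, conj_eq_one_iff]

theorem eq_of_nrm {g : G} (hg : g ∈ S.N) {B : Subgroup G} (h : ∀ d ∈ S.N, ∀ a ∈ B, d * a * d⁻¹ ∈ B) :
    B.comap (MulAut.conj g).symm.toMonoidHom = B := Subgroup.ext fun x =>
  ⟨fun hx => by simpa [mul_assoc] using h g hg _ hx, fun hx => by simpa using h _ (inv_mem hg) x hx⟩

theorem cj_A_eq {g : G} (hg : g ∈ S.N) : (S.cj g).A = S.A := S.eq_of_nrm hg S.NA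
theorem cj_K_eq {g : G} (hg : g ∈ S.N) : (S.cj g).K = S.K := S.eq_of_nrm hg S.NK
theorem cj_N_eq {g : G} (hg : g ∈ S.N) : (S.cj g).N = S.N :=
  S.eq_of_nrm hg fun _ hd _ ha => mul_mem (mul_mem hd ha) (inv_mem hd)

theorem tt : S.t * S.t = 1 := (S.lk.sq_iff S.tP).2 (S.πt ▸ ta_tb.qq)

theorem t_ne : S.t ≠ 1 := fun e => tb_ne (by rw [← S.πt, e, S.lk.one])

theorem t_ne_n : S.t ≠ S.n := fun e => tb_ne (by rw [← S.πt, e, S.lk.n0])

theorem tZ : S.t ∈ S.Z := ⟨S.PA S.tP, S.tK, S.tt⟩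

theorem nZ : S.n ∈ S.Z := ⟨S.PA S.lk.nP, S.nK, S.lk.nn⟩

theorem Z_iff {z : G} : z ∈ S.Z ↔ z = 1 ∨ z = S.n ∨ z = S.t ∨ z = S.n * S.t :=
  ⟨fun h => S.ZA z h.1 h.2.1 h.2.2, by
    rintro (rfl | rfl | rfl | rfl)
    exacts [one_mem _, S.nZ, S.tZ, mul_mem S.nZ S.tZ]⟩

theorem ZP : S.Z ≤ S.P := fun z hz => by
  rcases S.Z_iff.1 hz with rfl | rfl | rfl | rfl
  exacts [one_mem _, S.lk.nP, S.tP, mul_mem S.lk.nP S.tP]

theorem NZ {d z : G} (hd : d ∈ S.N) (hz : z ∈ S.Z) : d * z * d⁻¹ ∈ S.Z :=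
  ⟨S.NA d hd z hz.1, S.NK d hd z hz.2.1, by rw [conj_mul, hz.2.2, mul_one, mul_inv_cancel]⟩

theorem MN : S.M ≤ S.N := sup_le S.AN S.KN

theorem PM : S.P ≤ S.M := S.PA.trans le_sup_left

theorem MZ {d z : G} (hd : d ∈ S.M) (hz : z ∈ S.Z) : d * z = z * d := by
  obtain ⟨a, ha, k, hk, rfl⟩ := S.mem_M.1 hd
  exact Commute.mul_left (S.AK a ha z hz.2.1) (S.AK z hz.1 k hk).symm

theorem cj_n_eq {a : G} (ha : a ∈ S.M) : (S.cj a).n = S.n := mul_inv_eq_iff_eq_mul.2 (S.MZ ha S.nZ)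
theorem cj_t_eq {a : G} (ha : a ∈ S.M) : (S.cj a).t = S.t := mul_inv_eq_iff_eq_mul.2 (S.MZ ha S.tZ)

/-- the centraliser of an involution of `K` lies in `N` -/
theorem cN {k d : G} (hk : k ∈ S.K) (h1 : k ≠ 1) (h2 : k * k = 1) (h : d * k = k * d) : d ∈ S.N :=
  S.ti k hk h1 h2 d (by rwa [h, mul_inv_cancel_right])

/-- an involution in `K` and in a conjugate -/
theorem ti' {g k : G} (hk : k ∈ S.K) (hk' : k ∈ (S.cj g).K) (h1 : k ≠ 1) (h2 : k * k = 1) : g ∈ S.N :=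
  inv_mem_iff.1 (S.ti k hk h1 h2 g⁻¹ (by rwa [inv_inv]))

theorem Nt (h : S.n = 1) {d : G} (hd : d ∈ S.N) : d * S.t = S.t * d := by
  have := S.Z_iff.1 (S.NZ hd S.tZ)
  rw [h, one_mul, conj_eq_one_iff, or_self, ← or_assoc, or_self] at this
  exact mul_inv_eq_iff_eq_mul.1 (this.resolve_left S.t_ne)

/-- the elements of `P` of class `0` or `tb` -/
theorem rad {x : G} (hx : x ∈ S.P) (h : S.π x = 0 ∨ S.π x = tb) : x ∈ S.Z ∨ x * S.τ ∈ S.Z := by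
  have k : ∀ y ∈ S.Z, x = y * S.τ → x * S.τ ∈ S.Z := fun y hy e => by rwa [e, mul_assoc, S.lk.sq, mul_one]
  rcases h with h | h
  · rcases (S.lk.ker x hx).1 h with (e | e) | e | e
    exacts [Or.inl (e ▸ one_mem _), Or.inr (k 1 (one_mem _) (by rw [e, one_mul])), Or.inl (e ▸ S.nZ),
      Or.inr (k _ S.nZ e)]
  · rcases (S.lk.eq_iff S.tP hx).1 (S.πt.trans h.symm) with (e | e) | e | e
    exacts [Or.inl (e ▸ S.tZ), Or.inr (k _ S.tZ e), Or.inl (e ▸ mul_mem S.tZ S.nZ),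
      Or.inr (k _ (mul_mem S.tZ S.nZ) (e.trans (mul_assoc _ _ _).symm))]

theorem PK {x : G} (hx : x ∈ S.P) (hk : x ∈ S.K) : x ∈ S.Z :=
  (S.rad hx (mem_one fun c hc => by
    obtain ⟨y, hy, rfl⟩ := S.onto c ((be_comm _ _).trans hc)
    exact (S.lk.commute_iff hy hx).1 (S.AK y (S.PA hy) x hk))).resolve_right fun h =>
      S.τK ((S.K.mul_mem_cancel_left hk).1 h.2.1)

theorem uniq (d : G) (γ γ' : C2) (h : Act S.P S.π d γ) (h' : Act S.P S.π d γ') : γ = γ' :=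
  (inv_mul_eq_one.1 (siegel (be_self tb) fun a ha _ => by
    obtain ⟨x, hx, rfl⟩ := S.onto a ((be_comm _ _).trans ha)
    rw [mul_smul, ← (h' x hx).2, (h x hx).2, inv_smul_smul]))

theorem actK {k : G} (hk : k ∈ S.K) : Act S.P S.π k 1 := Act.of_comm fun x hx => (S.AK x (S.PA hx) k hk).symm

theorem act_sq {d : G} {γ : C2} (h : Act S.P S.π d γ) (e : Act S.P S.π (d * d) 1) : γ * γ = 1 :=
  S.uniq _ _ _ (h.mul h) e

theorem card_img : Nat.card (S.lk.img S.P le_rfl) = 2 ^ 21 := by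
  have e : S.lk.img S.P le_rfl = BS.perp (AddSubgroup.zmultiples tb) := by
    ext a
    refine ⟨fun ⟨x, hx, e⟩ _ ⟨n, f⟩ => ?_, fun h => S.onto a ((be_comm _ _).trans (h _ (AddSubgroup.mem_zmultiples _)))⟩
    rw [← f, ← e, be_comm, map_zsmul, S.perp x hx, smul_zero]
  have := card_perp (AddSubgroup.zmultiples tb)
  rw [Nat.card_zmultiples, addOrderOf_eq_prime (p := 2) (by rw [two_nsmul, add_self]) tb_ne, ← e] at this
  omega

/-- an involution which fixes a subgroup of index at most four of `P` is trivial -/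
theorem small {d : G} {γ : C2} (h : Act S.P S.π d γ) (h2 : γ * γ = 1) {N0 N1 : Subgroup G} (l0 : N0 ≤ S.P)
    (l1 : N1 ≤ N0) (i0 : ∀ x ∈ S.P, ∀ y ∈ S.P, x ∈ N0 ∨ y ∈ N0 ∨ x * y ∈ N0)
    (i1 : ∀ x ∈ N0, ∀ y ∈ N0, x ∈ N1 ∨ y ∈ N1 ∨ x * y ∈ N1) (f : ∀ x ∈ N1, d * x = x * d) : γ = 1 := by
  have k : ∀ {B C : Subgroup G} (l : B ≤ S.P) (l' : C ≤ B), (∀ x ∈ B, ∀ y ∈ B, x ∈ C ∨ y ∈ C ∨ x * y ∈ C) →
      Nat.card (S.lk.img B l) ≤ 2 * Nat.card (S.lk.img C (l'.trans l)) := fun l l' i => card_le_two (by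
    rintro _ ⟨x, hx, rfl⟩ _ ⟨y, hy, rfl⟩
    exact (i x hx y hy).imp (fun m => ⟨x, m, rfl⟩) (Or.imp (fun m => ⟨y, m, rfl⟩)
      fun m => ⟨_, m, S.lk.add x (l hx) y (l hy)⟩))
  have k0 := k le_rfl l0 i0
  have k1 := k l0 l1 i1
  rw [S.card_img] at k0
  refine fix8 h2 (K := S.lk.img N1 (l1.trans l0)) ?_ (by omega)
  rintro _ ⟨x, hx, rfl⟩
  rw [← (h x (l0 (l1 hx))).2, f x hx, mul_inv_cancel_right]

theorem idx_cent {p : G} (hp : p ∈ S.P) : ∀ x ∈ S.P, ∀ y ∈ S.P,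
    x ∈ S.P ⊓ centralizer {p} ∨ y ∈ S.P ⊓ centralizer {p} ∨ x * y ∈ S.P ⊓ centralizer {p} := fun x hx y hy => by
  have k : ∀ x ∈ S.P, be (S.π x) (S.π p) = 0 → x ∈ S.P ⊓ centralizer {p} :=
    fun x hx e => ⟨hx, mem_centralizer_singleton_iff.2 ((S.lk.commute_iff hx hp).2 e)⟩
  rcases z2 (be (S.π x) (S.π p)) with e | e
  · exact Or.inl (k x hx e)
  rcases z2 (be (S.π y) (S.π p)) with f | f
  · exact Or.inr (Or.inl (k y hy f))
  · exact Or.inr (Or.inr (k _ (mul_mem hx hy) (by rw [S.lk.add x hx y hy, be_add_left, e, f]; rfl)))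

/-- `τ` is a square in the centraliser of `p` -/
theorem exists_sq {p : G} (hp : p ∈ S.P) : ∃ x ∈ S.P, x * p = p * x ∧ x * x = S.τ := by
  obtain ⟨a, h1, h2, h3⟩ := exists_ns (S.π p)
  obtain ⟨x, hx, rfl⟩ := S.onto a h1
  exact ⟨x, hx, (S.lk.commute_iff hx hp).2 h2, by rw [S.lk.sqr x hx, h3, zp_one]⟩

theorem conj_τ {x : G} (hx : x ∈ S.P) (h0 : S.π x ≠ 0) (h1 : S.π x ≠ tb) : ∃ p ∈ S.P, p * x * p⁻¹ = x * S.τ := by
  obtain ⟨a, ha, e⟩ := exists_be h0 h1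
  obtain ⟨p, hp, rfl⟩ := S.onto a ha
  exact ⟨p, hp, by rw [S.lk.conj hp hx, e, zp_one]⟩

/-- the centraliser of the centraliser in `P` of an element of `P` -/
theorem mem_of_fix {d p : G} (hp : p ∈ S.P) (h : ∀ x ∈ S.P, x * p = p * x → d * x = x * d) :
    ∃ q ∈ S.P, ∃ k ∈ S.K, d = q * k ∧ (q = 1 ∨ q = S.τ ∨ q = p ∨ q = p * S.τ) := by
  have z : ∀ z ∈ S.Z, d * z = z * d := fun z hz => h z (S.ZP hz) (S.MZ (S.PM hp) hz).symm
  have hd := S.cN S.tK S.t_ne S.tt (z _ S.tZ)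
  have hτ := h _ S.lk.mem (S.lk.cent hp).symm
  obtain ⟨γ, a⟩ := S.act d hd (z _ S.nZ) hτ
  obtain rfl : γ = 1 := siegel ((be_comm _ _).trans (S.perp p hp)) fun c h1 h2 => by
    obtain ⟨x, hx, rfl⟩ := S.onto c ((be_comm _ _).trans h1)
    rw [← (a x hx).2, h x hx ((S.lk.commute_iff hp hx).2 h2).symm, mul_inv_cancel_right]
  obtain ⟨q, hq, k, hk, rfl⟩ := S.ker d hd (z _ S.nZ) hτ a
  have r : ∀ y ∈ S.P, S.π (y⁻¹ * q) = 0 ∨ S.π (y⁻¹ * q) = tb → ∃ k' ∈ S.K, q * k = y * k' ∨ q * k = y * S.τ * k' :=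
    fun y hy e => by
      rcases S.rad (mul_mem (inv_mem hy) hq) e with f | f
      · exact ⟨_, mul_mem f.2.1 hk, Or.inl (by group)⟩
      · refine ⟨_, mul_mem f.2.1 hk, Or.inr ?_⟩
        rw [S.lk.cent (mul_mem (inv_mem hy) hq), mul_assoc y, mul_assoc S.τ, ← mul_assoc S.τ S.τ, S.lk.sq]; group
  have := mem_two (x := tb) (y := S.π p) (a := S.π q) fun c h1 h2 => by
    obtain ⟨x, hx, rfl⟩ := S.onto c ((be_comm _ _).trans h1)
    have := h x hx ((S.lk.commute_iff hp hx).2 h2).symm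
    rw [mul_assoc, ← S.AK x (S.PA hx) k hk, ← mul_assoc, ← mul_assoc, mul_left_inj] at this
    exact (S.lk.commute_iff hx hq).1 this.symm
  rw [← or_assoc] at this
  rcases this with e | e
  · obtain ⟨k', h1, e | e⟩ := r 1 (one_mem _) (by rwa [inv_one, one_mul])
    exacts [⟨_, one_mem _, _, h1, e, Or.inl rfl⟩, ⟨_, S.lk.mem, _, h1, by rw [e, one_mul], Or.inr (Or.inl rfl)⟩]
  · obtain ⟨k', h1, e | e⟩ := r p hp (by
      rw [S.lk.add _ (inv_mem hp) _ hq, S.lk.inv hp]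
      exact e.imp (fun e => by rw [e, add_self]) fun e => by rw [e, add_left_comm, add_self, add_zero])
    exacts [⟨_, hp, _, h1, e, Or.inr (Or.inr (Or.inl rfl))⟩,
      ⟨_, mul_mem hp S.lk.mem, _, h1, e, Or.inr (Or.inr (Or.inr rfl))⟩]

/-- a 2-subgroup of `N` centralises a conjugate of `τ` -/
theorem fix_sg {R : Subgroup G} (h2 : IsPGroup 2 R) (h : R ≤ S.N) :
    ∃ a ∈ S.A, ∀ x ∈ R, x * (S.cj a).τ = (S.cj a).τ * x := by
  let _ : MulAction R {x | ∃ a ∈ S.A, a * S.τ * a⁻¹ = x} :=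
    { smul := fun n x => ⟨n * x * (n : G)⁻¹, by
        obtain ⟨_, a, ha, rfl⟩ := x
        obtain ⟨b, hb, e⟩ := S.sN _ (mul_mem (h n.2) (S.AN ha))
        exact ⟨b, hb, e.trans (by simp [mul_assoc])⟩⟩
      one_smul := fun x => Subtype.ext (show ((1 : R) : G) * x * ((1 : R) : G)⁻¹ = x by simp)
      mul_smul := fun a b x => Subtype.ext (show ((a * b : R) : G) * x * ((a * b : R) : G)⁻¹ =
        a * (b * x * (b : G)⁻¹) * (a : G)⁻¹ by simp [mul_assoc]) }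
  obtain ⟨⟨_, a, ha, rfl⟩, e⟩ := h2.nonempty_fixed_point_of_prime_not_dvd_card {x | ∃ a ∈ S.A, a * S.τ * a⁻¹ = x} (by
    rw [Nat.card_coe_set_eq]; exact S.odd.not_two_dvd_nat)
  exact ⟨a, ha, fun x hx => mul_inv_eq_iff_eq_mul.1 (congrArg Subtype.val (e ⟨x, hx⟩))⟩

/-- the representatives of the classes lie in the 2-radical at `β` -/
theorem inβ {p : G} (hp : p ∈ S.P) (h : S.π p = 0 ∨ S.π p = vb ∨ S.π p = vc) : p ∈ (S.cj S.c).P := by
  have z : ∀ z ∈ S.Z, z ∈ (S.cj S.c).P := fun z hz => S.cj_P.2 (by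
    rw [mul_assoc, ← S.MZ (mem_sup_left S.cA) hz, inv_mul_cancel_left]; exact S.ZP hz)
  have τ : S.τ ∈ (S.cj S.c).P := (mul_mem_cancel_left (z _ S.tZ)).1 (S.inE _ (mul_mem S.tP S.lk.mem) _ pt_one
    (by rw [S.lk.mulτ S.tP, S.πt, xx_one]))
  let K : AddSubgroup V := S.lk.img (S.P ⊓ (S.cj S.c).P) inf_le_left
  have x : ∀ i : ZMod 23, i ≠ 0 → xx (some i) ∈ K := fun i hi => by
    obtain ⟨x, hx, e⟩ := S.onto _ (be_xx_tb (some i))
    exact ⟨x, ⟨hx, S.inE x hx _ ⟨by simp, by simpa using hi⟩ e⟩, e⟩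
  have b : bb ∈ K := ⟨_, ⟨S.βP, S.cτ ▸ (S.cj S.c).lk.mem⟩, S.πβ⟩
  obtain ⟨y, hy, e⟩ : S.π p ∈ K := by
    rcases h with e | e | e <;> rw [e]
    exacts [zero_mem _, vb_eq ▸ add_mem (add_mem (x 2 (by decide)) (x 3 (by decide))) b,
      vc_eq ▸ add_mem (x 2 (by decide)) (add_mem (add_mem (x 3 (by decide)) (x 4 (by decide))) b)]
  rcases (S.lk.eq_iff hy.1 hp).1 e with (e | e) | e | e <;> rw [e]
  exacts [hy.2, mul_mem hy.2 τ, mul_mem hy.2 (z _ S.nZ), mul_mem hy.2 (mul_mem (z _ S.nZ) τ)]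

/-- the double centraliser of an involution -/
theorem zc {p d : G} (hp : p ∈ S.P) (h : S.π p = 0 ∨ S.π p = vb ∨ S.π p = vc)
    (hd : ∀ a ∈ S.A, p ∈ (S.cj a).P → ∀ x ∈ (S.cj a).P, x * p = p * x → d * x = x * d) : d ∈ S.K ∨ p * d ∈ S.K := by
  have pp := (S.lk.sq_iff hp).2 (qq_cls h)
  let L : Subgroup G :=
    { carrier := {y | y ∈ S.K ∨ p * y ∈ S.K}
      one_mem' := Or.inl (one_mem _)
      mul_mem' := by
        rintro a b (ha | ha) (hb | hb)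
        · exact Or.inl (mul_mem ha hb)
        · exact Or.inr (by rw [← mul_assoc, S.AK p (S.PA hp) a ha, mul_assoc]; exact mul_mem ha hb)
        · exact Or.inr (mul_assoc p a b ▸ mul_mem ha hb)
        · have := mul_mem ha hb
          rw [← mul_assoc, ← S.AK p (S.PA hp) _ ha, ← mul_assoc, pp, one_mul] at this
          exact Or.inl this
      inv_mem' := by
        rintro a (ha | ha)
        · exact Or.inl (inv_mem ha)
        · exact Or.inr (by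
            rw [show p * a⁻¹ = p * (p * a)⁻¹ * p by group, S.AK p (S.PA hp) _ (inv_mem ha), mul_assoc, pp, mul_one]
            exact inv_mem ha) }
  by_contra n
  have k : ∀ a ∈ S.A, p ∈ (S.cj a).P → (S.cj a).τ * d ∈ L := fun a ha m => by
    obtain ⟨q, -, k, hk, rfl, e⟩ := (S.cj a).mem_of_fix m (hd a ha m)
    rw [S.cj_K_eq (S.AN ha)] at hk
    have s := (S.cj a).lk.sq
    rcases e with rfl | rfl | rfl | rfl
    · exact (n (Or.inl (by rwa [one_mul]))).elim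
    · exact Or.inl (by rwa [← mul_assoc, s, one_mul])
    · exact (n (Or.inr (by rwa [← mul_assoc, pp, one_mul]))).elim
    · exact Or.inr (by rwa [(S.cj a).lk.cent m, ← mul_assoc _ (_ * _), ← mul_assoc (S.cj a).τ, s, one_mul, ← mul_assoc, pp,
        one_mul])
  obtain ⟨q, hq, e⟩ := S.conj_τ S.βP (S.πβ ▸ tb_bb.ne) (S.πβ ▸ fun e => ta_tb.not_tb (e ▸ tb_bb))
  have k1 := k 1 (one_mem _) (S.cj_P.2 (by simpa using hp))
  have k2 := k _ S.cA (S.inβ hp h)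
  have k3 := k _ (mul_mem (S.PA hq) S.cA) (by
    have m := mul_mem (mul_mem (inv_mem hq) hp) hq
    have := S.cj_P.1 (S.inβ m (by
      rwa [show q⁻¹ * p * q = q⁻¹ * p * q⁻¹⁻¹ by rw [inv_inv], (S.lk.act (inv_mem hq) p hp).2, one_smul]))
    exact S.cj_P.2 (by simpa [mul_assoc] using this))
  rw [cj_τ] at k1 k2 k3
  rw [show q * S.c * S.τ * (q * S.c)⁻¹ = q * (S.c * S.τ * S.c⁻¹) * q⁻¹ by group, S.cτ, e] at k3
  rw [S.cτ] at k2
  refine n (?_ : d ∈ L)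
  simpa [mul_assoc] using mul_mem (inv_mem (mul_mem k3 (inv_mem k1))) k2

end Sk

end H18.BS
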