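import Cfsg.Agent.Lib.BStd.ModB
import Cfsg.Agent.Lib.BStd.Sk

/-!
# A perfect central extension of ²E6(2) by a nontrivial 2-group, described by the Monster (helper18)
-/

set_option autoImplicit false

namespace H18.BS

open Subgroup Cfsg H16 H95 H95.Gr H7.SM

variable {G : Type*} [Group G]

/-- `A` is the image of `2².²E6(2)`, normal in `N` with centraliser `K` -/
structure Thk (ϑ : GG → G) (n t : G) (A K N : Subgroup G) : Prop where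
  mul : ∀ a ∈ K0, ∀ b ∈ K0, ϑ (a * b) = ϑ a * ϑ b
  ker : ∀ a ∈ K0, ϑ a = 1 → a = 1 ∨ a = t0
  n0 : ϑ t0 = n
  x : ϑ x1 = t
  im : ∀ a, a ∈ A ↔ ∃ k ∈ K0, ϑ k = a
  AN : A ≤ N
  hK : ∀ k, k ∈ K ↔ k ∈ N ∧ ∀ a ∈ A, a * k = k * a
  ex1 : ∀ c ∈ N, ∃ g, ∀ k ∈ K0, cj g k ∈ K0 ∧ ϑ (cj g k) = c * ϑ k * c⁻¹
  ti : ∀ k ∈ K, k ≠ 1 → k * k = 1 → ∀ g, g * k * g⁻¹ ∈ K → g ∈ N

end H18.BS
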