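import Cfsg.Agent.Lib.BRec.Dat
import Cfsg.Agent.Lib.BRec.Basic
import Cfsg.Agent.Lib.MRec.WcCo
import Cfsg.Agent.Lib.MonType.Cross

/-!
# The 22-dimensional orthogonal module `u^⊥/u` of Co2 in coordinates (helper18)
-/

set_option autoImplicit false

namespace H18.BS

open Cfsg H16 H95 H48.BR Subgroup H75.WC

/-- the second Conway group -/
abbrev C2 : Type := Stab vU

/-- the module -/
abbrev V : Type := Fin 22 → ZMod 2

theorem two0 : (2 : V) = 0 := by decide

theorem add_self (a : V) : a + a = 0 := by linear_combination a * two0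

theorem add_eq_zero {a c : V} : a + c = 0 ↔ a = c :=
  ⟨fun h => by linear_combination h - c * two0, fun h => h ▸ add_self a⟩

theorem z2 (s : ZMod 2) : s = 0 ∨ s = 1 := H16.zmod2_cases s

/-- the inner product modulo two -/
def d8 (v w : leechLattice) : ZMod 2 := ((dotInt (v : GolayPt → ℤ) (w : GolayPt → ℤ) / 8 : ℤ) : ZMod 2)

theorem d8_comm (v w : leechLattice) : d8 v w = d8 w v := by rw [d8, dotInt_comm, d8]

theorem d8_add (u v w : leechLattice) : d8 (u + v) w = d8 u w + d8 v w := by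
  obtain ⟨k, hk⟩ := eight_dvd_dotInt u.2 w.2
  obtain ⟨l, hl⟩ := eight_dvd_dotInt v.2 w.2
  simp only [d8, AddSubgroup.coe_add, H16.dotInt_add_left, hk, hl, ← Int.cast_add]
  congr 1; omega

theorem d8_eq_zero {v w : leechLattice} :
    d8 v w = 0 ↔ (16 : ℤ) ∣ dotInt (v : GolayPt → ℤ) (w : GolayPt → ℤ) := by
  have := eight_dvd_dotInt v.2 w.2
  rw [d8, ZMod.intCast_zmod_eq_zero_iff_dvd]
  omega

theorem d8_eq_one {v w : leechLattice} :
    d8 v w = 1 ↔ ¬ (16 : ℤ) ∣ dotInt (v : GolayPt → ℤ) (w : GolayPt → ℤ) := by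
  rw [← d8_eq_zero]; generalize d8 v w = s; revert s; decide

theorem d8_smul (g : Co0) (v w : leechLattice) : d8 (g • v) (g • w) = d8 v w := by
  rw [d8, dotInt_co0, d8]

/-- the inner product with a fixed vector -/
def d8h (w : leechLattice) : leechLattice →+ ZMod 2 := AddMonoidHom.mk' (d8 · w) fun u v => d8_add u v w

theorem Cg.d8 {u v : leechLattice} (h : Cg u v) (w : leechLattice) : d8 u w = d8 v w := by
  obtain ⟨t, rfl⟩ := cg_iff.1 h
  rw [d8_add, d8_add, CharTwo.add_self_eq_zero, add_zero]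

theorem pp_iff {v : leechLattice} : Pp v ↔ d8 v vU = 0 := d8_eq_zero.symm

theorem Cu.d8 {u v w : leechLattice} (h : Cu u v) (hw : Pp w) : d8 u w = d8 v w := by
  rcases h with h | h
  · exact Cg.d8 h w
  · rw [← Cg.d8 h w, d8_add, d8_comm vU, pp_iff.1 hw, add_zero]

/-- the hyperbolic basis -/
noncomputable def bv (i : Fin 22) : leechLattice := lv (H54.nth BV i)

theorem bv_spec (i : Fin 22) : isV (H54.nth BV i) = true ∧ Pp (bv i) ∧
    ∀ j : Fin 22, d8 (bv i) (bv (j + 11)) = if i = j then 1 else 0 := by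
  have k := fun i : Fin 22 => (H54.allLt_iff _ _).1 bv_chk i i.2
  simp only [H54.force_eq, H54.band_eq_true, decide_eq_true_eq, H54.allLt_iff] at k
  refine ⟨(k i).1, ?_, fun j => ?_⟩
  · unfold Pp bv
    rw [(code_lv (k i).1).dot code_U]
    exact Int.dvd_of_emod_eq_zero (k i).2.1.2.2
  · have := (k i).2.2 (j + 11 : Fin 22) (j + 11).2
    rw [← (code_lv (k i).1).dot (code_lv (k _).1), if_congr ((by decide +kernel : ∀ i j : Fin 22,
      ((i : ℕ) = (j + 11 : Fin 22) + 11 ∨ ((j + 11 : Fin 22) : ℕ) = i + 11) ↔ i = j) i j) rfl rfl] at this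
    split_ifs at this ⊢
    · exact d8_eq_one.2 (by unfold bv; omega)
    · exact d8_eq_zero.2 (by unfold bv; omega)

/-- the class of a lattice vector (meaningful on `u^⊥`) -/
noncomputable def mk : leechLattice →+ V :=
  AddMonoidHom.mk' (fun v i => d8 v (bv (i + 11))) fun u v => funext fun _ => d8_add u v _

theorem mk_apply (v : leechLattice) (i : Fin 22) : mk v i = d8 v (bv (i + 11)) := rfl

/-- a vector in a given class -/
noncomputable def sec (a : V) : leechLattice := ∑ i, (a i).val • bv i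

theorem d8_sec (a : V) (w : leechLattice) : d8 (sec a) w = ∑ i, a i * d8 (bv i) w := by
  refine (map_sum (d8h w) _ _).trans (Finset.sum_congr rfl fun i _ => ?_)
  rw [map_nsmul, nsmul_eq_mul, ZMod.natCast_zmod_val]; rfl

theorem mk_sec (a : V) : mk (sec a) = a := funext fun j => by
  simp [mk_apply, d8_sec, (bv_spec _).2.2]

theorem pp_sec (a : V) : Pp (sec a) := pp_iff.2 (by simp [d8_sec, pp_iff.1 (bv_spec _).2.1])

theorem Cu.mk {v w : leechLattice} (h : Cu v w) : mk v = mk w :=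
  funext fun _ => Cu.d8 h (bv_spec _).2.1

theorem Cg.mk {v w : leechLattice} (h : Cg v w) : mk v = mk w := Cu.mk (Or.inl h)

theorem mk_U : mk vU = 0 := (Cu.mk (v := 0) (Or.inr (by rw [zero_add]; exact Cg.refl _))).symm.trans (map_zero _)

theorem d8_UW : d8 vU vW = 1 := d8_eq_one.2 (by rw [dot_UW]; norm_num)

theorem cu_of_mk {v : leechLattice} (hv : Pp v) (h : mk v = 0) : Cu 0 v := by
  let F : leechLattice →+ V × ZMod 2 × ZMod 2 := mk.prod ((d8h vU).prod (d8h vW))
  have e : ∀ v, F v = (mk v, d8 v vU, d8 v vW) := fun _ => rfl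
  have s : Function.Surjective F := fun ⟨a, s, r⟩ => by
    have h1 : ∀ (n : ZMod 2) (v w : leechLattice), d8 (n.val • v) w = n * d8 v w := fun n v w =>
      (map_nsmul (d8h w) _ _).trans (by rw [nsmul_eq_mul, ZMod.natCast_zmod_val]; rfl)
    refine ⟨s.val • vW + sec (a - mk (s.val • vW)) +
      (r - d8 (s.val • vW + sec (a - mk (s.val • vW))) vW).val • vU, ?_⟩
    rw [e, map_add, map_add, mk_sec, map_nsmul mk _ vU, mk_U]
    simp only [d8_add, h1, d8_UW, pp_iff.1 (pp_sec _), pp_iff.1 pp_U, d8_comm vW vU]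
    simp
  have l : twoLeech.addSubgroupOf leechLattice ≤ F.ker := fun x hx => by
    have c : Cg x 0 := by simpa [Cg] using AddSubgroup.mem_addSubgroupOf.1 hx
    rw [AddMonoidHom.mem_ker, e, Cg.mk c, Cg.d8 c, Cg.d8 c, ← e, map_zero]
  have i1 : F.ker.index = 2 ^ 24 := by
    rw [AddSubgroup.index_ker, AddMonoidHom.range_eq_top.2 s, AddSubgroup.card_top]
    simp
  have i2 := AddSubgroup.relIndex_mul_index l
  rw [i1, show (twoLeech.addSubgroupOf leechLattice).index = 2 ^ 24 from card_L2] at i2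
  have i3 := AddSubgroup.relIndex_eq_one.1 (Nat.eq_of_mul_eq_mul_right (by norm_num) (i2.trans (one_mul _).symm))
  rcases z2 (d8 v vW) with r | r
  · exact Or.inl (Cg.symm (by
      simpa [Cg] using AddSubgroup.mem_addSubgroupOf.1
        (i3 (x := v) (by rw [AddMonoidHom.mem_ker, e, h, pp_iff.1 hv, r]; rfl))))
  · refine Or.inr (Cg.symm ?_)
    rw [zero_add]
    exact i3 (x := v - vU) (by
      rw [AddMonoidHom.mem_ker, map_sub, e, e, h, pp_iff.1 hv, r, mk_U, pp_iff.1 pp_U, d8_UW, sub_self])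

theorem mk_neg (v : leechLattice) : mk (-v) = mk v := (Cg.mk (cg_neg v)).symm

theorem mk_sub (v w : leechLattice) : mk (v - w) = mk v + mk w := by rw [sub_eq_add_neg, map_add, mk_neg]

theorem mk_eq_iff {v w : leechLattice} (hv : Pp v) (hw : Pp w) : mk v = mk w ↔ Cu v w :=
  ⟨fun h => by
    have := (cu_of_mk (hv.add hw) (by rw [map_add, h, add_self])).add (Cu.refl v)
    rw [zero_add] at this
    exact this.trans (Or.inl (cg_iff.2 ⟨v, by abel⟩)), Cu.mk⟩

theorem cu_sec {v : leechLattice} (hv : Pp v) : Cu (sec (mk v)) v := (mk_eq_iff (pp_sec _) hv).1 (mk_sec _)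

theorem mk_surj (a : V) : ∃ v, Pp v ∧ mk v = a := ⟨_, pp_sec a, mk_sec a⟩

/-- the bilinear form -/
def be : LinearMap.BilinForm (ZMod 2) V :=
  LinearMap.mk₂ (ZMod 2) (fun a c => ∑ i, a i * c (i + 11))
    (fun _ _ _ => by simp [add_mul, Finset.sum_add_distrib]) (fun _ _ _ => by simp [Finset.mul_sum, mul_assoc])
    (fun _ _ _ => by simp [mul_add, Finset.sum_add_distrib])
    (fun _ _ _ => by simp [Finset.mul_sum, mul_left_comm])

theorem be_apply (a c : V) : be a c = ∑ i, a i * c (i + 11) := rfl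

theorem be_mk {v w : leechLattice} (hv : Pp v) (hw : Pp w) : be (mk v) (mk w) = d8 v w := by
  rw [← Cu.d8 (cu_sec hv) hw, d8_sec, be_apply]
  refine Finset.sum_congr rfl fun i _ => ?_
  rw [mk_apply w, (by decide : ∀ i : Fin 22, i + 11 + 11 = i), d8_comm w]

theorem be_comm (a c : V) : be a c = be c a := by
  obtain ⟨v, hv, rfl⟩ := mk_surj a
  obtain ⟨w, hw, rfl⟩ := mk_surj c
  rw [be_mk hv hw, be_mk hw hv, d8_comm]

theorem be_self (a : V) : be a a = 0 := by
  obtain ⟨v, hv, rfl⟩ := mk_surj a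
  rw [be_mk hv hv, d8_eq_zero, dotInt_self]
  exact sixteen_dvd_sqNorm v.2

theorem be_add_left (a c e : V) : be (a + c) e = be a e + be c e := by rw [map_add]; rfl

theorem be_add_right (a c e : V) : be a (c + e) = be a c + be a e := map_add _ _ _

theorem be_nondeg {a : V} (h : ∀ c, be a c = 0) : a = 0 := funext fun i => by
  have := h (Pi.single (i + 11) 1)
  simpa [be_apply, Pi.single_apply] using this

theorem be_ext {a c : V} (h : ∀ e, be a e = be c e) : a = c :=
  add_eq_zero.1 (be_nondeg fun e => by rw [be_add_left, h, CharTwo.add_self_eq_zero])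

/-- the quadratic form -/
noncomputable def qq (a : V) : ZMod 2 := ((sqNorm (sec a : GolayPt → ℤ) / 16 : ℤ) : ZMod 2)

theorem qq_mk {v : leechLattice} (hv : Pp v) :
    qq (mk v) = ((sqNorm (v : GolayPt → ℤ) / 16 : ℤ) : ZMod 2) := by
  have h1 := sixteen_dvd_sqNorm v.2
  have h2 := pp_sec (mk v)
  rw [qq, ZMod.intCast_eq_intCast_iff_dvd_sub]
  rcases cu_sec hv with h | h
  · have := h.norm_dvd; omega
  · have := h.norm_dvd
    rw [AddSubgroup.coe_add, sqNorm_add, norm_U] at this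
    unfold Pp at h2
    omega

theorem qq_mk_eq_zero {v : leechLattice} (hv : Pp v) : qq (mk v) = 0 ↔ (32 : ℤ) ∣ sqNorm (v : GolayPt → ℤ) := by
  have := sixteen_dvd_sqNorm v.2
  rw [qq_mk hv, ZMod.intCast_zmod_eq_zero_iff_dvd]
  omega

theorem qq_add (a c : V) : qq (a + c) = qq a + qq c + be a c := by
  obtain ⟨v, hv, rfl⟩ := mk_surj a
  obtain ⟨w, hw, rfl⟩ := mk_surj c
  obtain ⟨k, hk⟩ := sixteen_dvd_sqNorm v.2
  obtain ⟨l, hl⟩ := sixteen_dvd_sqNorm w.2
  obtain ⟨m, hm⟩ := eight_dvd_dotInt v.2 w.2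
  rw [← map_add, qq_mk (hv.add hw), qq_mk hv, qq_mk hw, be_mk hv hw, d8, AddSubgroup.coe_add, sqNorm_add, hk, hl, hm,
    ← Int.cast_add, ← Int.cast_add]
  congr 1; omega

theorem qq_zero : qq 0 = 0 := by
  have := qq_add 0 0
  rw [add_zero, be_self, add_zero] at this
  exact left_eq_add.1 this

noncomputable instance instSMulV : SMul C2 V := ⟨fun γ a => mk ((γ : Co0) • sec a)⟩

theorem smul_mk (γ : C2) {v : leechLattice} (hv : Pp v) : γ • mk v = mk ((γ : Co0) • v) :=
  Cu.mk ((cu_sec hv).smul γ)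

noncomputable instance instActV : DistribMulAction C2 V where
  one_smul a := by obtain ⟨v, hv, rfl⟩ := mk_surj a; rw [smul_mk _ hv]; simp
  mul_smul γ δ a := by
    obtain ⟨v, hv, rfl⟩ := mk_surj a
    rw [smul_mk _ hv, smul_mk _ hv, smul_mk _ (hv.smul δ), coe_mul, mul_smul]
  smul_zero γ := by rw [← map_zero mk, smul_mk _ pp_zero, smul_zero]
  smul_add γ a c := by
    obtain ⟨v, hv, rfl⟩ := mk_surj a
    obtain ⟨w, hw, rfl⟩ := mk_surj c
    rw [← map_add, smul_mk _ hv, smul_mk _ hw, smul_mk _ (hv.add hw), smul_add, map_add]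

theorem be_smul (γ : C2) (a c : V) : be (γ • a) (γ • c) = be a c := by
  obtain ⟨v, hv, rfl⟩ := mk_surj a
  obtain ⟨w, hw, rfl⟩ := mk_surj c
  rw [smul_mk _ hv, smul_mk _ hw, be_mk (hv.smul γ) (hw.smul γ), be_mk hv hw, d8_smul]

theorem be_smul_left (γ : C2) (a c : V) : be (γ • a) c = be a (γ⁻¹ • c) := by
  rw [← be_smul γ a, smul_inv_smul]

theorem qq_smul (γ : C2) (a : V) : qq (γ • a) = qq a := by
  obtain ⟨v, hv, rfl⟩ := mk_surj a
  rw [smul_mk _ hv, qq_mk hv, qq_mk (hv.smul γ), sqNorm_co0]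

theorem smul_z2 (γ : C2) (s : ZMod 2) (a : V) : γ • s • a = s • γ • a := by
  rcases z2 s with rfl | rfl <;> simp

theorem faithful {γ : C2} (h : ∀ a : V, γ • a = a) : γ = 1 :=
  stab_faithful fun x hx => by
    have := (mk_eq_iff (Pp.smul hx γ) hx).1 ((smul_mk γ hx).symm.trans (h _))
    exact this.imp_right fun e => (cg_UU _).symm.trans (e.add (Cg.refl _))

theorem card_V : Nat.card V = 2 ^ 22 := by simp

/-- the orthogonal complement -/
def perp (K : AddSubgroup V) : AddSubgroup V where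
  carrier := {a | ∀ x ∈ K, be x a = 0}
  zero_mem' _ _ := map_zero _
  add_mem' ha hc x hx := by rw [map_add, ha x hx, hc x hx, add_zero]
  neg_mem' ha x hx := by rw [map_neg, ha x hx, neg_zero]

theorem mem_perp {K : AddSubgroup V} {a : V} : a ∈ perp K ↔ ∀ x ∈ K, be x a = 0 := Iff.rfl

theorem be_nd : be.Nondegenerate :=
  ⟨fun _ h => be_nondeg h, fun _ h => be_nondeg fun c => (be_comm _ _).trans (h c)⟩

theorem be_refl : be.IsRefl := fun a c h => (be_comm c a).trans h

theorem card_perp (K : AddSubgroup V) : Nat.card K * Nat.card (perp K) = 2 ^ 22 := by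
  have h := LinearMap.BilinForm.finrank_orthogonal be_nd (AddSubgroup.toZModSubmodule 2 K)
  have l := Submodule.finrank_le (AddSubgroup.toZModSubmodule 2 K)
  have c1 : Nat.card K = 2 ^ Module.finrank (ZMod 2) (AddSubgroup.toZModSubmodule 2 K) := (Module.natCard_eq_pow_finrank (K := ZMod 2) (V := AddSubgroup.toZModSubmodule 2 K)).trans (by rw [Nat.card_zmod])
  have c2 : Nat.card (perp K) = 2 ^ Module.finrank (ZMod 2) (be.orthogonal (AddSubgroup.toZModSubmodule 2 K)) := (Module.natCard_eq_pow_finrank (K := ZMod 2) (V := be.orthogonal (AddSubgroup.toZModSubmodule 2 K))).trans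
      (by rw [Nat.card_zmod])
  rw [c1, c2, h, ← pow_add, Nat.add_sub_cancel' l]
  simp

theorem perp_perp (K : AddSubgroup V) : perp (perp K) = K :=
  (AddSubgroup.eq_of_le_of_card_ge (H := K) (K := perp (perp K)) (fun x hx a ha => (be_comm _ _).trans (ha x hx)) (by
    have h1 := card_perp K
    have h2 := card_perp (perp K)
    have : 0 < Nat.card (perp K) := Nat.card_pos
    nlinarith)).symm

/-- membership by orthogonality -/
theorem mem_of_perp {K : AddSubgroup V} {a : V} (h : ∀ c, (∀ x ∈ K, be x c = 0) → be c a = 0) : a ∈ K :=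
  perp_perp K ▸ h

theorem card_isotropic {K : AddSubgroup V} (h : ∀ x ∈ K, ∀ y ∈ K, be x y = 0) : Nat.card K ≤ 2 ^ 11 := by
  have h1 := card_perp K
  have h2 : Nat.card K ≤ Nat.card (perp K) := AddSubgroup.card_le_of_le fun y hy x hx => h x hx y hy
  nlinarith

theorem mem_two {x y a : V} (h : ∀ c, be x c = 0 → be y c = 0 → be c a = 0) :
    a = 0 ∨ a = x ∨ a = y ∨ a = x + y := by
  let K : AddSubgroup V :=
    { carrier := {a | a = 0 ∨ a = x ∨ a = y ∨ a = x + y}
      zero_mem' := Or.inl rfl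
      add_mem' := by
        rintro _ _ (rfl | rfl | rfl | rfl) (rfl | rfl | rfl | rfl) <;>
          simp [add_self, add_comm, add_left_comm, ← add_assoc]
      neg_mem' := fun {a} h => by rwa [neg_eq_of_add_eq_zero_left (add_self a)] }
  exact mem_of_perp (K := K) fun c hc => h c (hc x (Or.inr (Or.inl rfl))) (hc y (Or.inr (Or.inr (Or.inl rfl))))

theorem mem_one {x a : V} (h : ∀ c, be x c = 0 → be c a = 0) : a = 0 ∨ a = x := by
  have := mem_two (x := x) (y := x) fun c h1 _ => h c h1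
  rw [add_self] at this; tauto

/-- an additive functional on a subgroup is an inner product -/
theorem exists_dual (K : AddSubgroup V) (f : K →+ ZMod 2) : ∃ v, ∀ x : K, f x = be v x := by
  obtain ⟨g, hg⟩ := LinearMap.exists_extend (p := AddSubgroup.toZModSubmodule 2 K) (f.toZModLinearMap 2)
  refine ⟨(be.toDual be_nd).symm g, fun x => ?_⟩
  rw [LinearMap.BilinForm.apply_toDual_symm_apply]
  exact (congrArg (fun l => l x) hg).symm

/-- the class of the standard short involution -/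
noncomputable def tb : V := mk vX
/-- the class of the standard frame -/
noncomputable def bb : V := mk (e8 none)
/-- the classes in the standard frame -/
noncomputable def xx (i : GolayPt) : V := mk (pp none i)
/-- representative of the second class -/
noncomputable def vb : V := mk (pp (some 2) (some 3))
/-- representative of the third class -/
noncomputable def vc : V := mk (pp none (some 2) + pp (some 3) (some 4))

/-- the 2300 classes -/
def TA (a : V) : Prop := ∃ w ∈ H16.Min, dotInt (vU : GolayPt → ℤ) (w : GolayPt → ℤ) = 16 ∧ mk w = a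
/-- the 46575 classes -/
def TB (a : V) : Prop := ∃ w ∈ H16.Min, dotInt (vU : GolayPt → ℤ) (w : GolayPt → ℤ) = 0 ∧ mk w = a
/-- the 891 classes -/
def Om (a : V) : Prop := TA a ∧ be a tb = 0 ∧ a ≠ tb
/-- sign changes -/
def Eps (γ : C2) : Prop := (γ : Co0) ∈ epsGroup
/-- the 22 points -/
def Pt (i : GolayPt) : Prop := i ≠ none ∧ i ≠ some 0
/-- Siegel transformation -/
def sg (x y a : V) : V := a + be a x • y + be a y • x

/-- the commutator space -/
noncomputable def rg (γ : C2) : AddSubgroup V := (DistribSMul.toAddMonoidHom V γ + AddMonoidHom.id V).range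

theorem mem_rg {γ : C2} {a : V} : a ∈ rg γ ↔ ∃ c, γ • c + c = a := Iff.rfl

theorem dot_U (v : leechLattice) : dotInt (vU : GolayPt → ℤ) (v : GolayPt → ℤ) =
    4 * (v : GolayPt → ℤ) none + 4 * (v : GolayPt → ℤ) (some 0) := by
  rw [show (vU : GolayPt → ℤ) = v44 none (some 0) 1 1 by decide +kernel, dotInt_v44]; ring

theorem X_eq : vX = pp none (some 1) := Subtype.ext (code_X.2.symm.trans (by decide +kernel))

theorem dot_pp (i j : GolayPt) (v : GolayPt → ℤ) : dotInt (pp i j : GolayPt → ℤ) v = 4 * v i + 4 * v j :=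
  (dotInt_v44 i j 1 1 v).trans (by ring)

theorem pp_of_dot {w : leechLattice} {k : ℤ} (h : dotInt (vU : GolayPt → ℤ) (w : GolayPt → ℤ) = 16 * k) : Pp w :=
  ⟨k, (dotInt_comm _ _).trans h⟩

theorem pp_pp (i j : GolayPt) : Pp (pp i j) := by
  unfold Pp; rw [dotInt_comm, dot_U, pp_apply, pp_apply]; split_ifs <;> norm_num

theorem pp_pm (i j : GolayPt) : Pp (pm i j) := by
  unfold Pp; rw [dotInt_comm, dot_U, pm_apply, pm_apply]; split_ifs <;> norm_num

theorem pp_e8 (i : GolayPt) : Pp (e8 i) := pp_add_pm i i ▸ (pp_pp i i).add (pp_pm i i)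

theorem pp_X : Pp vX := X_eq ▸ pp_pp _ _

theorem mk_e8 (i : GolayPt) : mk (e8 i) = bb := Cg.mk (e8_sub_e8_mem i none)

theorem mk_pm (i j : GolayPt) : mk (pm i j) = mk (pp i j) + bb := by
  rw [← mk_e8 i, ← pp_add_pm i j, map_add, ← add_assoc, add_self, zero_add]

theorem mk_UP : mk vUP = bb := by rw [bb, ← U_add_UP, map_add, mk_U, zero_add]

theorem xx_one : xx (some 1) = tb := by rw [xx, tb, X_eq]

theorem mk_pp (i j : GolayPt) : mk (pp i j) = xx i + xx j + bb := by
  rw [xx, xx, bb, ← map_add, ← map_add]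
  exact (Cg.mk (cg_iff.2 ⟨e8 none, Subtype.ext (funext fun k => by
    simp only [AddSubgroup.coe_add, Pi.add_apply, pp_apply, e8_apply]; split_ifs <;> norm_num)⟩)).symm

theorem be_pp (i j k l : GolayPt) : be (mk (pp i j)) (mk (pp k l)) = 0 := by
  rw [be_mk (pp_pp _ _) (pp_pp _ _), d8_eq_zero, dot_pp, pp_apply, pp_apply]; split_ifs <;> norm_num

theorem be_xx (i j : GolayPt) : be (xx i) (xx j) = 0 := be_pp _ _ _ _

theorem be_xx_bb (i : GolayPt) : be (xx i) bb = 0 := by
  rw [xx, bb, be_mk (pp_pp _ _) (pp_e8 _), d8_eq_zero, dot_pp, e8_apply, e8_apply]; split_ifs <;> norm_num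

theorem be_xx_tb (i : GolayPt) : be (xx i) tb = 0 := xx_one ▸ be_xx i _

theorem be_tb_bb : be tb bb = 0 := xx_one ▸ be_xx_bb _

theorem be_bb_tb : be bb tb = 0 := (be_comm _ _).trans be_tb_bb

theorem TA.qq {a : V} (h : TA a) : qq a = 0 := by
  obtain ⟨w, h1, h2, rfl⟩ := h
  rw [qq_mk_eq_zero (pp_of_dot (k := 1) h2), mem_Min.1 h1]

theorem TB.qq {a : V} (h : TB a) : qq a = 0 := by
  obtain ⟨w, h1, h2, rfl⟩ := h
  rw [qq_mk_eq_zero (pp_of_dot (k := 0) h2), mem_Min.1 h1]

theorem dot_U_smul (γ : C2) (w : leechLattice) : dotInt (vU : GolayPt → ℤ) (((γ : Co0) • w : leechLattice) : GolayPt → ℤ) =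
    dotInt (vU : GolayPt → ℤ) (w : GolayPt → ℤ) := dot_of_fix (MulAction.mem_stabilizer_iff.1 γ.2) w

theorem TA.smul {a : V} (h : TA a) (γ : C2) : TA (γ • a) := by
  obtain ⟨w, h1, h2, rfl⟩ := h
  exact ⟨_, (sqNorm_co0 _ _).trans h1, (dot_U_smul γ w).trans h2, (smul_mk γ (pp_of_dot (k := 1) h2)).symm⟩

theorem TB.smul {a : V} (h : TB a) (γ : C2) : TB (γ • a) := by
  obtain ⟨w, h1, h2, rfl⟩ := h
  exact ⟨_, (sqNorm_co0 _ _).trans h1, (dot_U_smul γ w).trans h2, (smul_mk γ (pp_of_dot (k := 0) h2)).symm⟩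

theorem Om.smul {a : V} (h : Om a) {γ : C2} (e : γ • tb = tb) : Om (γ • a) :=
  ⟨h.1.smul γ, by rw [← e, be_smul, h.2.1], fun f => h.2.2 (smul_left_cancel γ (f.trans e.symm))⟩

/-- two minimal vectors with inner product 16 with `u` in the same class -/
theorem ta_eq {v w : leechLattice} (hv : v ∈ H16.Min) (hw : w ∈ H16.Min)
    (dv : dotInt (vU : GolayPt → ℤ) (v : GolayPt → ℤ) = 16) (dw : dotInt (vU : GolayPt → ℤ) (w : GolayPt → ℤ) = 16)
    (h : mk v = mk w) : v = w ∨ v = vU - w := by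
  rw [mem_Min] at hv hw
  rcases (mk_eq_iff (pp_of_dot (k := 1) dw) (pp_of_dot (k := 1) dv)).1 h.symm with e | e
  · rcases e.symm.short (by omega) (by omega) with f | f | f
    · exact Or.inl f
    · rw [f, AddSubgroup.coe_neg, dotInt_neg_right] at dv; omega
    · omega
  · have n : sqNorm ((vU - w : leechLattice) : GolayPt → ℤ) = 32 := by
      rw [AddSubgroup.coe_sub, sqNorm_sub, norm_U]; omega
    rcases (e.symm.trans (cg_iff.2 ⟨w, by abel⟩ : Cg (w + vU) (vU - w))).short (by omega) (by omega) with f | f | f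
    · exact Or.inr f
    · rw [f, AddSubgroup.coe_neg, dotInt_neg_right, AddSubgroup.coe_sub, dotInt_sub_right, dotInt_self, norm_U] at dv
      omega
    · omega

theorem TA.not_tb {a : V} (h : TA a) : ¬ TB a := by
  obtain ⟨v, hv, dv, rfl⟩ := h
  rintro ⟨w, hw, dw, e⟩
  rw [mem_Min] at hv hw
  rcases (mk_eq_iff (pp_of_dot (k := 0) dw) (pp_of_dot (k := 1) dv)).1 e with e | e
  · rcases e.short (by omega) (by omega) with f | f | f
    · rw [f] at dw; omega
    · rw [f, AddSubgroup.coe_neg, dotInt_neg_right] at dw; omega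
    · omega
  · have := e.norm_eq (by rw [AddSubgroup.coe_add, sqNorm_add, norm_U, dotInt_comm]; omega) (by omega)
    rw [AddSubgroup.coe_add, sqNorm_add, norm_U, dotInt_comm] at this
    omega

theorem ne_of_min {w : leechLattice} (h : w ∈ H16.Min) {k : ℤ} (hk : k = 0 ∨ k = 1)
    (d : dotInt (vU : GolayPt → ℤ) (w : GolayPt → ℤ) = 16 * k) : mk w ≠ 0 := fun e => by
  rw [mem_Min] at h
  rcases cu_of_mk (pp_of_dot d) e with f | f
  · exact Mon.not_cg_zero (Or.inl h) f
  · rw [zero_add] at f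
    rcases f.short (by rw [norm_U]; omega) (by omega) with g | g | g
    · rw [← g, dotInt_self, norm_U] at d; omega
    · rw [← neg_eq_iff_eq_neg.2 g, AddSubgroup.coe_neg, dotInt_neg_right, dotInt_self, norm_U] at d; omega
    · omega

theorem TA.ne {a : V} (h : TA a) : a ≠ 0 := by
  obtain ⟨w, h1, h2, rfl⟩ := h
  exact ne_of_min h1 (Or.inr rfl) h2

theorem TB.ne {a : V} (h : TB a) : a ≠ 0 := by
  obtain ⟨w, h1, h2, rfl⟩ := h
  exact ne_of_min h1 (Or.inl rfl) h2

theorem ta_xx {i : GolayPt} (h : Pt i) : TA (xx i) ∧ TA (xx i + bb) :=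
  ⟨⟨_, norm_pp h.1.symm, by simp [dot_U, pp_apply, h.1.symm, h.2.symm], rfl⟩,
    ⟨_, norm_pm h.1.symm, by simp [dot_U, pm_apply, h.1.symm, h.2.symm], mk_pm _ _⟩⟩

theorem pt_one : Pt (some 1) := by unfold Pt; decide

theorem ta_tb : TA tb := xx_one ▸ (ta_xx pt_one).1

theorem tb_bb : TB bb := ⟨_, norm_UP, dot_UUP, mk_UP⟩

theorem om_bb : Om (tb + bb) :=
  ⟨xx_one ▸ (ta_xx pt_one).2, by rw [be_add_left, be_self, be_bb_tb, add_zero], fun h => tb_bb.ne (left_eq_add.1 h.symm)⟩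

theorem tb_pp {i j : GolayPt} (hi : Pt i) (hj : Pt j) (h : i ≠ j) : TB (xx i + xx j + bb) ∧ TB (xx i + xx j) :=
  ⟨⟨_, norm_pp h, by simp [dot_U, pp_apply, hi.1.symm, hi.2.symm, hj.1.symm, hj.2.symm], mk_pp i j⟩,
    ⟨_, norm_pm h, by simp [dot_U, pm_apply, hi.1.symm, hi.2.symm, hj.1.symm, hj.2.symm], by
      rw [mk_pm, mk_pp, add_assoc, add_self, add_zero]⟩⟩

theorem om_xx {i : GolayPt} (h : Pt i) (h1 : i ≠ some 1) : Om (xx i) ∧ Om (xx i + bb) :=
  ⟨⟨(ta_xx h).1, be_xx_tb i, fun e => (tb_pp h pt_one h1).2.ne (by rw [xx_one, e, add_self])⟩,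
    ⟨(ta_xx h).2, by rw [be_add_left, be_xx_tb, be_bb_tb, add_zero], fun e => (tb_pp h pt_one h1).1.ne (by
      rw [xx_one, add_right_comm, e, add_self])⟩⟩

theorem ta_trans {a c : V} (ha : TA a) (hc : TA c) : ∃ γ : C2, γ • a = c := by
  obtain ⟨v, h1, h2, rfl⟩ := ha
  obtain ⟨w, h3, h4, rfl⟩ := hc
  obtain ⟨g, e, rfl⟩ := co2_trans h1 h3 (h2.trans h4.symm)
  exact ⟨⟨g, e⟩, smul_mk _ (pp_of_dot (k := 1) h2)⟩

theorem tb_trans {a c : V} (ha : TB a) (hc : TB c) : ∃ γ : C2, γ • a = c := by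
  obtain ⟨v, h1, h2, rfl⟩ := ha
  obtain ⟨w, h3, h4, rfl⟩ := hc
  obtain ⟨g, e, rfl⟩ := co2_trans h1 h3 (h2.trans h4.symm)
  exact ⟨⟨g, e⟩, smul_mk _ (pp_of_dot (k := 0) h2)⟩

theorem fix_bb_iff {γ : C2} : γ • bb = bb ↔ (γ : Co0) ∈ monoGroup := by
  rw [mem_monoGroup_iff_cg, bb, smul_mk _ (pp_e8 _), mk_eq_iff ((pp_e8 _).smul γ) (pp_e8 _)]
  refine ⟨fun h => h.resolve_right fun e => ?_, Or.inl⟩
  have := (((cg_iff.2 ⟨vU, by rw [← U_add_UP]; abel⟩ : Cg (e8 none + vU) vUP).smul (γ : Co0)).symm.trans (by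
    rwa [smul_add, MulAction.mem_stabilizer_iff.1 γ.2])).norm_eq (by rw [sqNorm_co0, norm_UP]; omega)
      (by rw [sqNorm_e8])
  rw [sqNorm_co0, norm_UP, sqNorm_e8] at this
  omega

theorem Eps.bb {ε : C2} (h : Eps ε) : ε • bb = bb := fix_bb_iff.2 (epsGroup_le h)

theorem Eps.sq {ε : C2} (h : Eps ε) : ε * ε = 1 := by
  obtain ⟨c, hc, e⟩ := h
  exact Subtype.ext (by rw [coe_mul, e, eps_mul_self]; rfl)

theorem Eps.mul {ε δ : C2} (h : Eps ε) (h' : Eps δ) : Eps (ε * δ) := epsGroup.mul_mem h h'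

theorem fix_tb {γ : C2} (h : (γ : Co0) • vX = vX) : γ • tb = tb := by rw [tb, smul_mk _ pp_X, h]

theorem smul_sg (γ : C2) (x y a : V) : γ • sg x y a = sg (γ • x) (γ • y) (γ • a) := by
  simp only [sg, smul_add, smul_z2, be_smul]

end H18.BS
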