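import Cfsg.Agent.Lib.BStd.V
import Cfsg.Agent.Lib.BRec.ClsCo
import Cfsg.Agent.Lib.Co2.FinCls

/-!
# Involutions of Co2 on the 22-dimensional module; the stabiliser of a short class (helper11)
-/

set_option autoImplicit false
set_option maxRecDepth 100000

namespace H18.BS

open Cfsg H16 H95 H48.BR Subgroup H75.WC
open scoped symmDiff Pointwise

namespace VA

open H15

theorem U_apply (k : GolayPt) :
    (vU : GolayPt → ℤ) k = (if k = none then 4 else 0) + if k = some 0 then 4 else 0 := by
  rw [coe_U, v44_apply]; norm_num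

theorem X_apply (k : GolayPt) :
    (vX : GolayPt → ℤ) k = (if k = none then 4 else 0) + if k = some 1 then 4 else 0 := by
  rw [coe_X, v44_apply]; norm_num

theorem eps_U {c : Finset GolayPt} (hc : c ∈ code) : eps c hc • vU = vU ↔ none ∉ c ∧ some 0 ∉ c := by
  rw [H12.Co2.eps_fix_iff]
  refine ⟨fun h => ⟨fun a => ?_, fun a => ?_⟩, fun h k hk => ?_⟩
  · exact absurd (h _ a) (by rw [U_apply]; decide)
  · exact absurd (h _ a) (by rw [U_apply]; decide)
  · rw [U_apply, if_neg (fun e : k = none => h.1 (e ▸ hk)), if_neg fun e : k = some 0 => h.2 (e ▸ hk)]; rfl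

theorem eps_UP {c : Finset GolayPt} (hc : c ∈ code) (h : eps c hc • vU = vU) : eps c hc ∈ Stab vUP :=
  (H12.Co2.eps_mem_stab hc).2 ((eps_U hc).1 h).symm

/-- a sign change moving `vU` to `vUP` -/
theorem exists_d : ∃ δ : Co0, δ • vU = vUP ∧ ∀ c hc, δ⁻¹ * eps c hc * δ = eps c hc := by
  obtain ⟨d, hd, e⟩ := exists_code_inter_eq_of_card_lt {none, some 0} {some 0} (by decide) (by decide)
  have h0 : some 0 ∈ d := (Finset.mem_inter.1 (e ▸ Finset.mem_singleton_self _)).1
  have h1 : none ∉ d := fun h => by
    have : none ∈ d ∩ {none, some 0} := Finset.mem_inter.2 ⟨h, by decide⟩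
    rw [e] at this
    exact absurd this (by decide)
  refine ⟨eps d hd, Subtype.ext (funext fun k => ?_), fun c hc => ?_⟩
  · rw [eps_smul_apply, U_apply, coe_UP, v44_apply]
    by_cases a : k = none
    · subst a; rw [if_neg h1]; decide
    · by_cases b : k = some 0
      · subst b; rw [if_pos h0]; decide
      · simp [a, b]
  · rw [mul_assoc, H74.Co1.eps_comm, inv_mul_cancel_left]

theorem down {δ g : Co0} (e : δ • vU = vUP) (hg : g ∈ Stab vUP) : δ⁻¹ * g * δ ∈ Stab vU := by
  rw [mem_Stab, mul_smul, mul_smul, e, mem_Stab.1 hg, ← e, inv_smul_smul]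

/-- an involution of Co2 is conjugate to a sign change -/
theorem conj_eps {γ : C2} (h : γ * γ = 1) : ∃ g : C2, Eps (g * γ * g⁻¹) := by
  obtain ⟨δ, e, hδ⟩ := exists_d
  obtain ⟨g, hg, c, hc, f⟩ := H12.Co2.cls_eps (x := δ * γ * δ⁻¹)
    (by rw [mem_Stab, mul_smul, mul_smul, ← e, inv_smul_smul, mem_Stab.1 γ.2])
    (H12.Co2.conj_sq (congrArg Subtype.val h))
  refine ⟨⟨_, down e hg⟩, c, hc, ?_⟩
  rw [← hδ, ← f]
  simp only [coe_mul, coe_inv]
  group

theorem eps_conj {ε : C2} {c d : Finset GolayPt} {hc : c ∈ code} (hd : d ∈ code) (a : (ε : Co0) = eps c hc)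
    (b : eps d hd • vU = vU) (e : c.card = d.card) : ∃ g : C2, ((g * ε * g⁻¹ : C2) : Co0) = eps d hd := by
  obtain ⟨δ, e', hδ⟩ := exists_d
  obtain ⟨g, hg, f⟩ := H12.Co2.eps_conj_of_card hc hd (eps_UP hc (a ▸ ε.2)) (eps_UP hd b) e
  refine ⟨⟨_, down e' hg⟩, ?_⟩
  rw [← hδ d hd, ← f]
  simp only [coe_mul, coe_inv]
  rw [a, ← hδ c hc]
  nth_rewrite 2 [hδ c hc]
  group

/-- five independent commutators -/
def Ind (γ : C2) : Prop := ∃ a c : Fin 5 → V, ∀ i j, be (γ • a i + a i) (c j) = if i = j then 1 else 0

theorem Ind.conj {γ g : C2} (h : Ind (g * γ * g⁻¹)) : Ind γ := by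
  obtain ⟨a, c, h⟩ := h
  refine ⟨fun i => g⁻¹ • a i, fun j => g⁻¹ • c j, fun i j => ?_⟩
  rw [← h, ← be_smul g, smul_add, smul_inv_smul, smul_inv_smul, mul_smul, mul_smul]

theorem Ind.card {γ : C2} (h : Ind γ) : 32 ≤ Nat.card (rg γ) := by
  obtain ⟨a, c, h⟩ := h
  have s : Function.Surjective fun (x : rg γ) (j : Fin 5) => be x (c j) := fun s =>
    ⟨⟨∑ i, s i • (γ • a i + a i), sum_mem fun i _ => by
      rcases z2 (s i) with e | e <;> rw [e]
      · rw [zero_smul]; exact zero_mem _
      · rw [one_smul]; exact ⟨a i, rfl⟩⟩, funext fun j => by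
      simp only [map_sum, map_smul, LinearMap.sum_apply, LinearMap.smul_apply, h]
      simp⟩
  simpa using Nat.card_le_card_of_surjective _ s

/-- kernel test for five independent commutators of a sign change -/
def chk (m : ℕ) (v w : Fin 5 → ℕ) : Prop :=
  (∀ i, (isV (v i) = true ∧ dotC (v i) UC % 16 = 0) ∧ isV (w i) = true ∧ dotC (w i) UC % 16 = 0) ∧
    ∀ i j, (∑ p : GolayPt, ((if m.testBit (idx p) = true then -vec (v i) p else vec (v i) p) + vec (v i) p) *
      vec (w j) p) % 16 = if i = j then 8 else 0

instance (m : ℕ) (v w : Fin 5 → ℕ) : Decidable (chk m v w) := by unfold chk; infer_instance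

theorem ind_of {ε : C2} {m : ℕ} {hm : ofMask m ∈ code} (e : (ε : Co0) = eps _ hm) {v w : Fin 5 → ℕ}
    (h : chk m v w) : Ind ε := by
  have p : ∀ n, isV n = true → dotC n UC % 16 = 0 → Pp (lv n) := fun n a b => by
    unfold Pp
    rw [(code_lv a).dot code_U]
    exact Int.dvd_of_emod_eq_zero b
  refine ⟨fun i => mk (lv (v i)), fun j => mk (lv (w j)), fun i j => ?_⟩
  have pv := p _ (h.1 i).1.1 (h.1 i).1.2
  have k := h.2 i j
  have d : dotInt (((ε : Co0) • lv (v i) + lv (v i) : leechLattice) : GolayPt → ℤ) (lv (w j) : GolayPt → ℤ) % 16 =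
      if i = j then 8 else 0 := by
    rw [← k, dotInt, e]
    simp only [AddSubgroup.coe_add, Pi.add_apply, eps_smul_apply, mem_ofMask, coe_lv (h.1 i).1.1, coe_lv (h.1 j).2.1]
  rw [smul_mk _ pv, ← map_add, be_mk ((pv.smul ε).add pv) (p _ (h.1 j).2.1 (h.1 j).2.2)]
  split_ifs at d ⊢
  · exact d8_eq_one.2 (by omega)
  · exact d8_eq_zero.2 (by omega)

theorem chk8 : chk 10558 ![0x11000f0011000f000f0011000f001100110011000d000f001100110011001100110011001100110011000f000f000f, 0x1200120010001200100010001000100010001000100012001000120010001200100010001000120010001000100012, 0x110011000f000f00110011000f00110011000f000d000f0011001100110011001100110011000f000f00110011000f, 0x110011000f000f0013000f000f0011000f0011000f000f001100110011001100110011000f000f0011000f0011000f, 0x1000100010001000100010001000120012001200120010001200120010001200100010001000100012001000100010]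
    ![0x11000f001300110011000f0011000f0011000f000f000f0011001100110011000f00110011000f000f0011000f000f, 0x1200100010001000100010001200100010001000100012001000100012001000100012001000120010001000120012, 0x1000100012001200100012001000120010001000100010001000120012001000100010001200100010001000120010, 0xf0011000f0011000f000f000f000f000f000d000f001100110011001100110011000f000f000f000f001100110011, 0xf0011001100110011000f00110011001300110011001100110011001100110011000f0011000f000f000f000f0011] := by
  decide +kernel

theorem chk12 : chk 57274 ![0x11000f0011000f000f000f001100110011000f000f001100110011001100110011000d0011000f001100110011000f, 0x110011000d0011001100110011000f000f000f0011000f0011001100110011000f0011000f0011000f00110011000f, 0xf0011000f000f000f0011000f000f000f000f000f00110011001100110011000f000f001100110011001100130011, 0xf000f000f00110011000f000f00110011000f0011000f000d0011001100110011000f000f000f000f0011000f0011, 0x1000100012001200100010001200100012001000120012001000100012001000100010001000100010001000120010]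
    ![0x11000f0011000f000f000f001100110011000f000f001100110011001100110011000d0011000f001100110011000f, 0x110011000d0011001100110011000f000f000f0011000f0011001100110011000f0011000f0011000f00110011000f, 0xf0011000f000f000f0011000f000f000f000f000f00110011001100110011000f000f001100110011001100130011, 0xf000f000f00110011000f000f00110011000f0011000f000d0011001100110011000f000f000f000f0011000f0011, 0x1000100010001000100012001000100010001000120012001200120010001000100012001000100012001200100010] := by
  decide +kernel

theorem chk16 : chk 1030138 ![0x110011000f0011000f0011000f0011000f000f000f000f000d001100110011000f001100110011000f000f000f000f, 0x110011000f000f000d0011000f00110011000f0011000f0011001100110011001100110011000f000f00110011000f, 0x110011000f0011000f0011000f000f000f00110011000f00110011001100110011000f001100110011000d0011000f, 0xd000f00110011000f00110011000f0011000f0011001100110011001100110011000f000f00110011000f0011000f, 0xf00110011000f000f000f0011000f0011000f00110011001100110011001100110011001100110011000f00130011]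
    ![0x11001100130011001100110011000f001100110011001100110011001100110011000f000f000f000f0011000f000f, 0x11001100110011000f000f001100110011000f0011000f00110011001100110011000f0011000d000f0011000f000f, 0xf000f000f000f00110011000f0011001100110011000f00110011000d0011000f000f001100110011001100110011, 0xf0011000f000f0011000f000f00110011000f000f0011001100110011001100110011000f00110011000d00110011, 0x11000f000f0011000f0013000f0011000f00110011001100110011001100110011000f000f0011000f000f000f000f] := by
  decide +kernel

theorem ind_eps {ε : C2} (h : Eps ε) (h1 : ε ≠ 1) : Ind ε := by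
  obtain ⟨c, hc, e⟩ := h
  have key : ∀ m v w, isCode m = true → m.testBit 23 = false → m.testBit 0 = false → c.card = wt m → chk m v w →
      Ind ε := fun m v w a b b' n k => by
    obtain ⟨g, hg⟩ := eps_conj (ofMask_mem_of_isCode a) e ((eps_U _).2 ⟨by
      rw [mem_ofMask, show idx none = 23 from rfl, b]; decide, by
      rw [mem_ofMask, show idx (some 0) = 0 from rfl, b']; decide⟩) (n.trans (card_ofMask m).symm)
    exact (ind_of hg k).conj
  rcases card_of_mem_code hc with k | k | k | k | k
  · obtain rfl := Finset.card_eq_zero.1 k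
    exact absurd (Subtype.ext (e.trans eps_empty)) h1
  · exact key _ _ _ (by decide +kernel) (by decide +kernel) (by decide +kernel) (k.trans (by decide +kernel)) chk8
  · exact key _ _ _ (by decide +kernel) (by decide +kernel) (by decide +kernel) (k.trans (by decide +kernel)) chk12
  · exact key _ _ _ (by decide +kernel) (by decide +kernel) (by decide +kernel) (k.trans (by decide +kernel)) chk16
  · obtain rfl := Finset.eq_univ_of_card c (k.trans card_pt.symm)
    exact absurd (Finset.mem_univ _) ((eps_U hc).1 (e ▸ ε.2)).1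

/-- an element commuting with the sign changes off `∞, 0, 1` does not interchange `vX` and `vU - vX` -/
theorem not_swap {γ : Co0} (h : ∀ c hc, none ∉ c → some 0 ∉ c → some 1 ∉ c → eps c hc * γ = γ * eps c hc)
    (e : γ • vX = vU - vX) : False := by
  have z : ∀ i k : GolayPt, i ∉ ({none, some 0, some 1} : Finset GolayPt) → k ≠ i →
      ((γ • e8 i : leechLattice) : GolayPt → ℤ) k = 0 := fun i k hi hk => by
    obtain ⟨c, hc, f⟩ := exists_code_inter_eq_of_card_lt {none, some 0, some 1, k, i} {i} (by simp)
      (lt_of_le_of_lt Finset.card_le_five (by norm_num))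
    have m : ∀ p ∈ ({none, some 0, some 1, k, i} : Finset GolayPt), p ≠ i → p ∉ c := fun p a b d =>
      b (Finset.mem_singleton.1 (f ▸ Finset.mem_inter.2 ⟨d, a⟩))
    simp only [Finset.mem_insert, Finset.mem_singleton, not_or] at hi
    have := congrArg (fun g : Co0 => ((g • e8 i : leechLattice) : GolayPt → ℤ) k)
      (h c hc (m _ (by simp) (Ne.symm hi.1)) (m _ (by simp) (Ne.symm hi.2.1)) (m _ (by simp) (Ne.symm hi.2.2)))
    simp only [mul_smul, eps_smul_apply, eps_smul_e8, if_neg (m k (by simp) hk),
      if_pos (Finset.mem_inter.1 (f ▸ Finset.mem_singleton_self i)).1, smul_neg, AddSubgroup.coe_neg,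
      Pi.neg_apply] at this
    omega
  obtain ⟨σ, hσ, c, hc, rfl⟩ : ∃ σ, ∃ hσ : σ ∈ M24, ∃ c, ∃ hc : c ∈ code, γ = mono σ hσ c hc := by
    have z2 := fun k => z (some 2) k (by decide)
    have n := (sqNorm_co0 γ _).trans (sqNorm_e8 (some 2))
    rw [← dotInt_self, dotInt, Finset.sum_eq_single (some 2) (fun k _ hk => by rw [z2 k hk, mul_zero])
      (fun a => absurd (Finset.mem_univ _) a), show (64 : ℤ) = 8 * 8 by norm_num, mul_self_eq_mul_self_iff] at n
    refine exists_mono_of_e8 γ (i := some 2) (j := some 2) (n.imp (fun n => ?_) fun n => ?_) <;>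
      refine Subtype.ext (funext fun k => ?_) <;> by_cases a : k = some 2
    · rw [a, n, e8_apply, if_pos rfl]
    · rw [z2 k a, e8_apply, if_neg a]
    · rw [a, n, AddSubgroup.coe_neg, Pi.neg_apply, e8_apply, if_pos rfl]
    · rw [z2 k a, AddSubgroup.coe_neg, Pi.neg_apply, e8_apply, if_neg a, neg_zero]
  have f : ∀ i ∉ ({none, some 0, some 1} : Finset GolayPt), σ i = i := fun i hi => by
    by_contra a
    have := z i _ hi a
    rw [mono_smul_apply, e8_apply, if_pos rfl] at this
    split_ifs at this
    all_goals omega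
  obtain ⟨d, hd, g⟩ := exists_code_inter_eq_of_card_lt {none, some 0, some 1} {none} (by decide) (by decide)
  have s : d ∆ (σ • d) ⊆ {none, some 0, some 1} := fun p hp => by
    by_contra a
    have : p ∈ σ • d ↔ p ∈ d := by
      nth_rewrite 1 [← f p a]
      exact Finset.smul_mem_smul_finset_iff σ
    rw [Finset.mem_symmDiff, this] at hp
    tauto
  have c0 : d ∆ (σ • d) = ∅ := Finset.card_eq_zero.1 (by
    have := (Finset.card_le_card s).trans Finset.card_le_three
    have := card_of_mem_code (symmDiff_mem_code hd (smul_mem_code hσ hd))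
    omega)
  have m : σ none ∈ d := by
    rw [symmDiff_eq_bot.1 c0]
    exact (Finset.smul_mem_smul_finset_iff σ).2 (Finset.mem_inter.1 (g ▸ Finset.mem_singleton_self _)).1
  have x := mono_smul_apply hσ hc vX none
  rw [e, AddSubgroup.coe_sub, Pi.sub_apply, U_apply, X_apply, X_apply] at x
  have : σ none ∈ d ∩ {none, some 0, some 1} := Finset.mem_inter.2 ⟨m, by
    by_contra a
    simp only [Finset.mem_insert, Finset.mem_singleton, not_or] at a
    simp only [a, if_false, if_true, reduceCtorEq] at x
    split_ifs at x <;> omega⟩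
  rw [g, Finset.mem_singleton] at this
  simp only [this, if_false, if_true, reduceCtorEq] at x
  split_ifs at x <;> omega

end VA

/-- an involution of Co2 has a commutator space with at least 32 elements -/
theorem inv32 {γ : C2} (h : γ * γ = 1) (h1 : γ ≠ 1) : 32 ≤ Nat.card (rg γ) := by
  obtain ⟨g, e⟩ := VA.conj_eps h
  exact (VA.ind_eps e fun f => h1 (conj_eq_one_iff.1 f)).conj.card

/-- Co2 contains no transvections and no Siegel transformations -/
theorem siegel {x y : V} (h : be x y = 0) {γ : C2} (hγ : ∀ a, be x a = 0 → be y a = 0 → γ • a = a) : γ = 1 := by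
  have m : ∀ a, γ • a + a = 0 ∨ γ • a + a = x ∨ γ • a + a = y ∨ γ • a + a = x + y := fun a =>
    mem_two fun c h1 h2 => by
      rw [be_add_right, ← be_smul γ c a, hγ c h1 h2, CharTwo.add_self_eq_zero]
  have h' := (be_comm y x).trans h
  have sq : γ * γ = 1 := faithful fun a => by
    have : γ • (γ • a + a) = γ • a + a := by
      rcases m a with e | e | e | e <;> rw [e]
      · exact smul_zero _
      · exact hγ _ (be_self _) h'
      · exact hγ _ h (be_self _)
      · exact hγ _ (by rw [be_add_right, be_self, h, add_zero]) (by rw [be_add_right, be_self, h', add_zero])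
    rw [smul_add, add_comm (γ • a) a] at this
    rw [mul_smul]
    exact add_right_cancel this
  by_contra h1
  have l : (rg γ : Set V).ncard ≤ ({0, x, y, x + y} : Set V).ncard :=
    Set.ncard_le_ncard (by rintro _ ⟨a, rfl⟩; exact m a)
  have := inv32 sq h1
  have := Set.ncard_insert_le 0 ({x, y, x + y} : Set V)
  have := Set.ncard_insert_le x ({y, x + y} : Set V)
  have := Set.ncard_insert_le y ({x + y} : Set V)
  have := Set.ncard_singleton (x + y)
  have : (rg γ : Set V).ncard = Nat.card (rg γ) := rfl
  omega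

/-- an involution fixes one of the 2300 classes -/
theorem fix_ta {γ : C2} (h : γ * γ = 1) : ∃ a, TA a ∧ γ • a = a := by
  obtain ⟨g, c, hc, e⟩ := VA.conj_eps h
  have u := (VA.eps_U hc).1 (e ▸ (g * γ * g⁻¹).2)
  obtain ⟨i, hi⟩ : ∃ i, i ∉ insert none (insert (some 0) c) := by
    by_contra! a
    have := congrArg Finset.card (Finset.eq_univ_of_forall a)
    rw [Finset.card_insert_of_notMem (by simp [u.1]), Finset.card_insert_of_notMem u.2, Finset.card_univ,
      card_pt] at this
    have := card_of_mem_code hc
    omega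
  simp only [Finset.mem_insert, not_or] at hi
  refine ⟨g⁻¹ • xx i, (ta_xx ⟨hi.1, hi.2.1⟩).1.smul _, ?_⟩
  have : (g * γ * g⁻¹) • xx i = xx i := by
    rw [xx, smul_mk _ (pp_pp _ _), e, (H12.Co2.eps_fix_iff hc _).2 fun k hk => ?_]
    rw [pp_apply, if_neg (fun e : k = none => u.1 (e ▸ hk)), if_neg fun e : k = i => hi.2.2 (e ▸ hk)]; rfl
  rw [eq_inv_smul_iff, ← mul_smul, ← mul_smul, this]

theorem fix_tb_iff {γ : C2} : γ • tb = tb ↔ (γ : Co0) • vX = vX ∨ (γ : Co0) • vX = vU - vX := by
  rw [tb, smul_mk _ pp_X]
  refine ⟨ta_eq ((sqNorm_co0 _ _).trans norm_X) norm_X ((dot_U_smul γ _).trans dot_UX) dot_UX, ?_⟩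
  rintro (e | e) <;> rw [e]
  rw [mk_sub, mk_U, zero_add]

theorem eps_X {ε : C2} (h : Eps ε) (e : ε • tb = tb) : (ε : Co0) • vX = vX := by
  obtain ⟨c, hc, f⟩ := h
  refine (fix_tb_iff.1 e).resolve_right fun g => ?_
  have := eps_smul_apply hc vX none
  rw [← f, g, AddSubgroup.coe_sub, Pi.sub_apply, VA.U_apply, VA.X_apply] at this
  simp only [if_false, if_true, reduceCtorEq] at this
  split_ifs at this <;> omega

/-- the stabiliser of `tb` has no normal 2-subgroup -/
theorem normal_S {A : Subgroup C2} (h2 : IsPGroup 2 A) (hA : ∀ γ ∈ A, γ • tb = tb)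
    (hn : ∀ s : C2, s • tb = tb → ∀ γ ∈ A, s * γ * s⁻¹ ∈ A) : A = ⊥ := by
  obtain ⟨e⟩ := Cfsg.Agent.S1577.base
  have : H11.U.IsSq H30.F4 2 := ⟨rfl⟩
  have : IsSimpleGroup (PSU 6 H30.F4 2) := H11.U.isSimpleGroup_PSU (by omega) (by omega)
  have := e.isSimpleGroup
  let ι : ↥(Stab vU ⊓ Stab vX) →* C2 := inclusion inf_le_left
  have hι : Function.Injective ι := inclusion_injective _
  have N : (A.comap ι).Normal := ⟨fun x hx g => by
    rw [mem_comap, map_mul, map_mul, map_inv]
    exact hn _ (fix_tb (γ := ι g) g.2.2) _ hx⟩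
  have b : ∀ γ ∈ A, (γ : Co0) • vX = vX → γ = 1 := fun γ hγ f => by
    rcases N.eq_bot_or_eq_top with t | t
    · have : (⟨γ, γ.2, f⟩ : ↥(Stab vU ⊓ Stab vX)) ∈ A.comap ι := hγ
      rw [t, mem_bot] at this
      exact Subtype.ext (congrArg Subtype.val this :)
    · obtain ⟨n, c⟩ := (h2.comap_of_injective ι hι).exists_card_eq
      rw [t, card_top, card_U62] at c
      have : 3 ∣ 2 ^ n := c ▸ by norm_num
      exact absurd (Nat.Prime.dvd_of_dvd_pow Nat.prime_three this) (by norm_num)
  refine (eq_bot_iff_forall _).2 fun γ hγ => b γ hγ ((fix_tb_iff.1 (hA γ hγ)).resolve_right fun f => ?_)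
  refine VA.not_swap (fun c hc c1 c2 c3 => ?_) f
  have u := (VA.eps_U hc).2 ⟨c1, c2⟩
  have x : eps c hc • vX = vX := (H12.Co2.eps_fix_iff hc _).2 fun k hk => by
    rw [VA.X_apply, if_neg (fun e : k = none => c1 (e ▸ hk)), if_neg fun e : k = some 1 => c3 (e ▸ hk)]; rfl
  have k := b _ (A.mul_mem (A.inv_mem hγ) (hn ⟨_, u⟩ (fix_tb x) γ hγ)) (by
    simp only [coe_mul, coe_inv, mul_smul]
    rw [inv_smul_eq_iff.2 x.symm, f, smul_sub, u, x, inv_smul_eq_iff, f])
  have k' := congrArg Subtype.val (inv_mul_eq_one.1 k)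
  simp only [coe_mul, coe_inv] at k'
  exact mul_inv_eq_iff_eq_mul.1 k'.symm

end H18.BS
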