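import Cfsg.Agent.Lib.BStd.St
import Cfsg.Agent.Lib.BStd.VC
import Cfsg.Agent.Lib.BStd.Rho

/-!
# The module of Co2 restricted to `U6(2)` (helper18)
-/

set_option autoImplicit false
set_option maxRecDepth 100000

namespace H18.BS

open Cfsg H16 H95 H48.BR Subgroup H75.WC
open scoped symmDiff Pointwise

/-- membership in `U6(2)` -/
def Ux (γ : C2) : Prop := (γ : Co0) • vX = vX

theorem Ux.tb {γ : C2} (h : Ux γ) : γ • tb = tb := fix_tb h

theorem Ux.one : Ux 1 := one_smul _ _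

theorem Ux.mul {γ δ : C2} (h : Ux γ) (h' : Ux δ) : Ux (γ * δ) := by rw [Ux, coe_mul, mul_smul, h', h]

theorem Ux.inv {γ : C2} (h : Ux γ) : Ux γ⁻¹ := inv_smul_eq_iff.2 h.symm

theorem Ux.pow {γ : C2} (h : Ux γ) (k : ℕ) : Ux (γ ^ k) := by
  induction k with
  | zero => exact Ux.one
  | succ k ih => rw [pow_succ]; exact ih.mul h

theorem Eps.ux {ε : C2} (h : Eps ε) (e : ε • tb = tb) : Ux ε := eps_X h e

theorem om_U {a : V} (h : Om a) : ∃ γ : C2, Ux γ ∧ γ • a = tb + bb := om_trans h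

namespace VU

open VB

theorem eps_of {γ : C2} {σ : Equiv.Perm GolayPt} {hσ : σ ∈ M24} {c : Finset GolayPt} {hc : c ∈ code}
    (e : (γ : Co0) = mono σ hσ c hc) (f2 : ∀ j, Pt j → σ j = j) : Eps γ := by
  obtain ⟨d, hd, d1, d2⟩ := exists_code_sep (i := none) (j := some 0) (by decide)
  have pt : ∀ i, ¬ Pt i → i = none ∨ i = some 0 := fun i h => by unfold Pt at h; tauto
  have ed : symmDiff (σ⁻¹ • d) d = ∅ := eq_empty_of_card_lt (symmDiff_mem_code (smul_mem_code (inv_mem hσ) hd) hd)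
    (lt_of_le_of_lt (Finset.card_le_card (t := {none, some 0}) fun p hp => by
      rw [Finset.mem_symmDiff, mem_inv_smul] at hp
      simpa using pt p fun q => by rw [show σ p = p from f2 p q] at hp; tauto) (by decide))
  have e1 : σ none = none := by
    have : σ none ∈ d := by rwa [← mem_inv_smul, symmDiff_eq_bot.1 ed]
    exact (pt _ fun q => ((mono_pt e).1 q).1 rfl).resolve_right fun q => d2 (q ▸ this)
  obtain rfl : σ = 1 := Equiv.ext fun p => by
    by_cases q : Pt p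
    · exact f2 p q
    rcases pt p q with rfl | rfl
    · exact e1
    · exact (pt _ fun r => q ((mono_pt e).1 r)).resolve_left fun r => absurd (σ.injective (r.trans e1.symm)) (by decide)
  exact ⟨c, hc, e⟩

/-- a permutation fixing the three points -/
theorem exists_perm {σ : Equiv.Perm GolayPt} (hσ : σ ∈ M24) (h0 : σ none = none)
    (h1 : σ (some 0) = some 0) (h2 : σ (some 1) = some 1) :
    ∃ γ : C2, Ux γ ∧ γ • bb = bb ∧ ∀ i, γ • xx i = xx (σ i) := by
  refine ⟨⟨permHom ⟨σ, hσ⟩, ?_⟩, ?_, fix_bb_iff.2 (permHom_mem _), fun i => ?_⟩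
  · rw [mem_Stab, VC.U_eq, VC.smul_pp]; simp [h0, h1]
  · rw [Ux, X_eq]; exact (VC.smul_pp _ _ _).trans (by simp [h0, h2])
  · rw [xx, smul_mk _ (pp_pp _ _)]
    exact congrArg mk ((VC.smul_pp _ _ _).trans (by simp [h0]))

/-- conjugacy under `U6(2)` -/
def Cj (u v : V) : Prop := ∃ γ : C2, Ux γ ∧ γ • u = v

theorem Cj.add {u v : V} (h : Cj u v) : Cj (u + tb) (v + tb) := by
  obtain ⟨γ, h1, h2⟩ := h
  exact ⟨γ, h1, by rw [smul_add, h1.tb, h2]⟩

theorem Cj.of_eq {u v v' : V} (h : Cj u v) (e : v' = v) : Cj u v' := e ▸ h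

theorem cj_sign : Cj vb (vb + bb) := by
  have hc : H15.ofMask 7221256 ∈ code := H15.ofMask_mem_of_isCode (by decide +kernel)
  refine ⟨⟨eps _ hc, Subtype.ext ((coe_eps_smul hc _).trans (by decide +kernel))⟩, ?_, ?_⟩
  · rw [Ux, X_eq]; exact Subtype.ext ((coe_eps_smul hc _).trans (by decide +kernel))
  · rw [vb, smul_mk _ (pp_pp _ _), ← mk_pm]
    exact congrArg mk (Subtype.ext ((coe_eps_smul hc _).trans (by decide +kernel)))

theorem cj_pair (a b : GolayPt) (h : Function.Injective ![none, some 0, some 1, a, b]) :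
    Cj vb (xx a + xx b + bb) ∧ Cj vb (xx a + xx b) := by
  obtain ⟨σ, hσ, e⟩ := H15.M24_trans5 ![none, some 0, some 1, some 2, some 3] _ (by decide) h
  obtain ⟨γ, h1, h2, h3⟩ := exists_perm hσ (e 0) (e 1) (e 2)
  obtain ⟨r, r1, r2⟩ := cj_sign
  have k : γ • vb = xx a + xx b + bb := by
    rw [vb, mk_pp, smul_add, smul_add, h2, h3, h3]
    exact congrArg₂ (fun x y => xx x + xx y + bb) (e 3) (e 4)
  exact ⟨⟨γ, h1, k⟩, γ * r, h1.mul r1, by
    rw [mul_smul, r2, smul_add, k, h2, add_assoc, add_self, add_zero]⟩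

theorem exists_seven : ∃ σ : C2, Ux σ ∧ σ • bb = bb ∧
    ∀ c, be tb c = 0 → be bb c = 0 → ∀ i, ∑ k ∈ Finset.range 7, be ((σ ^ k) • xx i) c = 0 := by
  obtain ⟨π, hπ, p1, p2, p3, p4⟩ := Rho.exists_p7
  have e : ∀ i, permHom ⟨π, hπ⟩ • pp none i = pp none (π i) := fun i => Subtype.ext (funext fun k => by
    obtain ⟨k, rfl⟩ := π.surjective k
    rw [permHom_smul_apply ⟨π, hπ⟩, pp_apply, pp_apply, if_congr (π.apply_eq_iff_eq (x := k) (y := i)) rfl rfl,
      if_congr (show π k = none ↔ k = none by rw [← π.apply_eq_iff_eq (x := k), p1]) rfl rfl])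
  obtain ⟨σ, s0, s⟩ : ∃ σ : C2, Ux σ ∧ ∀ i, σ • xx i = xx (π i) :=
    ⟨⟨permHom ⟨π, hπ⟩, by rw [MulAction.mem_stabilizer_iff, Rho.U_eq, e, p2]⟩, by rw [Ux, X_eq, e, p3], fun i => by
      rw [xx, smul_mk _ (pp_pp _ _)]; exact congrArg mk (e i)⟩
  have sk : ∀ k i, (σ ^ k) • xx i = xx (π^[k] i) := fun k => by
    induction k with
    | zero => simp
    | succ k ih => intro i; rw [pow_succ, mul_smul, s, ih, Function.iterate_succ_apply]
  refine ⟨σ, s0, by rw [← Rho.xx_none, s, p1], fun c h1 h2 i => ?_⟩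
  obtain ⟨d, hd, p, hp, h⟩ := p4 i
  have h3 : be (xx p) c = 0 := by
    rcases hp with e | e | e <;> rw [e]
    · exact Rho.xx_none ▸ h2
    · rw [Rho.xx_zero, map_zero, LinearMap.zero_apply]
    · exact xx_one ▸ h1
  have h4 : ∑ j ∈ d, be (xx j) c = 0 := by
    rw [← LinearMap.sum_apply, ← map_sum, Rho.rel hd, map_zero, LinearMap.zero_apply]
  have h5 : ∀ g : GolayPt → ZMod 2, ∑ k ∈ Finset.range 7, g (π^[k] i) = ∑ j ∈ d, g j + g p := fun g =>
    calc _ = ∑ j, (∑ k ∈ Finset.range 7, if j = π^[k] i then (1 : ZMod 2) else 0) * g j := by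
          simp only [Finset.sum_mul]
          rw [Finset.sum_comm]
          simp
      _ = _ := by simp [h, add_mul, Finset.sum_add_distrib]
  simp only [sk]
  rw [h5 fun j => be (xx j) c, h3, h4, add_zero]

/-- an element of the frame space fixed modulo `bb` by the stabiliser of `tb` and `bb` -/
theorem fixed {w : V} (hw : Rho.EE w) (h : ∀ σ : C2, Ux σ → σ • bb = bb → σ • w + w = 0 ∨ σ • w + w = bb) :
    w = 0 ∨ w = tb ∨ w = bb ∨ w = tb + bb := by
  obtain ⟨σ, h1, h2, h3⟩ := exists_seven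
  refine mem_two fun c ct cb => ?_
  have e : Rho.EE (∑ k ∈ Finset.range 7, (σ ^ k)⁻¹ • c) := fun i => by
    rw [map_sum, ← h3 c ct cb i]
    exact Finset.sum_congr rfl fun k _ => (be_smul_left _ _ _).symm
  have f : ∀ k, be ((σ ^ k)⁻¹ • c) w = be c w := fun k => by
    rw [be_smul_left, inv_inv]
    have := h (σ ^ k) (h1.pow k)
      (MulAction.mem_stabilizer_iff.1 (pow_mem (MulAction.mem_stabilizer_iff.2 h2) k))
    have g : be c ((σ ^ k) • w + w) = 0 := by
      rcases this with g | g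
      · rw [g, map_zero]
      · rw [g, be_comm, cb]
    rw [be_add_right] at g
    exact CharTwo.add_eq_zero.1 g
  have := e.be hw
  rw [map_sum, LinearMap.sum_apply] at this
  simp only [f, Finset.sum_const, Finset.card_range] at this
  revert this
  generalize be c w = s
  revert s
  decide

end VU

open VU VB

theorem normal_U {A : Subgroup C2} (h2 : IsPGroup 2 A) (hA : ∀ γ ∈ A, γ • tb = tb)
    (hn : ∀ s : C2, Ux s → ∀ γ ∈ A, s * γ * s⁻¹ ∈ A) : A = ⊥ := by
  obtain ⟨e⟩ := Cfsg.Agent.S1577.base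
  have : H11.U.IsSq H30.F4 2 := ⟨rfl⟩
  have : IsSimpleGroup (PSU 6 H30.F4 2) := H11.U.isSimpleGroup_PSU (by omega) (by omega)
  have := e.isSimpleGroup
  let ι : ↥(Stab vU ⊓ Stab vX) →* C2 := inclusion inf_le_left
  have hι : Function.Injective ι := inclusion_injective _
  have N : (A.comap ι).Normal := ⟨fun x hx g => by
    rw [mem_comap, map_mul, map_mul, map_inv]
    exact hn (ι g) g.2.2 _ hx⟩
  have b : ∀ γ ∈ A, (γ : Co0) • vX = vX → γ = 1 := fun γ hγ f => by
    rcases N.eq_bot_or_eq_top with t | t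
    · have : (⟨γ, γ.2, f⟩ : ↥(Stab vU ⊓ Stab vX)) ∈ A.comap ι := hγ
      rw [t, mem_bot] at this
      exact Subtype.ext (congrArg Subtype.val this :)
    · obtain ⟨n, c⟩ := (h2.comap_of_injective ι hι).exists_card_eq
      rw [t, card_top, card_U62] at c
      have : 3 ∣ 2 ^ n := c ▸ by norm_num
      exact absurd (Nat.Prime.dvd_of_dvd_pow Nat.prime_three this) (by norm_num)
  refine (eq_bot_iff_forall _).2 fun γ hγ => b γ hγ ((fix_tb_iff.1 (hA γ hγ)).resolve_right fun f => ?_)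
  refine VA.not_swap (fun c hc c1 c2 c3 => ?_) f
  have u := (VA.eps_U hc).2 ⟨c1, c2⟩
  have x : eps c hc • vX = vX := (H12.Co2.eps_fix_iff hc _).2 fun k hk => by
    rw [VA.X_apply, if_neg (fun e : k = none => c1 (e ▸ hk)), if_neg fun e : k = some 1 => c3 (e ▸ hk)]; rfl
  have k := b _ (A.mul_mem (A.inv_mem hγ) (hn ⟨_, u⟩ x γ hγ)) (by
    simp only [coe_mul, coe_inv, mul_smul]
    rw [inv_smul_eq_iff.2 x.symm, f, smul_sub, u, x, inv_smul_eq_iff, f])
  have k' := congrArg Subtype.val (inv_mul_eq_one.1 k)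
  simp only [coe_mul, coe_inv] at k'
  exact mul_inv_eq_iff_eq_mul.1 k'.symm

theorem normal_Ub {A : Subgroup C2} (h2 : IsPGroup 2 A) (hA : ∀ γ ∈ A, γ • tb = tb ∧ γ • bb = bb)
    (hn : ∀ s : C2, Ux s → s • bb = bb → ∀ γ ∈ A, s * γ * s⁻¹ ∈ A) : ∀ γ ∈ A, Eps γ := by
  obtain ⟨ρ, hρ⟩ := exists_monoPerm
  let ψ : A →* monoGroup := ((Stab vU).subtype.comp A.subtype).codRestrict _ fun γ => fix_bb_iff.1 (hA γ γ.2).2
  have k : ∀ γ : A, ∃ c, ∃ hc : c ∈ code, ((γ : C2) : Co0) = mono (ρ (ψ γ)) (ρ (ψ γ)).2 c hc := fun γ => by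
    obtain ⟨σ, hσ, c, hc, e⟩ := (ψ γ).2
    rw [show ψ γ = ⟨mono σ hσ c hc, mono_mem hσ hc⟩ from Subtype.ext e, hρ]
    exact ⟨c, hc, e⟩
  have k1 : ∀ γ : A, (ρ (ψ γ) : Equiv.Perm GolayPt) (some 1) = some 1 := fun γ =>
    let ⟨_, _, e⟩ := k γ; mono_one e (hA γ γ.2).1
  have kp : ∀ (γ : A) i, Pt ((ρ (ψ γ) : Equiv.Perm GolayPt) i) ↔ Pt i := fun γ i => let ⟨_, _, e⟩ := k γ; mono_pt e
  let _ : MulAction A GolayPt := MulAction.compHom GolayPt (ρ.comp ψ)
  let S : SubMulAction A GolayPt := ⟨{i | Pt i ∧ i ≠ some 1}, fun γ i h => ⟨(kp γ i).2 h.1, fun e =>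
    h.2 ((ρ (ψ γ) : Equiv.Perm GolayPt).injective (e.trans (k1 γ).symm))⟩⟩
  have cS : Nat.card S = 21 := by
    show Nat.card {i : GolayPt // (i ≠ none ∧ i ≠ some 0) ∧ i ≠ some 1} = 21
    rw [Nat.card_eq_fintype_card]; decide
  obtain ⟨⟨i, hi⟩, fi⟩ := h2.nonempty_fixed_point_of_prime_not_dvd_card S (by rw [cS]; norm_num)
  have f1 : ∀ γ : A, (ρ (ψ γ) : Equiv.Perm GolayPt) i = i := fun γ => congrArg Subtype.val (fi γ)
  intro γ hγ
  have f2 : ∀ j, Pt j → (ρ (ψ ⟨γ, hγ⟩) : Equiv.Perm GolayPt) j = j := fun j hj => by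
    by_cases e : j = some 1
    · rw [e, k1]
    obtain ⟨π, hπ, p1, p2, p3, p4⟩ := H15.M24_trans4 (a := none) (b := some 0) (c := some 1) (by decide) (by decide)
      hj.1.symm (by decide) hj.2.symm (Ne.symm e) (a' := none) (b' := some 0) (c' := some 1) (by decide) (by decide)
      hi.1.1.symm (by decide) hi.1.2.symm hi.2.symm
    let s : C2 := ⟨permHom ⟨π, hπ⟩, by rw [mem_Stab, VB.U_eq, perm_pp, p1, p2]⟩
    have := f1 ⟨_, hn s (by rw [Ux, X_eq, perm_pp, p1, p3]) (fix_bb_iff.2 (permHom_mem _)) γ hγ⟩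
    rw [show ψ ⟨s * γ * s⁻¹, _⟩ = ⟨_, mono_mem hπ empty_mem_code⟩ * ψ ⟨γ, hγ⟩ * ⟨_, mono_mem hπ empty_mem_code⟩⁻¹
      from rfl, map_mul, map_mul, map_inv, hρ, ← p4] at this
    simpa using this
  obtain ⟨c, hc, e⟩ := k ⟨γ, hγ⟩
  exact eps_of e f2

end H18.BS

namespace H18.BS

open Cfsg H16 H95 H48.BR Subgroup H75.WC VU

theorem line_U {u : V} (hu : u = vb ∨ u = vb + tb) : ∃ v₁ v₂ v₃ : V,
    v₁ + v₂ + v₃ ∈ ({0, tb, u, tb + u} : Set V) ∧ ∀ v ∈ ({v₁, v₂, v₃} : Set V), be v u = 0 ∧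
      (∃ γ : C2, Ux γ ∧ γ • u = v) ∧ ∃ γ : C2, Ux γ ∧ γ • u = v + u := by
  have e : vb = xx (some 2) + xx (some 3) + bb := mk_pp _ _
  have b : ∀ i j, be (xx i + xx j) vb = 0 ∧ be (xx i + xx j + tb) (vb + tb) = 0 := fun i j => by
    simp only [e, ← xx_one, ← VC.xx_none, be_add_left, be_add_right, be_xx, add_zero, and_self]
  rcases hu with rfl | rfl
  · have r := VC.rel (m := 10486557) (a := none) (b := some 0) (c := some 2) (d := some 3) (e := some 4)
      (f := some 8) (g := some 9) (k := some 21) (by decide +kernel) (by decide +kernel)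
    rw [VC.xx_none, VC.xx_zero] at r
    refine ⟨xx (some 2) + xx (some 4), xx (some 4) + xx (some 8), xx (some 2) + xx (some 8),
      Or.inl (by linear_combination (xx (some 2) + xx (some 4) + xx (some 8)) * two0), ?_⟩
    rintro _ (rfl | rfl | rfl) <;> refine ⟨(b _ _).1, (cj_pair _ _ (by decide)).2, ?_⟩
    · refine (cj_pair (some 3) (some 4) (by decide)).1.of_eq ?_
      rw [e]; linear_combination xx (some 2) * two0
    · refine (cj_pair (some 9) (some 21) (by decide)).2.of_eq ?_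
      rw [e]; linear_combination r - (xx (some 9) + xx (some 21)) * two0
    · refine (cj_pair (some 3) (some 8) (by decide)).1.of_eq ?_
      rw [e]; linear_combination xx (some 2) * two0
  · have r := VC.rel (m := 8683614) (a := none) (b := some 1) (c := some 2) (d := some 3) (e := some 4)
      (f := some 6) (g := some 15) (k := some 18) (by decide +kernel) (by decide +kernel)
    rw [VC.xx_none, xx_one] at r
    refine ⟨xx (some 4) + xx (some 6) + tb, xx (some 6) + xx (some 15) + tb, xx (some 4) + xx (some 15) + tb,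
      Or.inr (Or.inl (by linear_combination (xx (some 4) + xx (some 6) + xx (some 15) + tb) * two0)), ?_⟩
    rintro _ (rfl | rfl | rfl) <;> refine ⟨(b _ _).2, (cj_pair _ _ (by decide)).2.add, ?_⟩
    · refine (cj_pair (some 15) (some 18) (by decide)).2.add.of_eq ?_
      rw [e]; linear_combination r - (xx (some 15) + xx (some 18)) * two0
    · refine (cj_pair (some 4) (some 18) (by decide)).2.add.of_eq ?_
      rw [e]; linear_combination r - (xx (some 4) + xx (some 18)) * two0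
    · refine (cj_pair (some 6) (some 18) (by decide)).2.add.of_eq ?_
      rw [e]; linear_combination r - (xx (some 6) + xx (some 18)) * two0

theorem vc_swap_U : ∃ γ : C2, Ux γ ∧ γ • vc = vc + tb := by
  have h : H15.inM24 976907894520423640927997288916428832 = true := by decide +kernel
  have a := H15.permOf_apply (H15.okP_of_inM24 h)
  obtain ⟨γ, h1, h2, h3⟩ := exists_perm (H15.permOf_mem_M24 h) ((a _).trans (by decide +kernel))
    ((a _).trans (by decide +kernel)) ((a _).trans (by decide +kernel))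
  have e : vc = xx (some 2) + (xx (some 3) + xx (some 4) + bb) := by rw [vc, map_add, mk_pp (some 3)]; rfl
  have r := VC.rel (m := 5279) (a := some 0) (b := some 1) (c := some 2) (d := some 3) (e := some 4)
    (f := some 7) (g := some 10) (k := some 12) (by decide +kernel) (by decide +kernel)
  rw [VC.xx_zero, xx_one] at r
  refine ⟨γ, h1, ?_⟩
  have a2 := (a (some 2)).trans (b := _) (c := some 10) (by decide +kernel)
  have a3 := (a (some 3)).trans (b := _) (c := some 7) (by decide +kernel)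
  have a4 := (a (some 4)).trans (b := _) (c := some 12) (by decide +kernel)
  rw [e, smul_add, smul_add, smul_add, h2, h3, h3, h3, a2, a3, a4]
  linear_combination r - (tb + xx (some 2) + xx (some 3) + xx (some 4)) * two0

theorem rho_U (κ : V →+ V) (hq : ∀ a, qq (κ a) = qq a) (hb : κ bb = bb)
    (hx : ∀ i, Pt i → κ (xx i) = xx i ∨ κ (xx i) = xx i + bb)
    (hr : ∀ r : C2, Eps r → r • tb = tb → ∀ a, κ (r • a) = r • κ a)
    (hs : ∀ σ : C2, Ux σ → σ • bb = bb → ∃ r : C2, Eps r ∧ ∀ a, σ • κ a = κ (r • σ • a)) :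
    ∃ ε : C2, Eps ε ∧ ((∀ a, κ a = ε • a) ∨ ∀ a, κ a = ε • sg bb tb a) := by
  classical
  let c : Finset GolayPt := Finset.univ.filter fun i => κ (xx i) ≠ xx i
  have mc : ∀ i, i ∈ c ↔ κ (xx i) ≠ xx i := fun i => by simp [c]
  have c1 : none ∉ c := by rw [mc, Rho.xx_none, hb]; simp
  have c2 : some 0 ∉ c := by rw [mc, Rho.xx_zero, map_zero]; simp
  have kx : ∀ i, κ (xx i) = if i ∈ c then xx i + bb else xx i := fun i => by
    split_ifs with m
    · exact (hx i ⟨fun e => c1 (e ▸ m), fun e => c2 (e ▸ m)⟩).resolve_left ((mc i).1 m)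
    · exact not_not.1 fun e => m ((mc i).2 e)
  have hc : c ∈ code := mem_code_of_even fun d hd => by
    have e := congrArg κ (Rho.rel hd)
    have f : ∀ i, κ (xx i) = xx i + if i ∈ c then bb else 0 := fun i => by rw [kx]; split_ifs <;> simp
    rw [map_sum, map_zero] at e
    simp only [f, Finset.sum_add_distrib, Rho.rel hd, zero_add, Finset.sum_ite_mem, Finset.sum_const] at e
    by_contra n
    obtain ⟨k, hk⟩ : Odd (d ∩ c).card := Nat.not_even_iff_odd.1 fun g => n g.two_dvd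
    rw [hk, add_nsmul, mul_nsmul, two_nsmul, add_self, nsmul_zero, zero_add, one_nsmul] at e
    exact Rho.bb_ne e
  obtain ⟨ε, e1, e2⟩ := Rho.exists_eps hc c1 c2
  have ee : ∀ a : V, ε • ε • a = a := fun a => by rw [← mul_smul, e1.sq, one_smul]
  have cm : ∀ r : C2, Eps r → ∀ a : V, ε • r • a = r • ε • a := fun r h a => by
    have : ε * r = r * ε := by
      rw [eq_inv_of_mul_eq_one_left (e1.mul h).sq, mul_inv_rev, ← eq_inv_of_mul_eq_one_left e1.sq,
        ← eq_inv_of_mul_eq_one_left h.sq]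
    rw [← mul_smul, this, mul_smul]
  obtain ⟨w, hw, hk⟩ := Rho.is_sg ((DistribSMul.toAddMonoidHom V ε).comp κ) (fun a => (qq_smul ε _).trans (hq a))
    (fun i => by change ε • κ (xx i) = _; rw [kx, ← e2, ee])
    (fun r h1 h2 a => by change ε • κ (r • a) = r • ε • κ a; rw [hr r h1 h2, cm r h1])
  replace hk : ∀ a, κ a = ε • sg bb w a := fun a => by rw [← hk]; exact (ee _).symm
  have := VU.fixed hw fun σ s1 s2 => by
    obtain ⟨r, r1, r2⟩ := hs σ s1 s2
    have ri : Eps r⁻¹ := epsGroup.inv_mem r1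
    have r3 : ∀ a, sg bb w (r • a) = r • sg bb w a := fun a => by
      rw [smul_sg, r1.bb]
      rcases Rho.EE.eps hw r1 with e | e <;> rw [e]
      rw [Rho.sg_bb]
    refine Rho.key (ζ := (ε * r)⁻¹ * (σ * ε * σ⁻¹)) (by rw [be_add_right, ← s2, be_smul, s2, Rho.z2_add])
      fun a ha => ?_
    have := r2 (σ⁻¹ • a)
    have si : σ⁻¹ • bb = bb := inv_smul_eq_iff.2 s2.symm
    rw [hk, hk, smul_inv_smul, r3, sg, sg, be_comm a bb, ha, be_smul_left σ⁻¹, inv_inv, s2, be_comm a bb, ha, zero_smul,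
      add_zero, add_zero, be_smul_left σ⁻¹, inv_inv, smul_add, smul_add, smul_z2, smul_z2, e1.bb, s2] at this
    rw [mul_smul, inv_smul_eq_iff, mul_smul, mul_smul, mul_smul, eq_sub_of_add_eq this]
    simp only [smul_add, smul_z2, e1.bb, r1.bb, be_add_right, add_smul]
    linear_combination (-(be a (σ • w) • bb)) * two0
  refine ⟨ε, e1, ?_⟩
  have z : ∀ a, sg bb 0 a = a := fun a => by simp [sg]
  rcases this with e | e | e | e
  · exact Or.inl fun a => by rw [hk, e, z]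
  · exact Or.inr fun a => by rw [hk, e]
  · exact Or.inl fun a => by rw [hk, e, (congrArg (sg bb · a) (zero_add bb)).symm.trans ((Rho.sg_bb 0 a).trans (z a))]
  · exact Or.inr fun a => by rw [hk, e, Rho.sg_bb]

theorem gen_U {H : Subgroup C2} (hS : ∀ γ : C2, Ux γ → γ ∈ H) {ρ : C2} (hρ : ρ ∈ H) (h : Om (ρ • tb)) :
    H = ⊤ := by
  have s1 : ∀ a, Om a → ∃ η ∈ H, η • tb = a := fun a ha => by
    obtain ⟨γ, h1, e1⟩ := om_trans ha
    obtain ⟨δ, h2, e2⟩ := om_trans h
    exact ⟨γ⁻¹ * δ * ρ, H.mul_mem (H.mul_mem (H.inv_mem (hS _ h1)) (hS _ h2)) hρ, by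
      rw [mul_smul, mul_smul, e2, ← e1, inv_smul_smul]⟩
  have s2 : ∀ a, TA a → be a tb = 0 → ∃ η ∈ H, η • tb = a := fun a ha e => by
    by_cases f : a = tb
    exacts [⟨1, H.one_mem, (one_smul _ _).trans f.symm⟩, s1 a ⟨ha, e, f⟩]
  have s3 : ∀ a, TA a → ∃ η ∈ H, η • tb = a := fun a ha => by
    by_cases f : ∃ x, Om x ∧ be a x = 0
    · obtain ⟨x, hx, e⟩ := f
      obtain ⟨η, h1, rfl⟩ := s1 x hx
      obtain ⟨δ, h2, e2⟩ := s2 (η⁻¹ • a) (ha.smul _) (by rw [be_smul_left, inv_inv, e])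
      exact ⟨η * δ, H.mul_mem h1 h2, by rw [mul_smul, e2, smul_inv_smul]⟩
    · have o : ∀ x, Om x → be a x = 1 := fun x hx => (z2 _).resolve_left fun e => f ⟨x, hx, e⟩
      exact s2 a ha (VB.span20 (K := (be a).toAddMonoidHom.ker) (fun ε _ h2 => (be_add_right _ _ _).trans (by
        rw [o _ (VB.om_oo.smul h2), o _ VB.om_oo]; rfl)) (be_self _) be_tb_bb)
  by_cases f : ∃ s ∈ H, (s : Co0) • vX = vU - vX
  · obtain ⟨s, hs, f⟩ := f
    refine gen (fun γ e => (fix_tb_iff.1 e).elim (hS γ) fun e => ?_) hρ h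
    exact (H.mul_mem_cancel_left (inv_mem hs)).1 (hS _ (by
      rw [Ux, coe_mul, mul_smul, e, ← f, coe_inv, inv_smul_smul]))
  obtain ⟨s, e⟩ : ∃ s : C2, (s : Co0) • vX = vU - vX := by
    obtain ⟨h1, h2⟩ := VC.min_sub norm_X dot_UX
    obtain ⟨g, e, f⟩ := co2_trans norm_X h1 (dot_UX.trans h2.symm)
    exact ⟨⟨g, e⟩, f⟩
  have k : ∀ γ : C2, γ ∈ H ∨ γ * s⁻¹ ∈ H := fun γ => by
    obtain ⟨η, h1, e1⟩ := s3 _ (ta_tb.smul γ)
    refine (fix_tb_iff.1 (show (η⁻¹ * γ) • tb = tb by rw [mul_smul, ← e1, inv_smul_smul])).imp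
      (fun r => (H.mul_mem_cancel_left (inv_mem h1)).1 (hS _ r)) fun r => ?_
    refine (H.mul_mem_cancel_left (inv_mem h1)).1 (mul_assoc η⁻¹ γ _ ▸ hS _ ?_)
    have : (s : Co0)⁻¹ • vX = vU - vX := by
      rw [inv_smul_eq_iff, smul_sub, e, MulAction.mem_stabilizer_iff.1 s.2, sub_sub_cancel]
    rw [Ux, coe_mul, mul_smul, coe_inv, this, smul_sub, r, MulAction.mem_stabilizer_iff.1 (η⁻¹ * γ).2, sub_sub_cancel]
  have i : H.index = 2 := index_eq_two_iff.2 ⟨s⁻¹, fun γ => by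
    by_cases m : γ ∈ H
    · exact Or.inr ⟨m, fun r => f ⟨s, inv_mem_iff.1 ((H.mul_mem_cancel_left m).1 r), e⟩⟩
    · exact Or.inl ⟨(k γ).resolve_left m, m⟩⟩
  refine (isSimple_Co2.eq_bot_or_eq_top_of_normal H (normal_of_index_eq_two i)).resolve_left fun r => ?_
  rw [r, index_bot, card_Co2] at i
  omega

theorem fix_pairs {γ : C2} (hb : γ • bb = bb) (h : ∀ i, Pt i → γ • xx i = xx i ∨ γ • xx i = xx i + bb) :
    Eps γ := by
  obtain ⟨σ, hσ, c, hc, e⟩ := fix_bb_iff.1 hb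
  refine VU.eps_of e fun j hj => by_contra fun n => ?_
  have p := (VB.mono_pt e).2 hj
  have q : xx (σ none) = 0 ∨ xx (σ none) = bb := by
    by_cases r : σ none = none
    · exact Or.inr (by rw [r, VC.xx_none])
    · exact Or.inl ((not_not.1 fun s => ((VB.mono_pt e).1 ⟨r, s⟩).1 rfl : σ none = some 0) ▸ VC.xx_zero)
  have k : γ • xx j = mk (pp (σ none) (σ j)) ∨ γ • xx j = mk (pm (σ none) (σ j)) := by
    have : ((mono σ hσ c hc • pp none j : leechLattice) : GolayPt → ℤ) = _ := signedPerm_v44 σ c none j 1 1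
    rw [xx, smul_mk _ (pp_pp _ _), e]
    split_ifs at this
    · exact Or.inl ((congrArg mk (Subtype.ext (this.trans (funext fun k => by
        simp only [v44_apply, AddSubgroup.coe_neg, Pi.neg_apply, pp_apply]; split_ifs <;> norm_num)))).trans (mk_neg _))
    · exact Or.inr ((congrArg mk (Subtype.ext (this.trans (funext fun k => by
        simp only [v44_apply, AddSubgroup.coe_neg, Pi.neg_apply, pm_apply]; split_ifs <;> norm_num)))).trans (mk_neg _))
    · exact Or.inr (congrArg mk (Subtype.ext this))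
    · exact Or.inl (congrArg mk (Subtype.ext this))
  rw [mk_pm, mk_pp] at k
  obtain ⟨t1, t2⟩ := tb_pp p hj n
  rcases q with q | q <;> rw [q] at k <;> rcases k with k | k <;> rcases h j hj with f | f <;> rw [f] at k <;>
    first
    | exact t1.ne (by linear_combination k + (xx (σ j) + bb) * two0)
    | exact t2.ne (by linear_combination k + (xx (σ j) + bb) * two0)
    | exact t1.ne (by linear_combination k + (xx (σ j) + 2 * bb) * two0)
    | exact t2.ne (by linear_combination k + xx (σ j) * two0)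

theorem fix_U {a : V} (h : ∀ γ : C2, Ux γ → γ • a = a) : a = 0 ∨ a = tb := by
  have p : Pt (some 2) := by unfold Pt; decide
  obtain ⟨γ, g1, g2⟩ := om_U (om_xx p (by decide)).1
  have k : γ • (tb + bb) ≠ tb + bb := fun e => (om_xx p (by decide)).2.2.2 (by
    rw [smul_left_cancel γ (g2.trans e.symm), add_assoc, add_self, add_zero])
  rcases fix_R0 fun ε h1 h2 => h ε (h1.ux h2) with e | e | e | e
  exacts [Or.inl e, Or.inr e, (k (by rw [smul_add, g1.tb, ← e, h γ g1])).elim, (k (e ▸ h γ g1)).elim]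

/-- an involution fixing a subgroup of index at most 8 is trivial -/
theorem fix8 {γ : C2} (h : γ * γ = 1) {K : AddSubgroup V} (hK : ∀ a ∈ K, γ • a = a) (c : 2 ^ 19 ≤ Nat.card K) :
    γ = 1 := by
  by_contra n
  have h1 := inv32 h n
  have h2 := card_perp K
  have h3 : Nat.card (rg γ) ≤ Nat.card (perp K) := AddSubgroup.card_le_of_le fun a ha x hx => by
    obtain ⟨b, rfl⟩ := mem_rg.1 ha
    exact VB.be_comm_fix (hK x hx) b
  nlinarith

theorem card_hyp (B : AddSubgroup V) (a : V) :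
    Nat.card B ≤ 2 * Nat.card ↥(B ⊓ (be a).toAddMonoidHom.ker) := card_le_two fun x hx y hy => by
  rcases z2 (be a x) with e | e
  · exact Or.inl ⟨hx, e⟩
  rcases z2 (be a y) with f | f
  · exact Or.inr (Or.inl ⟨hy, f⟩)
  · exact Or.inr (Or.inr ⟨add_mem hx hy, (be_add_right _ _ _).trans (by rw [e, f]; rfl)⟩)

theorem exists_ns (a : V) : ∃ x, be x tb = 0 ∧ be x a = 0 ∧ qq x = 1 := by
  by_contra! n
  have h1 := card_hyp ⊤ tb
  have h2 := card_hyp (⊤ ⊓ (be tb).toAddMonoidHom.ker) a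
  have k : ∀ x ∈ ⊤ ⊓ (be tb).toAddMonoidHom.ker ⊓ (be a).toAddMonoidHom.ker, qq x = 0 := fun x hx =>
    (z2 _).resolve_right (n x ((be_comm _ _).trans hx.1.2) ((be_comm _ _).trans hx.2))
  have h3 := card_isotropic fun x hx y hy => by
    simpa [qq_add, k x hx, k y hy] using k _ (add_mem hx hy)
  rw [AddSubgroup.card_top, card_V] at h1
  omega

theorem exists_ta (a : V) : ∃ x, TA x ∧ be x a = 0 := by
  by_contra! n
  have o : ∀ x, Om x → be a x = 1 := fun x hx => (z2 _).resolve_left fun e => n x hx.1 ((be_comm _ _).trans e)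
  exact n _ ta_tb ((be_comm _ _).trans (VB.span20 (K := (be a).toAddMonoidHom.ker) (fun ε _ h2 =>
    (be_add_right _ _ _).trans (by rw [o _ (VB.om_oo.smul h2), o _ VB.om_oo]; rfl)) (be_self _) be_tb_bb))

end H18.BS
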